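import Mathlib

/-!
# Subgroups of order five of four-dimensional groups when five has order four
-/

set_option autoImplicit false
set_option linter.unusedSectionVars false
set_option linter.style.haveILetI false

namespace Cfsg.Agent.Symp4

open Matrix Polynomial

variable {ι : Type} [Fintype ι] [DecidableEq ι] {F : Type*} [Field F]

theorem cyclotomic_five_irreducible [Fintype F] {p : ℕ} [Fact p.Prime] (hF : Fintype.card F = p)
    (h : orderOf (p : ZMod 5) = 4) : Irreducible (cyclotomic 5 F) := by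
  have hp5 : p ≠ 5 := by
    rintro rfl
    rw [show ((5 : ℕ) : ZMod 5) = 0 from rfl, orderOf_zero] at h
    omega
  have hcop : p.Coprime 5 := (Nat.coprime_primes Fact.out (by norm_num)).2 hp5
  refine Polynomial.irreducible_of_dvd_cyclotomic_of_natDegree (f := 1) (by rw [pow_one]; exact hF) hcop
    dvd_rfl ?_
  rw [natDegree_cyclotomic, ← orderOf_units, ZMod.coe_unitOfCoprime, pow_one, h]
  rfl

/-- A matrix commuting with one of order five is one of its powers if it has exponent five. -/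
theorem eq_pow_of_commute (hd : Fintype.card ι = 4) (hirr : Irreducible (cyclotomic 5 F))
    (c M : Matrix ι ι F) (hc : c ^ 5 = 1) (hc1 : c ≠ 1) (hM : M * c = c * M) (hM5 : M ^ 5 = 1) :
    ∃ k : ℕ, M = c ^ k := by
  haveI : Fact (Nat.Prime 5) := ⟨by norm_num⟩
  set Φ := cyclotomic 5 F with hΦ
  have hdeg : Φ.natDegree = 4 := by rw [hΦ, natDegree_cyclotomic]; rfl
  obtain ⟨v, hv⟩ : ∃ v, c *ᵥ v - v ≠ 0 := by
    by_contra hcon
    push Not at hcon
    exact hc1 (Matrix.ext_iff_mulVec.2 fun x => by rw [Matrix.one_mulVec]; exact sub_eq_zero.1 (hcon x))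
  set w := c *ᵥ v - v with hw
  have hΦw : (aeval c Φ) *ᵥ w = 0 := by
    have h0 : aeval c (Φ * (X - 1)) = 0 := by
      rw [hΦ, cyclotomic_prime_mul_X_sub_one, map_sub, map_pow, aeval_X, hc, map_one, sub_self]
    rw [map_mul, map_sub, aeval_X, map_one] at h0
    rw [hw, show c *ᵥ v - v = (c - 1) *ᵥ v by rw [Matrix.sub_mulVec, Matrix.one_mulVec],
      Matrix.mulVec_mulVec, h0, Matrix.zero_mulVec]
  let L : degreeLT F 4 →ₗ[F] (ι → F) :=
    { toFun := fun f => aeval c f.1 *ᵥ w
      map_add' := fun f g => by rw [Submodule.coe_add, map_add, Matrix.add_mulVec]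
      map_smul' := fun a f => by rw [Submodule.coe_smul, map_smul, Matrix.smul_mulVec]; rfl }
  have hinj : Function.Injective L := by
    refine (injective_iff_map_eq_zero L).2 fun f hf => ?_
    by_contra hf0
    have hf0' : f.1 ≠ 0 := fun h => hf0 (Subtype.ext h)
    have hnd : ¬ Φ ∣ f.1 := fun hd' => by
      have h1 := natDegree_le_of_dvd hd' hf0'
      have h2 := mem_degreeLT.1 f.2
      rw [degree_eq_natDegree hf0', Nat.cast_lt] at h2
      omega
    obtain ⟨a, b, hab⟩ := (hirr.coprime_iff_not_dvd.2 hnd)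
    have h1 : aeval c (a * Φ + b * f.1) *ᵥ w = 0 := by
      have hf' : aeval c f.1 *ᵥ w = 0 := hf
      rw [map_add, map_mul, map_mul, Matrix.add_mulVec, ← Matrix.mulVec_mulVec, ← Matrix.mulVec_mulVec,
        hΦw, hf', Matrix.mulVec_zero, Matrix.mulVec_zero, add_zero]
    rw [hab, map_one, Matrix.one_mulVec] at h1
    exact hv h1
  haveI : Module.Finite F (degreeLT F 4) := Module.Finite.equiv (degreeLTEquiv F 4).symm
  have hsurj : Function.Surjective L :=
    (LinearMap.injective_iff_surjective_of_finrank_eq_finrank (by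
      rw [(degreeLTEquiv F 4).finrank_eq, Module.finrank_pi, Module.finrank_pi, Fintype.card_fin, hd])).1 hinj
  have hext : ∀ A : Matrix ι ι F, A * c = c * A → A *ᵥ w = 0 → A = 0 := by
    intro A hA hAw
    refine Matrix.ext_iff_mulVec.2 fun x => ?_
    obtain ⟨f, rfl⟩ := hsurj x
    have hcomm : Commute A (aeval c f.1) :=
      Algebra.commute_of_mem_adjoin_singleton_of_commute (Polynomial.aeval_mem_adjoin_singleton _ _) hA
    show A *ᵥ (aeval c f.1 *ᵥ w) = 0 *ᵥ _
    rw [Matrix.mulVec_mulVec, hcomm.eq, ← Matrix.mulVec_mulVec, hAw, Matrix.mulVec_zero, Matrix.zero_mulVec]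
  have hΦ0 : aeval c Φ = 0 := hext _
    ((Algebra.commute_of_mem_adjoin_self (Polynomial.aeval_mem_adjoin_singleton _ _)).symm) hΦw
  obtain ⟨f, hf⟩ := hsurj (M *ᵥ w)
  have hMf : M = aeval c f.1 := by
    refine sub_eq_zero.1 (hext _ ?_ ?_)
    · rw [Matrix.sub_mul, Matrix.mul_sub, hM,
        (Algebra.commute_of_mem_adjoin_self (R := F) (a := c) (b := aeval c f.1)
          (Polynomial.aeval_mem_adjoin_singleton _ _)).eq]
    · rw [Matrix.sub_mulVec, sub_eq_zero]
      exact hf.symm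
  -- work in the field of fifth roots of unity
  haveI : Fact (Irreducible Φ) := ⟨hirr⟩
  haveI : NeZero ((5 : ℕ) : F) := ⟨fun h0 => by
    have h5 : Φ * (X - 1) = (X - 1) ^ 5 := by
      rw [hΦ, cyclotomic_prime_mul_X_sub_one]
      haveI : CharP F 5 := (CharP.charP_iff_prime_eq_zero (by norm_num)).2 h0
      rw [sub_pow_char, one_pow]
    have h1 : Φ ∣ X - 1 := hirr.prime.dvd_of_dvd_pow (Dvd.intro _ h5)
    have h2 := natDegree_le_of_dvd h1 (X_sub_C_ne_zero (1 : F))
    rw [show natDegree (X - 1 : F[X]) = 1 from natDegree_X_sub_C 1] at h2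
    omega⟩
  haveI : NeZero ((5 : ℕ) : AdjoinRoot Φ) := by
    simpa using! NeZero.of_injective (algebraMap F (AdjoinRoot Φ)).injective
  have hroot : IsPrimitiveRoot (AdjoinRoot.root Φ) 5 := by
    rw [← isRoot_cyclotomic_iff, ← map_cyclotomic 5 (AdjoinRoot.of Φ)]
    exact AdjoinRoot.isRoot_root Φ
  have h5 : (AdjoinRoot.mk Φ f.1) ^ 5 = 1 := by
    rw [← map_pow, ← map_one (AdjoinRoot.mk Φ), AdjoinRoot.mk_eq_mk]
    by_contra hnd
    obtain ⟨a, b, hab⟩ := (hirr.coprime_iff_not_dvd.2 hnd)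
    have h1 := congrArg (aeval c) hab
    rw [map_add, map_mul, map_mul, hΦ0, map_sub, map_pow, ← hMf, hM5, map_one, sub_self, mul_zero, mul_zero,
      add_zero] at h1
    haveI : Nonempty ι := Fintype.card_pos_iff.1 (by omega)
    exact zero_ne_one h1
  obtain ⟨k, -, hk⟩ := hroot.eq_pow_of_pow_eq_one h5
  rw [← AdjoinRoot.mk_X, ← map_pow, AdjoinRoot.mk_eq_mk] at hk
  obtain ⟨q, hq⟩ := hk
  refine ⟨k, ?_⟩
  have h1 := congrArg (aeval c) hq
  rw [map_sub, map_pow, aeval_X, map_mul, hΦ0, zero_mul, ← hMf, sub_eq_zero] at h1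
  exact h1.symm

/-- Subgroups of prime order `r` are conjugate if commuting elements of order `r` are dependent. -/
theorem conj_of_dependent {G : Type*} [Group G] [Finite G] {r : ℕ} [Fact r.Prime]
    (hdep : ∀ a b : G, orderOf a = r → orderOf b = r → a * b = b * a → b ∈ Subgroup.zpowers a)
    {x y : G} (hx : orderOf x = r) (hy : orderOf y = r) :
    ∃ g : G, g⁻¹ * x * g ∈ Subgroup.zpowers y := by
  have hpx : IsPGroup r (Subgroup.zpowers x) :=
    IsPGroup.of_card (n := 1) (by rw [Nat.card_zpowers, hx, pow_one])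
  have hpy : IsPGroup r (Subgroup.zpowers y) :=
    IsPGroup.of_card (n := 1) (by rw [Nat.card_zpowers, hy, pow_one])
  obtain ⟨P, hP⟩ := hpx.exists_le_sylow
  obtain ⟨Q, hQ⟩ := hpy.exists_le_sylow
  obtain ⟨g, hg⟩ := MulAction.exists_smul_eq G P Q
  have hxQ : g * x * g⁻¹ ∈ Q := by
    rw [← hg]
    have hxP : x ∈ (P : Subgroup G) := hP (Subgroup.mem_zpowers x)
    exact ⟨x, hxP, rfl⟩
  have hyQ : y ∈ Q := hQ (Subgroup.mem_zpowers y)
  haveI : Nontrivial (Q : Subgroup G) := ⟨⟨⟨y, hyQ⟩, 1, fun h => by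
    rw [show y = 1 from congrArg Subtype.val h, orderOf_one] at hy
    exact (Fact.out : r.Prime).one_lt.ne hy⟩⟩
  haveI := Q.isPGroup'.center_nontrivial
  obtain ⟨n, hn, hcard⟩ :=
    ((Q.isPGroup'.to_subgroup (Subgroup.center (Q : Subgroup G))).nontrivial_iff_card).1 inferInstance
  obtain ⟨c, hc⟩ := exists_prime_orderOf_dvd_card' r (show r ∣ Nat.card (Subgroup.center (Q : Subgroup G)) by
    rw [hcard]; exact dvd_pow_self r (by omega))
  rw [← Subgroup.orderOf_coe, ← Subgroup.orderOf_coe] at hc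
  have key : ∀ z : G, z ∈ Q → orderOf z = r → z ∈ Subgroup.zpowers ((c : (Q : Subgroup G)) : G) :=
    fun z hz hzr => hdep _ z hc hzr
      (congrArg Subtype.val (Subgroup.mem_center_iff.1 c.2 ⟨z, hz⟩).symm)
  have hgx : orderOf (g * x * g⁻¹) = r := by
    rw [← hx]
    exact MulEquiv.orderOf_eq (MulAut.conj g) x
  have h1 := key _ hxQ hgx
  have h2 := key y hyQ hy
  have heq : Subgroup.zpowers y = Subgroup.zpowers ((c : (Q : Subgroup G)) : G) :=
    Subgroup.eq_of_le_of_card_ge (Subgroup.zpowers_le.2 h2) (by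
      rw [Nat.card_zpowers, Nat.card_zpowers, hc, hy])
  refine ⟨g⁻¹, ?_⟩
  rw [inv_inv, heq]
  exact h1

end Cfsg.Agent.Symp4
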