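import Cfsg.Agent.Symp4.Shift
import Cfsg.Agent.Symp4.Five

/-!
# Standard elements of the normaliser when the centre has order four
-/

set_option autoImplicit false
set_option linter.unusedSectionVars false
set_option linter.style.haveILetI false

namespace Cfsg.Agent.Symp4

open Matrix

variable {ι : Type} [Fintype ι] [DecidableEq ι] {F : Type*} [Field F] {R : Subgroup (GL ι F)}

theorem sq_val {u : GL ι F} {s : Matrix ι ι F} (h : ((u * u : GL ι F) : Matrix ι ι F) = s) :
    (u : Matrix ι ι F) * (u : Matrix ι ι F) = s := by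
  rw [← Units.val_mul, h]

theorem isUnit_one_add {u : Matrix ι ι F} {c : F} (hu : u * u = u) (hc : 1 + c ≠ 0) :
    IsUnit (1 + c • u) := by
  refine IsUnit.of_mul_eq_one (1 + (-(c / (1 + c))) • u) ?_
  rw [Matrix.add_mul, Matrix.mul_add, Matrix.mul_add, Matrix.one_mul, Matrix.one_mul, Matrix.mul_one,
    smul_mul_smul_comm, hu, add_assoc, ← add_smul, ← add_smul,
    show -(c / (1 + c)) + (c + c * -(c / (1 + c))) = 0 by field_simp; ring, zero_smul, add_zero]

/-- An idempotent of trace one, other than the identity, is a product of a column and a row. -/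
theorem exists_vecMulVec (hd : Fintype.card ι = 4) (h2 : (2 : F) ≠ 0) {e : Matrix ι ι F} (he : e * e = e)
    (htr : e.trace = 1) (hne : e ≠ 1) :
    ∃ u w : ι → F, e = Matrix.vecMulVec u w ∧ w ⬝ᵥ u = 1 := by
  classical
  let f : (ι → F) →ₗ[F] (ι → F) := Matrix.toLin' e
  have hproj : LinearMap.IsProj (LinearMap.range f) f := by
    refine ⟨fun x => LinearMap.mem_range_self f x, fun x hx => ?_⟩
    obtain ⟨z, rfl⟩ := hx
    show e *ᵥ (e *ᵥ z) = e *ᵥ z
    rw [Matrix.mulVec_mulVec, he]
  have htr' : ((Module.finrank F (LinearMap.range f) : ℕ) : F) = 1 := by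
    rw [← hproj.trace, LinearMap.trace_eq_matrix_trace F (Pi.basisFun F ι),
      LinearMap.toMatrix_eq_toMatrix', LinearMap.toMatrix'_toLin', htr]
  have hle : Module.finrank F (LinearMap.range f) ≤ 4 :=
    (Submodule.finrank_le _).trans (by rw [Module.finrank_pi, hd])
  have hr : Module.finrank F (LinearMap.range f) = 1 := by
    interval_cases hn : Module.finrank F (LinearMap.range f)
    · simp at htr'
    · rfl
    · exfalso
      push_cast at htr'
      exact one_ne_zero (show (1 : F) = 0 by linear_combination htr')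
    · exfalso
      push_cast at htr'
      exact h2 (by linear_combination htr')
    · exfalso
      have htop : LinearMap.range f = ⊤ :=
        Submodule.eq_top_of_finrank_eq (by rw [hn, Module.finrank_pi, hd])
      refine hne (Matrix.ext_iff_mulVec.2 fun v => ?_)
      rw [Matrix.one_mulVec]
      exact hproj.2 v (htop ▸ Submodule.mem_top)
  obtain ⟨⟨u, hu⟩, -, hspan⟩ := finrank_eq_one_iff'.1 hr
  choose c hc using fun j : ι => hspan ⟨f (Pi.single j 1), LinearMap.mem_range_self f _⟩
  have hev : e = Matrix.vecMulVec u c := by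
    ext i j
    have h1 := congrFun (congrArg Subtype.val (hc j)) i
    simp only [SetLike.val_smul, Pi.smul_apply, smul_eq_mul, f, Matrix.toLin'_apply,
      Matrix.mulVec_single_one, Matrix.col_apply] at h1
    rw [Matrix.vecMulVec_apply, mul_comm]
    exact h1.symm
  refine ⟨u, c, hev, ?_⟩
  rw [dotProduct_comm, ← Matrix.trace_vecMulVec, ← hev, htr]

theorem det_one_add (hd : Fintype.card ι = 4) (h2 : (2 : F) ≠ 0) {e : Matrix ι ι F} (he : e * e = e)
    (htr : e.trace = 1) (hne : e ≠ 1) (c : F) : (1 + c • e).det = 1 + c := by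
  obtain ⟨u, w, rfl, hw⟩ := exists_vecMulVec hd h2 he htr hne
  rw [show c • Matrix.vecMulVec u w =
      Matrix.replicateCol Unit (c • u) * Matrix.replicateRow Unit w by
    ext i j
    simp [Matrix.vecMulVec_apply, Matrix.mul_apply]
    ring, Matrix.det_one_add_replicateCol_mul_replicateRow, dotProduct_smul, hw, smul_eq_mul, mul_one]

namespace Setting

variable (h : Setting R)
include h

omit h in
theorem mem_normalizer_of_le [Finite R] {w : GL ι F} (hle : R ≤ R.comap (MulAut.conj w).toMonoidHom) :
    w ∈ Cfsg.Geo.subgroupNormalizer R := by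
  have hle' : R.map (MulAut.conj w).toMonoidHom ≤ R := Subgroup.map_le_iff_le_comap.2 hle
  have heq : R.map (MulAut.conj w).toMonoidHom = R :=
    Subgroup.eq_of_le_of_card_ge hle' (le_of_eq
      (Nat.card_congr (R.equivMapOfInjective _ (MulAut.conj w).injective).toEquiv))
  show w ∈ Subgroup.normalizer (R : Set (GL ι F))
  rw [Subgroup.mem_normalizer_iff]
  refine fun z => ⟨fun hx => hle hx, fun hx => ?_⟩
  have hx' : (MulAut.conj w).toMonoidHom z ∈ R.map (MulAut.conj w).toMonoidHom := by rw [heq]; exact hx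
  obtain ⟨v, hv, hvz⟩ := Subgroup.mem_map.1 hx'
  rwa [← (MulAut.conj w).injective hvz]

/-- A scalar square root of minus one in the group. -/
theorem exists_i (hz : Nat.card (Subgroup.center R) = 4) :
    ∃ t : GL ι F, t ∈ R ∧ (∀ g, t * g = g * t) ∧ t * t = -1 ∧
      ∃ c : F, (t : Matrix ι ι F) = c • 1 ∧ c * c = -1 := by
  classical
  haveI := h.finite
  obtain ⟨i⟩ := h.nonempty
  have key : ∀ z : R, z ∈ Subgroup.center R → (z : GL ι F) * z = 1 → (z : GL ι F) = 1 ∨ (z : GL ι F) = -1 := by
    intro z hzc e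
    obtain ⟨c, hc⟩ := h.scalar (mem_center_iff'.1 hzc)
    have e' := congrArg (fun w : GL ι F => (w : Matrix ι ι F) i i) e
    simp [hc] at e'
    exact gl_eq_scalar_mul (w := 1) hc rfl (mul_self_eq_one_iff.1 e')
  obtain ⟨z, hzc, hne⟩ : ∃ z : R, z ∈ Subgroup.center R ∧ ¬ (z : GL ι F) * z = 1 := by
    by_contra hcon
    push Not at hcon
    have hsub : (Subgroup.center R : Set R) ⊆ {1, ⟨-1, h.neg⟩} := fun z hz' => by
      rcases key z hz' (hcon z hz') with e | e
      · exact Or.inl (Subtype.ext e)
      · exact Or.inr (Subtype.ext e)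
    have h1 := Set.ncard_le_ncard hsub (Set.toFinite _)
    have h2 : ({1, ⟨-1, h.neg⟩} : Set R).ncard ≤ 2 :=
      (Set.ncard_insert_le _ _).trans (by simp)
    have h3 : (Subgroup.center R : Set R).ncard = 4 := by rw [← Nat.card_coe_set_eq]; exact hz
    omega
  have hsq := (h.sq _ z.2).resolve_left hne
  obtain ⟨c, hc⟩ := h.scalar (mem_center_iff'.1 hzc)
  refine ⟨z, z.2, h.central_comm (mem_center_iff'.1 hzc), hsq, c, hc, ?_⟩
  have e' := congrArg (fun w : GL ι F => (w : Matrix ι ι F) i i) hsq
  simpa [hc] using e'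

/-- Two commuting pairs of anticommuting elements, all of square minus one. -/
theorem exists_quad_neg (hz : Nat.card (Subgroup.center R) = 4) :
    ∃ x y a b, Quad R x y a b ∧ x * x = -1 ∧ y * y = -1 ∧ a * a = -1 ∧ b * b = -1 := by
  obtain ⟨t, ht, htc, htt, -⟩ := h.exists_i hz
  have key : ∀ {x y a b : GL ι F}, Quad R x y a b → ∃ x', Quad R x' y a b ∧ x' * x' = -1 := by
    intro x y a b q
    rcases h.sq x q.hx with e | e
    · exact ⟨t * x, q.scale ht htc, by
        rw [(show Commute x t from (htc x).symm).mul_mul_mul_comm, htt, e, mul_one]⟩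
    · exact ⟨x, q, e⟩
  obtain ⟨x, y, a, b, q⟩ := h.exists_quad
  obtain ⟨x', q1, hx⟩ := key q
  obtain ⟨y', q2, hy⟩ := key q1.swap_left
  obtain ⟨a', q3, ha⟩ := key q2.swap_left.swap
  obtain ⟨b', q4, hb⟩ := key q3.swap_left
  exact ⟨x', y', a', b', q4.swap_left.swap, hx, hy, ha, hb⟩

theorem exists_frame_four (hz : Nat.card (Subgroup.center R) = 4) : Nonempty (Frame R) := by
  obtain ⟨t, ht, htc, htt, -⟩ := h.exists_i hz
  obtain ⟨x, y, a, b, q, hx, hy, ha, hb⟩ := h.exists_quad_neg hz
  have q' := ((q.scale ht htc).swap_left.scale ht htc).swap_left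
  refine h.frame_of_quad q' ?_ ?_ ha hb
  · rw [(show Commute x t from (htc x).symm).mul_mul_mul_comm, htt, hx, neg_mul_neg, one_mul]
  · rw [(show Commute y t from (htc y).symm).mul_mul_mul_comm, htt, hy, neg_mul_neg, one_mul]

/-- The normalising element cycling a pair of elements of square minus one and their product. -/
theorem exists_rot {x y a b : GL ι F} (q : Quad R x y a b) (hx : x * x = -1) (hy : y * y = -1) :
    ∃ w : GL ι F, (w : Matrix ι ι F) = (2 : F)⁻¹ • (1 + ((x : Matrix ι ι F) + y + (x : Matrix ι ι F) * y)) ∧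
      (w : Matrix ι ι F) * (w : Matrix ι ι F) = (w : Matrix ι ι F) - 1 ∧ w * x = y * w ∧
      Commute w a ∧ Commute w b ∧ w ∈ Cfsg.Geo.subgroupNormalizer R := by
  haveI := h.finite
  set i : Matrix ι ι F := (x : Matrix ι ι F)
  set j : Matrix ι ι F := (y : Matrix ι ι F)
  have hii : i * i = -1 := sq_val (by rw [hx]; simp)
  have hjj : j * j = -1 := sq_val (by rw [hy]; simp)
  have hji : j * i = -(i * j) := by
    rw [← Units.val_mul, show y * x = -(x * y) by rw [q.xy, neg_neg], Units.val_neg, Units.val_mul]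
  set s := i + j + i * j with hs
  set W : Matrix ι ι F := (2 : F)⁻¹ • (1 + s) with hW
  have hiij : i * (i * j) = -j := by rw [← mul_assoc, hii, neg_one_mul]
  have hiji : i * j * i = j := by rw [mul_assoc, hji, mul_neg, hiij, neg_neg]
  have hjij : j * (i * j) = i := by rw [← mul_assoc, hji, neg_mul, mul_assoc, hjj, mul_neg_one, neg_neg]
  have hijj : i * j * j = -i := by rw [mul_assoc, hjj, mul_neg_one]
  have hijij : i * j * (i * j) = -1 := by rw [mul_assoc, hjij, hii]
  have hss : s * s = -(3 : F) • (1 : Matrix ι ι F) := by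
    rw [hs]
    simp only [add_mul, mul_add, hii, hjj, hji, hiij, hiji, hjij, hijj, hijij, neg_smul]
    rw [show ((3 : F) • (1 : Matrix ι ι F)) = 1 + 1 + 1 by
      rw [show (3 : F) = 1 + 1 + 1 by norm_num, add_smul, add_smul, one_smul]]
    abel
  have h2 := h.two
  have hww : W * W = W - 1 := by
    rw [hW, smul_mul_smul_comm]
    simp only [add_mul, mul_add, one_mul, mul_one, hss]
    ext u v
    simp only [Matrix.smul_apply, Matrix.add_apply, Matrix.sub_apply, smul_eq_mul]
    field_simp
    ring
  have hwi : W * i = j * W := by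
    rw [hW, smul_mul_assoc, mul_smul_comm, hs]
    congr 1
    simp only [add_mul, mul_add, one_mul, mul_one, hii, hjj, hji, hiji, hjij]
    abel
  have hwj : W * j = (i * j) * W := by
    rw [hW, smul_mul_assoc, mul_smul_comm, hs]
    congr 1
    simp only [add_mul, mul_add, one_mul, mul_one, hjj, hiji, hijj, hijij]
    abel
  have hu : IsUnit W := IsUnit.of_mul_eq_one (1 - W) (by rw [mul_sub, mul_one, hww]; abel)
  obtain ⟨w, hw⟩ := hu
  have hwc : ∀ {c : GL ι F}, x * c = c * x → y * c = c * y → Commute w c := by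
    intro c h1 h2
    have e1 : Commute i (c : Matrix ι ι F) := congrArg Units.val h1
    have e2 : Commute j (c : Matrix ι ι F) := congrArg Units.val h2
    refine Units.ext ?_
    rw [Units.val_mul, Units.val_mul, hw]
    exact (((Commute.one_left _).add_left ((e1.add_left e2).add_left (e1.mul_left e2))).smul_left _).eq
  have hwx : w * x = y * w := Units.ext (by rw [Units.val_mul, Units.val_mul, hw, hwi])
  have hwy : w * y = x * y * w := Units.ext (by
    rw [Units.val_mul, Units.val_mul, Units.val_mul, hw, hwj])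
  have hwa := hwc q.xa q.ya
  have hwb := hwc q.xb q.yb
  refine ⟨w, hw, by rw [hw]; exact hww, hwx, hwa, hwb, ?_⟩
  let T : Subgroup (GL ι F) := R.comap (MulAut.conj w).toMonoidHom
  have hle : R ≤ T := h.gen_of_quad q T
    (show w * x * w⁻¹ ∈ R by rw [hwx, mul_inv_cancel_right]; exact q.hy)
    (show w * y * w⁻¹ ∈ R by rw [hwy, mul_inv_cancel_right]; exact mul_mem q.hx q.hy)
    (show w * a * w⁻¹ ∈ R by rw [hwa.eq, mul_inv_cancel_right]; exact q.ha)
    (show w * b * w⁻¹ ∈ R by rw [hwb.eq, mul_inv_cancel_right]; exact q.hb)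
    (fun z hz hc => show w * z * w⁻¹ ∈ R by rw [← h.central_comm hc w, mul_inv_cancel_right]; exact hz)
  exact mem_normalizer_of_le hle

end Setting

end Cfsg.Agent.Symp4
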