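import Cfsg.Agent.Symp4.SpFour

/-!
# Elements of prime order and the normaliser of the two-group in the symplectic group
-/

set_option autoImplicit false
set_option linter.unusedSectionVars false
set_option linter.style.haveILetI false

namespace Cfsg.Agent.Symp4

open Matrix

variable {F : Type*} [Field F] {R : Subgroup (GL (Fin 2 ⊕ Fin 2) F)}

local notation "M4" => Matrix (Fin 2 ⊕ Fin 2) (Fin 2 ⊕ Fin 2) F

theorem eq_neg_one_of_scalar (h : Setting R) {z : GL (Fin 2 ⊕ Fin 2) F} (hz : z ∈ R)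
    (hz2 : Nat.card (Subgroup.center R) = 2) (hc : ∀ g ∈ R, z * g = g * z) : z = 1 ∨ z = -1 := by
  haveI := h.finite
  rcases h.sq z hz with e | e
  · obtain ⟨c, hcz⟩ := h.scalar hc
    have e' := congrArg (fun w : GL (Fin 2 ⊕ Fin 2) F => (w : M4) (Sum.inl 0) (Sum.inl 0)) e
    simp [hcz] at e'
    exact gl_eq_scalar_mul (w := 1) hcz rfl (mul_self_eq_one_iff.1 e')
  · exfalso
    have hmem : (⟨z, hz⟩ : R) ∈ Subgroup.center R := mem_center_iff'.2 hc
    have h1 : (⟨⟨z, hz⟩, hmem⟩ : Subgroup.center R) ^ 2 = 1 := by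
      have h0 := pow_card_eq_one' (x := (⟨⟨z, hz⟩, hmem⟩ : Subgroup.center R))
      rwa [hz2] at h0
    have h2 : z * z = 1 := by
      have h3 := congrArg (fun w : Subgroup.center R => ((w : R) : GL (Fin 2 ⊕ Fin 2) F)) h1
      simpa [pow_two] using h3
    rw [e] at h2
    have h3 := congrArg (fun w : GL (Fin 2 ⊕ Fin 2) F => (w : M4) (Sum.inl 0) (Sum.inl 0)) h2
    simp at h3
    exact h.two (by linear_combination -h3)

/-- No elementary abelian subgroup of order eight. -/
theorem no_commuting_involutions (h : Setting R) (hm : Cfsg.Geo.IsOfMinusType 2 R)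
    {a b : GL (Fin 2 ⊕ Fin 2) F} (ha : a ∈ R) (hb : b ∈ R) (hca : ¬ ∀ g ∈ R, a * g = g * a)
    (ha2 : a * a = 1) (hb2 : b * b = 1) (hab : a * b = b * a) :
    b = 1 ∨ b = -1 ∨ b = a ∨ b = -a := by
  by_contra hcon
  push Not at hcon
  obtain ⟨hb1, hb3, hb4, hb5⟩ := hcon
  haveI := h.finite
  have hne1 : (-1 : GL (Fin 2 ⊕ Fin 2) F) ≠ 1 := fun e => by
    have := congrArg (fun z : GL (Fin 2 ⊕ Fin 2) F => (z : M4) (Sum.inl 0) (Sum.inl 0)) e
    simp at this
    exact h.two (by linear_combination -this)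
  set m : R := ⟨-1, h.neg⟩ with hm'
  set u : R := ⟨a, ha⟩ with hu
  set w : R := ⟨b, hb⟩ with hw
  let A : Subgroup R := Subgroup.closure {m, u, w}
  have hgen : ∀ x ∈ ({m, u, w} : Set R), ∀ z ∈ ({m, u, w} : Set R), x * z = z * x := by
    rintro x (rfl | rfl | rfl) z (rfl | rfl | rfl) <;> refine Subtype.ext ?_ <;>
      simp [hm', hu, hw, hab]
  have hAc : IsMulCommutative A := Subgroup.isMulCommutative_closure hgen
  have hA2 : ∀ x ∈ A, x * x = 1 := by
    intro x hx
    induction hx using Subgroup.closure_induction with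
    | mem x hx => rcases hx with rfl | rfl | rfl <;> refine Subtype.ext ?_ <;> simp [hm', hu, hw, ha2, hb2]
    | one => rw [one_mul]
    | mul x z hx hz ex ez =>
      have e : x * z = z * x := congrArg Subtype.val (hAc.is_comm.comm (⟨x, hx⟩ : A) ⟨z, hz⟩)
      calc x * z * (x * z) = x * (z * x) * z := by group
        _ = x * (x * z) * z := by rw [e]
        _ = (x * x) * (z * z) := by group
        _ = 1 := by rw [ex, ez, one_mul]
    | inv x _ ex => rw [← _root_.mul_inv_rev, ex, inv_one]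
  have hlt := hm A hAc hA2
  let A1 : Subgroup R := Subgroup.closure {m}
  let A2 : Subgroup R := Subgroup.closure {m, u}
  have h1 : ∀ x ∈ A1, (x : GL (Fin 2 ⊕ Fin 2) F) = 1 ∨ (x : GL (Fin 2 ⊕ Fin 2) F) = -1 := by
    intro x hx
    induction hx using Subgroup.closure_induction with
    | mem x hx => subst hx; simp [hm']
    | one => simp
    | mul x z _ _ ex ez => rcases ex with e | e <;> rcases ez with e' | e' <;> simp [e, e']
    | inv x _ ex => rcases ex with e | e <;> simp [e]
  have h2 : ∀ x ∈ A2, (x : GL (Fin 2 ⊕ Fin 2) F) = 1 ∨ (x : GL (Fin 2 ⊕ Fin 2) F) = -1 ∨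
      (x : GL (Fin 2 ⊕ Fin 2) F) = a ∨ (x : GL (Fin 2 ⊕ Fin 2) F) = -a := by
    have ia : a⁻¹ = a := inv_eq_of_mul_eq_one_right ha2
    have ina : (-a)⁻¹ = -a := inv_eq_of_mul_eq_one_right (by rw [neg_mul_neg, ha2])
    intro x hx
    induction hx using Subgroup.closure_induction with
    | mem x hx => rcases hx with rfl | rfl <;> simp [hm', hu]
    | one => simp
    | mul x z _ _ ex ez =>
      rcases ex with e | e | e | e <;> rcases ez with e' | e' | e' | e' <;> simp [e, e', ha2]
    | inv x _ ex => rcases ex with e | e | e | e <;> simp [e, ia, ina]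
  have hdbl : ∀ {B C : Subgroup R}, B ≤ C → (∃ x ∈ C, x ∉ B) → 2 * Nat.card B ≤ Nat.card C := by
    intro B C hBC ⟨x, hxC, hxB⟩
    obtain ⟨k, hk⟩ := Subgroup.card_dvd_of_le hBC
    have hlt' : Nat.card B < Nat.card C := by
      refine lt_of_le_of_ne (Subgroup.card_le_of_le hBC) fun e => hxB ?_
      rw [Subgroup.eq_of_le_of_card_ge hBC e.ge]
      exact hxC
    rw [hk] at hlt' ⊢
    rcases k with _ | _ | k
    · omega
    · omega
    · nlinarith
  have c1 : 2 * Nat.card (⊥ : Subgroup R) ≤ Nat.card A1 :=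
    hdbl bot_le ⟨m, Subgroup.subset_closure rfl, fun e => hne1 (congrArg Subtype.val (Subgroup.mem_bot.1 e))⟩
  have c2 : 2 * Nat.card A1 ≤ Nat.card A2 :=
    hdbl (Subgroup.closure_mono (by simp)) ⟨u, Subgroup.subset_closure (by simp), fun e => by
      rcases h1 u e with e' | e'
      · exact hca (by simp [show a = 1 from e'])
      · exact hca (by simp [show a = -1 from e'])⟩
  have c3 : 2 * Nat.card A2 ≤ Nat.card A :=
    hdbl (Subgroup.closure_mono (by intro x hx; rcases hx with rfl | rfl <;> simp)) ⟨w, Subgroup.subset_closure (by simp), fun e => by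
      rcases h2 w e with e' | e' | e' | e'
      · exact hb1 e'
      · exact hb3 e'
      · exact hb4 e'
      · exact hb5 e'⟩
  rw [Subgroup.card_bot] at c1
  norm_num at hlt
  omega

theorem exists_frame (h : Setting R) (hm : Cfsg.Geo.IsOfMinusType 2 R) : Nonempty (Frame R) := by
  obtain ⟨x, y, a, b, q⟩ := h.exists_quad
  have key : ∀ {x y a b : GL (Fin 2 ⊕ Fin 2) F}, Quad R x y a b →
      (∃ x' y', Quad R x' y' a b ∧ x' * x' = 1 ∧ y' * y' = 1) ∨ (x * x = -1 ∧ y * y = -1) := by
    intro x y a b q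
    have hp : x * y * (x * y) = -(x * x * (y * y)) := by
      rw [mul_assoc, ← mul_assoc y, show y * x = -(x * y) by rw [q.xy, neg_neg], neg_mul, mul_neg,
        mul_assoc x y y, ← mul_assoc x x]
    rcases h.sq x q.hx with e1 | e1 <;> rcases h.sq y q.hy with e2 | e2
    · exact Or.inl ⟨x, y, q, e1, e2⟩
    · exact Or.inl ⟨x, x * y, q.mul_left, e1, by rw [hp, e1, e2, one_mul, neg_neg]⟩
    · refine Or.inl ⟨y, y * x, q.swap_left.mul_left, e2, ?_⟩
      rw [show y * x = -(x * y) by rw [q.xy, neg_neg], neg_mul_neg, hp, e1, e2, mul_one, neg_neg]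
    · exact Or.inr ⟨e1, e2⟩
  have bad : ∀ {u w : GL (Fin 2 ⊕ Fin 2) F}, u ∈ R → w ∈ R → u * u = 1 → w * w = 1 → u * w = w * u →
      (∃ c ∈ R, u * c = -(c * u) ∧ w * c = c * w) → (∃ c ∈ R, w * c = -(c * w)) → False := by
    intro u w hu hw hu2 hw2 huw ⟨c, hc, huc, hwc⟩ ⟨d, hd, hwd⟩
    have hnu : ¬ ∀ g ∈ R, u * g = g * u := fun hall => h.not_comm_of_anti huc (hall c hc)
    rcases no_commuting_involutions h hm hu hw hnu hu2 hw2 huw with e | e | e | e
    · exact h.not_comm_of_anti hwd (by simp [e])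
    · exact h.not_comm_of_anti hwd (by simp [e])
    · exact h.not_comm_of_anti huc (e ▸ hwc)
    · rw [e, neg_mul, mul_neg, neg_inj] at hwc
      exact h.not_comm_of_anti huc hwc
  rcases key q with ⟨x', y', q', hx', hy'⟩ | ⟨hx', hy'⟩
  · rcases key q'.swap with ⟨a', b', q'', ha', hb'⟩ | ⟨ha', hb'⟩
    · exact (bad q'.hx q''.hx hx' ha' q''.xa.symm ⟨y', q'.hy, q'.xy, q''.xb⟩
        ⟨b', q''.hy, q''.xy⟩).elim
    · exact h.frame_of_quad q' hx' hy' ha' hb'
  · rcases key q.swap with ⟨a', b', q'', ha', hb'⟩ | ⟨ha', hb'⟩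
    · exact h.frame_of_quad q'' ha' hb' hx' hy'
    · exfalso
      have hxb : Commute (y * b) x ↔ False := by
        refine iff_false_intro fun e => h.not_comm_of_anti (show x * (y * b) = -(y * b * x) by
          rw [← mul_assoc, q.xy, neg_mul, mul_assoc, q.xb, ← mul_assoc]) e.eq.symm
      refine bad (mul_mem q.hx q.ha) (mul_mem q.hy q.hb) ?_ ?_ ?_
        ⟨y, q.hy, ?_, ?_⟩ ⟨x, q.hx, ?_⟩
      · rw [(show Commute a x from q.xa.symm).mul_mul_mul_comm, hx', ha', neg_mul_neg, one_mul]
      · rw [(show Commute b y from q.yb.symm).mul_mul_mul_comm, hy', hb', neg_mul_neg, one_mul]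
      · rw [(show Commute a y from q.ya.symm).mul_mul_mul_comm, (show Commute b x from q.xb.symm).mul_mul_mul_comm,
          q.xy, q.ab, neg_mul_neg]
      · rw [mul_assoc, ← q.ya, ← mul_assoc, q.xy, neg_mul, mul_assoc]
      · rw [mul_assoc, ← q.yb]
      · rw [mul_assoc, ← q.xb, ← mul_assoc, show y * x = -(x * y) by rw [q.xy, neg_neg], neg_mul, mul_assoc]

/-- In the minus case an element of order three fixes more than the centre. -/
theorem fixed_ne_center (h : Setting R) (hm : Cfsg.Geo.IsOfMinusType 2 R)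
    (hz2 : Nat.card (Subgroup.center R) = 2) {y : GL (Fin 2 ⊕ Fin 2) F}
    (hy : y ∈ Cfsg.Geo.subgroupNormalizer R) (hy3 : ∀ g ∈ R, y ^ 3 * g = g * y ^ 3)
    (hk : Nat.card (cent R y) = Nat.card (Subgroup.center R)) : False := by
  haveI := h.finite
  obtain ⟨Fr⟩ := exists_frame h hm
  have hfix : ∀ g, g ∈ R → y * g = g * y → g = 1 ∨ g = -1 := by
    intro g hg hyg
    have hle : Subgroup.center R ≤ cent R y := fun z hz =>
      mem_cent.2 (h.central_comm (mem_center_iff'.1 hz) y).symm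
    have he : Subgroup.center R = cent R y := Subgroup.eq_of_le_of_card_ge hle hk.le
    exact eq_neg_one_of_scalar h hg hz2 (mem_center_iff'.1 (he.symm ▸ mem_cent.2 hyg :
      (⟨g, hg⟩ : R) ∈ Subgroup.center R))
  set K : GL (Fin 2 ⊕ Fin 2) F → GL (Fin 2 ⊕ Fin 2) F := fun g => y * g * y⁻¹ with hK
  have hKR : ∀ g ∈ R, K g ∈ R := fun g hg => Setting.conj_mem hy hg
  have hKmul : ∀ a b : GL (Fin 2 ⊕ Fin 2) F, K (a * b) = K a * K b := fun a b => by
    simp only [hK]; group
  have hKneg : ∀ a : GL (Fin 2 ⊕ Fin 2) F, K (-a) = -K a := fun a => by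
    simp only [hK, mul_neg, neg_mul]
  have hK3 : ∀ g ∈ R, K (K (K g)) = g := by
    intro g hg
    have e : K (K (K g)) = y ^ 3 * g * (y ^ 3)⁻¹ := by simp only [hK, pow_succ, pow_zero, one_mul]; group
    rw [e, hy3 g hg, mul_inv_cancel_right]
  set u := Fr.v 0
  have hu : u ∈ R := Fr.mem 0
  have hu2 : u * u = 1 := Fr.sq 0
  have hnu : ¬ ∀ g ∈ R, u * g = g * u := fun hall =>
    h.not_comm_of_anti (Fr.anti 0 1 (by decide)) (hall _ (Fr.mem 1))
  have hns : u ≠ 1 ∧ u ≠ -1 := ⟨fun e => hnu (by simp [e]), fun e => hnu (by simp [e])⟩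
  -- a fixed point up to sign is fixed
  have hsign : ∀ g ∈ R, K g ≠ -g := by
    intro g hg e
    have e2 : K (K (K g)) = -g :=
      calc K (K (K g)) = K (K (-g)) := by rw [e]
        _ = K (-(K g)) := by rw [hKneg]
        _ = K g := congrArg K (neg_eq_iff_eq_neg.2 e)
        _ = -g := e
    rw [hK3 g hg] at e2
    exact h.two (by
      have := congrArg (fun z : GL (Fin 2 ⊕ Fin 2) F => (z : M4) * ((g⁻¹ : GL (Fin 2 ⊕ Fin 2) F) : M4)) e2
      simp only [Units.val_neg, Matrix.neg_mul, ← Units.val_mul, mul_inv_cancel, Units.val_one] at this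
      have h1 := congrFun (congrFun this (Sum.inl 0)) (Sum.inl 0)
      simp only [Matrix.neg_apply, Matrix.one_apply_eq] at h1
      linear_combination h1)
  have hKu : K u ≠ u := fun e => by
    rcases hfix u hu (mul_inv_eq_iff_eq_mul.1 e) with e' | e'
    · exact hns.1 e'
    · exact hns.2 e'
  have hK2 : K u * K u = 1 := by rw [← hKmul, hu2]; simp only [hK]; group
  have hanti : u * K u = -(K u * u) := by
    refine (h.comm u hu _ (hKR u hu)).resolve_left fun e => ?_
    rcases no_commuting_involutions h hm hu (hKR u hu) hnu hu2 hK2 e with e' | e' | e' | e'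
    · exact hns.1 (by rw [← hK3 u hu, e']; simp only [hK]; group)
    · exact hns.2 (by rw [← hK3 u hu, e', hKneg, hKneg]; congr 1; simp only [hK]; group)
    · exact hKu e'
    · exact hsign u hu e'
  set v := K u
  set w := K v
  have hv : v ∈ R := hKR u hu
  have hvw : v * w = -(w * v) :=
    calc v * w = K (u * v) := (hKmul u v).symm
      _ = K (-(v * u)) := congrArg K hanti
      _ = -(w * v) := (hKneg (v * u)).trans (congrArg Neg.neg (hKmul v u))
  have hwu : w * u = -(u * w) :=
    calc w * u = K v * K w := congrArg (w * ·) (hK3 u hu).symm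
      _ = K (v * w) := (hKmul v w).symm
      _ = K (-(w * v)) := congrArg K hvw
      _ = -(K w * K v) := (hKneg (w * v)).trans (congrArg Neg.neg (hKmul w v))
      _ = -(u * w) := congrArg (fun z => -(z * w)) (hK3 u hu)
  have hw2 : w * w = 1 := by rw [← hKmul, hK2]; simp only [hK]; group
  have hprod : K (u * v * w) = u * v * w := by
    rw [hKmul, hKmul, hK3 u hu, mul_assoc v w u, hwu, mul_neg, ← mul_assoc,
      show v * u = -(u * v) by rw [hanti, neg_neg], neg_mul, neg_neg]
  rcases hfix _ (mul_mem (mul_mem hu hv) (hKR v hv)) (mul_inv_eq_iff_eq_mul.1 hprod) with e | e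
  · have e1 : u * v = w := by
      rw [← mul_one (u * v), ← hw2, ← mul_assoc, e, one_mul]
    rw [← e1] at hw2
    rw [mul_assoc, ← mul_assoc v, show v * u = -(u * v) by rw [hanti, neg_neg], neg_mul, mul_neg,
      mul_assoc u v v, hK2, mul_one, hu2] at hw2
    exact h.two (by
      have := congrArg (fun z : GL (Fin 2 ⊕ Fin 2) F => (z : M4) (Sum.inl 0) (Sum.inl 0)) hw2
      simp at this
      linear_combination -this)
  · have e1 : u * v = -w := by
      rw [← mul_one (u * v), ← hw2, ← mul_assoc, e, neg_one_mul]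
    have e2 : w = -(u * v) := by rw [e1, neg_neg]
    rw [e2] at hw2
    rw [neg_mul_neg, mul_assoc, ← mul_assoc v, show v * u = -(u * v) by rw [hanti, neg_neg], neg_mul, mul_neg,
      mul_assoc u v v, hK2, mul_one, hu2] at hw2
    exact h.two (by
      have := congrArg (fun z : GL (Fin 2 ⊕ Fin 2) F => (z : M4) (Sum.inl 0) (Sum.inl 0)) hw2
      simp at this
      linear_combination -this)

end Cfsg.Agent.Symp4
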