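import Mathlib
import Cfsg.Prelude.Def_GeometricClasses
import Cfsg.Agent.SymplecticType.Main

/-!
# Two-groups of symplectic type and exponent four in dimension four
-/

set_option autoImplicit false
set_option linter.unusedSectionVars false
set_option linter.style.haveILetI false

namespace Cfsg.Agent.Symp4

open Matrix

variable {ι : Type} [Fintype ι] [DecidableEq ι] {F : Type*} [Field F]

/-- The standing assumptions on the subgroup. -/
structure Setting (R : Subgroup (GL ι F)) : Prop where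
  dim : Fintype.card ι = 4
  two : (2 : F) ≠ 0
  irr : ∀ M : Matrix ι ι F, (∀ x ∈ R, M * (x : Matrix ι ι F) = x * M) → ∃ c : F, M = c • 1
  comm : ∀ x ∈ R, ∀ y ∈ R, x * y = y * x ∨ x * y = -(y * x)
  sq : ∀ x ∈ R, x * x = 1 ∨ x * x = -1
  neg : (-1 : GL ι F) ∈ R
  card : Nat.card R = 16 * Nat.card (Subgroup.center R)
  zcard : Nat.card (Subgroup.center R) = 2 ∨ Nat.card (Subgroup.center R) = 4

theorem gl_eq_scalar_mul {c : F} {x w : GL ι F} (h : (x : Matrix ι ι F) = c • (w : Matrix ι ι F))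
    (hw : (w : Matrix ι ι F) = 1) (hc : c = 1 ∨ c = -1) : x = 1 ∨ x = -1 := by
  rcases hc with rfl | rfl
  · exact Or.inl (Units.ext (by rw [h, hw, one_smul]; rfl))
  · exact Or.inr (Units.ext (by rw [h, hw, neg_one_smul]; rfl))

/-- Squares and commutators are central in a two-group of symplectic type and exponent four. -/
theorem central_sq_comm {G : Type*} [Group G] [Finite G] (hG : IsPGroup 2 G)
    (hsymp : ∀ A : Subgroup G, A.Characteristic → IsMulCommutative A → IsCyclic A)
    (hexp : ∀ x : G, x ^ 4 = 1) :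
    (∀ x : G, x * x ∈ Subgroup.center G) ∧ ∀ x y : G, x * y * x⁻¹ * y⁻¹ ∈ Subgroup.center G := by
  haveI : Fact (Nat.Prime 2) := ⟨Nat.prime_two⟩
  obtain ⟨E, Q, hcomm, htop, hE, hQ⟩ := SymplecticType.hall hG hsymp
  have hord : ∀ {x : G}, orderOf x ≤ 4 := fun {x} =>
    Nat.le_of_dvd (by norm_num) (orderOf_dvd_of_pow_eq_one (hexp x))
  have hQc : IsCyclic Q := by
    refine hQ.resolve_right ?_
    rintro ⟨-, h16, hQ⟩
    have hord' : ∀ {x : Q}, orderOf x ≤ 4 := fun {x} => by
      rw [← Subgroup.orderOf_coe]; exact hord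
    rcases hQ with ⟨m, ⟨e⟩⟩ | ⟨m, ⟨e⟩⟩ | ⟨n, hn, -, x, -, hx, -⟩
    · have h1 : orderOf (e.symm (DihedralGroup.r 1)) = m := by
        rw [MulEquiv.orderOf_eq, DihedralGroup.orderOf_r_one]
      have h2 := Nat.card_congr e.toEquiv
      rw [DihedralGroup.nat_card] at h2
      have h3 := hord' (x := e.symm (DihedralGroup.r 1))
      omega
    · rcases Nat.eq_zero_or_pos m with rfl | hm
      · haveI : Finite (QuaternionGroup 0) := Finite.of_equiv _ e.toEquiv
        haveI : Finite (ZMod (2 * 0)) := Finite.of_injective (QuaternionGroup.a (n := 0))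
          fun a b h => by cases h; rfl
        have h0 : Finite (ZMod (2 * 0)) := inferInstance
        exact absurd (show Finite ℤ from h0) (not_finite_iff_infinite.2 inferInstance)
      · haveI : NeZero m := ⟨hm.ne'⟩
        have h1 : orderOf (e.symm (QuaternionGroup.a 1)) = 2 * m := by
          rw [MulEquiv.orderOf_eq, QuaternionGroup.orderOf_a_one]
        have h2 := Nat.card_congr e.toEquiv
        rw [Nat.card_eq_fintype_card (α := QuaternionGroup m), QuaternionGroup.card] at h2
        have h3 := hord' (x := e.symm (QuaternionGroup.a 1))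
        omega
    · have h3 := hord' (x := x)
      have : 2 ^ 3 ≤ 2 ^ n := Nat.pow_le_pow_right two_pos hn
      omega
  have hcen : ∀ z : G, (∀ e ∈ E, z * e = e * z) → (∀ r ∈ Q, z * r = r * z) →
      z ∈ Subgroup.center G := by
    intro z h1 h2
    rw [Subgroup.mem_center_iff]
    have h : E ⊔ Q ≤ Subgroup.centralizer {z} := sup_le
      (fun e he => Subgroup.mem_centralizer_singleton_iff.2 (h1 e he).symm)
      (fun r hr => Subgroup.mem_centralizer_singleton_iff.2 (h2 r hr).symm)
    intro g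
    exact Subgroup.mem_centralizer_singleton_iff.1 (h (htop ▸ Subgroup.mem_top g))
  have hQcen : ∀ r ∈ Q, r ∈ Subgroup.center G := fun r hr =>
    hcen r (fun e he => (hcomm e he r hr).symm) fun r' hr' => by
      letI := hQc.commGroup
      exact congrArg Subtype.val (mul_comm (⟨r, hr⟩ : Q) ⟨r', hr'⟩)
  have hdec : ∀ g : G, ∃ e ∈ E, ∃ r ∈ Q, g = e * r := by
    intro g
    haveI : Q.Normal := ⟨fun r hr g => by
      rwa [Subgroup.mem_center_iff.1 (hQcen r hr) g, mul_inv_cancel_right]⟩
    exact (Subgroup.mem_sup_of_normal_right.1 (htop ▸ Subgroup.mem_top g)).imp fun e h =>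
      ⟨h.1, h.2.imp fun r hr => ⟨hr.1, hr.2.symm⟩⟩
  have hEc : ∀ z ∈ E, (∀ e ∈ E, z * e = e * z) → z ∈ Subgroup.center G := fun z hz h =>
    hcen z h fun r hr => hcomm z hz r hr
  have hEE : ∀ e ∈ E, ∀ f ∈ E, e * f * e⁻¹ * f⁻¹ ∈ Subgroup.center G ∧
      (e * e) * f = f * (e * e) := by
    rcases hE with hE | ⟨⟨-, -, hd⟩, hz⟩
    · intro e he f hf
      rw [hE, Subgroup.mem_bot] at he hf
      subst he hf
      exact ⟨by simp, by simp⟩
    intro e he f hf
    set u : E := ⟨e, he⟩
    set v : E := ⟨f, hf⟩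
    have hmem : u * v * u⁻¹ * v⁻¹ ∈ Subgroup.center E := by
      rw [← hd, ← commutatorElement_def]
      exact Subgroup.commutator_mem_commutator (Subgroup.mem_top u) (Subgroup.mem_top v)
    set c : E := u * v * u⁻¹ * v⁻¹ with hc
    have hc2 : c * c = 1 := by
      have h := pow_card_eq_one' (x := (⟨c, hmem⟩ : Subgroup.center E))
      rw [hz, pow_two] at h
      exact congrArg Subtype.val h
    refine ⟨hEc _ (c : E).2 (fun w hw => congrArg Subtype.val
      (Subgroup.mem_center_iff.1 hmem ⟨w, hw⟩).symm), ?_⟩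
    have h1 : u * v = c * v * u := by rw [hc]; group
    have h2 : u * u * v = v * (u * u) := by
      rw [mul_assoc, h1, ← mul_assoc, ← mul_assoc, Subgroup.mem_center_iff.1 hmem u, mul_assoc c u v,
        h1, ← mul_assoc, ← mul_assoc, hc2, one_mul, mul_assoc]
    exact congrArg Subtype.val h2
  refine ⟨fun x => ?_, fun x y => ?_⟩
  · obtain ⟨e, he, r, hr, rfl⟩ := hdec x
    rw [show e * r * (e * r) = (e * e) * (r * r) by
      rw [mul_assoc, ← mul_assoc r, ← hcomm e he r hr, mul_assoc e r r, ← mul_assoc]]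
    exact mul_mem (hEc _ (mul_mem he he) fun f hf => (hEE e he f hf).2)
      (mul_mem (hQcen r hr) (hQcen r hr))
  · obtain ⟨e, he, r, hr, rfl⟩ := hdec x
    obtain ⟨f, hf, s, hs, rfl⟩ := hdec y
    have hr' := Subgroup.mem_center_iff.1 (hQcen r hr)
    have hs' := Subgroup.mem_center_iff.1 (hQcen s hs)
    rw [show e * r * (f * s) * (e * r)⁻¹ * (f * s)⁻¹ = e * f * e⁻¹ * f⁻¹ by
      calc e * r * (f * s) * (e * r)⁻¹ * (f * s)⁻¹
          = e * (r * (f * s) * r⁻¹) * e⁻¹ * (f * s)⁻¹ := by group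
        _ = e * (f * s) * e⁻¹ * (f * s)⁻¹ := by rw [← hr' (f * s), mul_inv_cancel_right]
        _ = e * f * (s * e⁻¹ * s⁻¹) * f⁻¹ := by group
        _ = e * f * e⁻¹ * f⁻¹ := by rw [← hs' e⁻¹, mul_inv_cancel_right]]
    exact (hEE e he f hf).1

/-- A central element of an absolutely irreducible group is scalar. -/
theorem center_scalar {R : Subgroup (GL ι F)}
    (hirr : Cfsg.Geo.ActsAbsolutelyIrreducibly (Cfsg.Geo.matrixSet R)) {z : R}
    (hz : z ∈ Subgroup.center R) : ∃ c : F, ((z : GL ι F) : Matrix ι ι F) = c • 1 := by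
  refine hirr.2 _ ?_
  rintro _ ⟨g, hg, rfl⟩
  exact congrArg (fun x : R => ((x : GL ι F) : Matrix ι ι F))
    (Subgroup.mem_center_iff.1 hz ⟨g, hg⟩).symm

theorem setting_of {R : Subgroup (GL ι F)} [Finite R] (hd : Fintype.card ι = 4)
    (h2 : (2 : F) ≠ 0) (hp : IsPGroup 2 R)
    (hsymp : ∀ A : Subgroup R, A.Characteristic → IsMulCommutative A → IsCyclic A)
    (hexp : Monoid.exponent R = 4)
    (hirr : Cfsg.Geo.ActsAbsolutelyIrreducibly (Cfsg.Geo.matrixSet R))
    (hcard : Nat.card R = 16 * Nat.card (Subgroup.center R))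
    (hz : Nat.card (Subgroup.center R) = 2 ∨ Nat.card (Subgroup.center R) = 4) : Setting R := by
  haveI : Nonempty ι := Fintype.card_pos_iff.1 (by omega)
  have h4 : ∀ x : R, x ^ 4 = 1 := fun x => hexp ▸ Monoid.pow_exponent_eq_one x
  obtain ⟨hsq, hcm⟩ := central_sq_comm hp hsymp h4
  have hsm : ∀ c : F, (c • (1 : Matrix ι ι F) = 1 → c = 1) := by
    intro c h
    obtain ⟨i⟩ := (inferInstance : Nonempty ι)
    simpa using congrFun (congrFun h i) i
  have pm : ∀ {z : R}, z ∈ Subgroup.center R → z * z = 1 → (z : GL ι F) = 1 ∨ (z : GL ι F) = -1 := by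
    intro z hzc hz2
    obtain ⟨c, hc⟩ := center_scalar hirr hzc
    refine gl_eq_scalar_mul (w := 1) hc rfl (mul_self_eq_one_iff.1 (hsm _ ?_))
    have h := congrArg (fun x : R => ((x : GL ι F) : Matrix ι ι F)) hz2
    simp only [Subgroup.coe_mul, Units.val_mul, Subgroup.coe_one, Units.val_one, hc,
      smul_mul_smul_comm, mul_one] at h
    exact h
  refine ⟨hd, h2, fun M hM => hirr.2 M ?_, fun x hx y hy => ?_, fun x hx => ?_, ?_, hcard, hz⟩
  · rintro _ ⟨g, hg, rfl⟩
    exact hM g hg
  · set u : R := ⟨x, hx⟩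
    set v : R := ⟨y, hy⟩
    set c : R := u * v * u⁻¹ * v⁻¹ with hc
    have hcc : c ∈ Subgroup.center R := hcm u v
    have h1 : u * v = c * (v * u) := by rw [hc]; group
    have hc2 : c * c = 1 := by
      have hs := Subgroup.mem_center_iff.1 (hsq u)
      have h3 : u * u * v = c * c * (v * (u * u)) := by
        rw [mul_assoc, h1, ← mul_assoc u c, Subgroup.mem_center_iff.1 hcc u, mul_assoc c u,
          ← mul_assoc u v, h1, mul_assoc c (v * u) u, mul_assoc v u u, mul_assoc c c]
      rw [← hs v] at h3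
      exact mul_eq_right.1 h3.symm
    have h4' : x * y = (c : GL ι F) * (y * x) := congrArg Subtype.val h1
    rcases pm hcc hc2 with h | h <;> rw [h] at h4'
    · exact Or.inl (by rwa [one_mul] at h4')
    · exact Or.inr (by rwa [neg_one_mul] at h4')
  · set u : R := ⟨x, hx⟩
    have h := pm (hsq u) (by rw [← pow_two, ← pow_two, ← pow_mul]; exact h4 u)
    exact h
  · have hev : 2 ∣ Nat.card (Subgroup.center R) := by rcases hz with h | h <;> omega
    haveI : Fact (Nat.Prime 2) := ⟨Nat.prime_two⟩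
    obtain ⟨z, hzo⟩ := exists_prime_orderOf_dvd_card' 2 hev
    have hz1 : (z : R) ≠ 1 := fun h => by
      rw [orderOf_eq_one_iff.2 (Subtype.ext h)] at hzo; omega
    have hz2 : (z : R) * (z : R) = 1 := by
      rw [← pow_two, ← Subgroup.coe_pow, ← hzo, pow_orderOf_eq_one, Subgroup.coe_one]
    rcases pm z.2 hz2 with h | h
    · exact absurd (Subtype.ext h) hz1
    · exact h ▸ (z : R).2

end Cfsg.Agent.Symp4
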