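import Cfsg.Agent.Symp4.Scalars

/-!
# The criterion for the linear group of dimension four
-/

set_option autoImplicit false
set_option linter.unusedSectionVars false
set_option linter.style.haveILetI false

namespace Cfsg.Agent.Symp4

open Matrix

variable {F : Type*} [Field F]

local notation "M4" => Matrix (Fin 4) (Fin 4) F
local notation "G4" => GL (Fin 4) F

theorem mem_SL_iff (x : G4) : x ∈ Cfsg.Geo.specialLinear (Fin 4) F ↔ (x : M4).det = 1 := by
  constructor
  · intro h
    exact congrArg Units.val (show Matrix.GeneralLinearGroup.det x = 1 from h)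
  · intro h
    exact Units.ext h

theorem transvection_facts (h2 : (2 : F) ≠ 0) (n : ℕ) :
    blk (1 : F) 1 0 1 ^ n = blk 1 (n : F) 0 1 ∧
      (∀ z : F, blk (1 : F) 1 0 1 * blk (1 : F) 1 0 1 ≠ z • 1) ∧
      (blk (1 : F) 1 0 1 - (1 : F) • 1).rank ≤ 1 := by
  refine ⟨?_, fun z => ?_, ?_⟩
  · induction n with
    | zero => rw [pow_zero, Nat.cast_zero, blk_one]
    | succ n ih =>
      rw [pow_succ, ih, blk_mul]
      congr 1 <;> push_cast <;> ring
  · rw [blk_mul]
    refine blk_not_scalar (Or.inr (Or.inl ?_)) z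
    simpa [one_add_one_eq_two] using h2
  · rw [show blk (1 : F) 1 0 1 - (1 : F) • 1 =
        Matrix.vecMulVec (Pi.single 0 1) (Pi.single 1 1) from by
      ext i j
      fin_cases i <;> fin_cases j <;> simp [blk, Matrix.vecMulVec_apply]]
    exact Matrix.rank_vecMulVec_le _ _

/-- The homology with eigenvalues a cube root of unity. -/
theorem homology_facts {w : F} (hw : w * w * w = 1) (hw1 : w ≠ 1) :
    ∃ x : G4, (x : M4) = Matrix.diagonal ![w, w, w, 1] ∧ (x : M4).det = 1 ∧ x ^ 3 = 1 ∧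
      (∀ z : F, ((x * x : G4) : M4) ≠ z • 1) ∧ ((x : M4) - w • 1).rank ≤ 1 := by
  have hd : (Matrix.diagonal ![w, w, w, 1]).det = 1 := by
    rw [Matrix.det_diagonal]
    simp [Fin.prod_univ_four, hw]
  let x : G4 := Matrix.GeneralLinearGroup.mkOfDetNeZero (Matrix.diagonal ![w, w, w, 1]) (by rw [hd]; exact one_ne_zero)
  refine ⟨x, rfl, hd, Units.ext ?_, fun z hz => ?_, ?_⟩
  · rw [Units.val_pow_eq_pow_val]
    show Matrix.diagonal ![w, w, w, 1] ^ 3 = 1
    rw [Matrix.diagonal_pow, ← Matrix.diagonal_one]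
    congr 1
    funext i
    fin_cases i <;> simp [pow_succ, hw]
  · rw [Units.val_mul] at hz
    change Matrix.diagonal ![w, w, w, 1] * Matrix.diagonal ![w, w, w, 1] = z • (1 : M4) at hz
    rw [Matrix.diagonal_mul_diagonal] at hz
    have e0 := congrFun (congrFun hz 0) 0
    have e3 := congrFun (congrFun hz 3) 3
    simp at e0 e3
    exact hw1 (by
      have : w * w = 1 := by rw [e0, ← e3]
      rw [this, one_mul] at hw
      exact hw)
  · show (Matrix.diagonal ![w, w, w, 1] - w • (1 : M4)).rank ≤ 1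
    rw [show Matrix.diagonal ![w, w, w, 1] - w • (1 : M4) =
        Matrix.vecMulVec (Pi.single 3 (1 - w)) (Pi.single 3 1) from by
      ext i j
      fin_cases i <;> fin_cases j <;> simp [Matrix.vecMulVec_apply]]
    exact Matrix.rank_vecMulVec_le _ _

/-- The criterion for the linear group. -/
theorem linear_four [Fintype F] {p : ℕ} [Fact p.Prime] [CharP F p] (hF : Fintype.card F = p) (hp4 : p % 4 = 1)
    {R : Subgroup (GL (Fin 4) F)} (h : Setting R) (hz4 : Nat.card (Subgroup.center R) = 4) (r : ℕ) [Fact r.Prime]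
    (hΩ : r ∣ (Cfsg.Geo.subgroupNormalizer R).relIndex (Cfsg.Geo.specialLinear (Fin 4) F)) :
    (∀ x ∈ Cfsg.Geo.specialLinear (Fin 4) F, (∃ z : F, ((x ^ r : G4) : M4) = z • (1 : M4)) →
      (∀ z : F, (x : M4) ≠ z • (1 : M4)) →
      ∃ g ∈ Cfsg.Geo.specialLinear (Fin 4) F, g⁻¹ * x * g ∈ Cfsg.Geo.subgroupNormalizer R) ↔
      (r = 2 ∨ (r = 3 ∧ p % 3 = 2) ∨ (r = 5 ∧ orderOf (p : ZMod 5) = 4)) := by
  classical
  have hp := (Fact.out : p.Prime)
  have hp3 : p ≠ 3 := by omega
  have h2 := h.two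
  have h3 : (3 : F) ≠ 0 := fun e => hp3 ((Nat.prime_dvd_prime_iff_eq hp Nat.prime_three).1
    ((CharP.cast_eq_zero_iff F p 3).1 (by exact_mod_cast e)))
  have hcardU : Nat.card Fˣ = p - 1 := by rw [Nat.card_units, Nat.card_eq_fintype_card, hF]
  constructor
  · intro H
    refine negative h (p := p) (by omega) _ (fun x hx => (mem_SL_iff x).1 hx) _ r hΩ H ?_ ?_
    · rintro (rfl | ⟨rfl, hg⟩)
      · obtain ⟨x, hxv, -, hxd⟩ := exists_blk (F := F) (a := 1) (b := 1) (c := 0) (d := 1) (by ring)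
        obtain ⟨e1, e2, e3⟩ := transvection_facts (F := F) h2 r
        refine ⟨x, (mem_SL_iff x).2 hxd, Units.ext ?_, fun z => ?_, 1, by rw [hxv]; exact e3⟩
        · rw [Units.val_pow_eq_pow_val, hxv, e1, CharP.cast_eq_zero, blk_one]; rfl
        · rw [Units.val_mul, hxv]; exact e2 z
      · have hd : 3 ∣ Nat.card Fˣ := by
          rw [hcardU]
          have : p % 3 ≠ 0 := fun e => hp3 ((Nat.prime_dvd_prime_iff_eq Nat.prime_three hp).1
            (Nat.dvd_of_mod_eq_zero e)).symm
          omega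
        obtain ⟨w, hw⟩ := exists_prime_orderOf_dvd_card' 3 hd
        have hw3 : (w : F) * w * w = 1 := by
          rw [← Units.val_mul, ← Units.val_mul, ← Units.val_one, ← pow_orderOf_eq_one w, hw, pow_succ, pow_two]
        have hw1 : (w : F) ≠ 1 := fun e => by
          rw [show w = 1 from Units.ext e, orderOf_one] at hw; omega
        obtain ⟨x, -, hxd, hx3, hxx, hl⟩ := homology_facts hw3 hw1
        exact ⟨x, (mem_SL_iff x).2 hxd, hx3, hxx, _, hl⟩
    · intro t _ _
      refine ⟨0, -1, 1, ZMod.castHom (dvd_refl p) F t, by ring, by ring, fun x hx => (mem_SL_iff x).2 ?_⟩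
      rw [hx, blk_det]; ring
  · intro hr x hxU hxz hns
    obtain ⟨z, hz⟩ := hxz
    have hxd := (mem_SL_iff x).1 hxU
    obtain ⟨Fr⟩ := h.exists_frame_four hz4
    obtain ⟨t, htR, -, -, i, -, hi⟩ := h.exists_i hz4
    rcases hr with rfl | ⟨rfl, hp32⟩ | ⟨rfl, h54⟩
    · obtain ⟨e, y, hee, htr, hne, hcv, hy, hy2, hyn, -⟩ := h.exists_idem hz4 Fr
      have hz4' := scalar_pow_four hxd hz
      have hxx : (x : M4) * (x : M4) = z • 1 := by rw [← Units.val_mul, ← pow_two]; exact hz
      obtain ⟨l, hl⟩ : ∃ l : F, l * l = z := by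
        by_contra hcon
        push Not at hcon
        have hd := det_of_nonsquare hxx hcon
        rw [hxd] at hd
        rcases mul_self_eq_one_iff.1 hd.symm with e | e
        · exact hcon 1 (by rw [e, mul_one])
        · exact hcon i (by rw [e, hi])
      have hl0 : l ≠ 0 := fun e => by rw [← hl, e] at hz4'; simp at hz4'
      let s : Fˣ := Units.mk0 l⁻¹ (inv_ne_zero hl0)
      have hx2 : sc s * x * (sc s * x) = 1 := by
        rw [← pow_two, sc_mul_pow]
        refine Units.ext ?_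
        rw [Units.val_mul, sc_pow_val, hz, smul_mul_smul_comm, Matrix.mul_one, Units.val_one, ← hl]
        rw [show ((s : F) ^ 2 * (l * l)) = 1 by rw [Units.val_mk0]; field_simp, one_smul]
      obtain ⟨g, -, hgd, hgn⟩ := two_pos h (⊤ : Subgroup (GL (Fin 4) F)) (fun _ _ _ => Subgroup.mem_top _)
        (fun a _ ha => (exists_eigbasis h2 ha).imp fun P hP => hP.imp fun e he => ⟨Subgroup.mem_top _, he⟩)
        Fr e y hee htr hne hcv hy hy2 hyn (Subgroup.mem_top _) (Subgroup.mem_top _) (Subgroup.mem_top _)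
        (fun _ _ _ _ => Subgroup.mem_top _) (Subgroup.mem_top (sc s * x)) hx2 (not_scalar_sc hns s)
      exact ⟨g, (mem_SL_iff g).2 hgd, conj_sc s hgn⟩
    · obtain ⟨s, hs4, hs, -⟩ := exists_sc hxd (Or.inl rfl) hz
      have hno : ∀ w : F, w * w + w + 1 ≠ 0 := by
        intro w hw
        have hw0 : w ≠ 0 := fun e => by rw [e] at hw; simp at hw
        have hw1 : w ≠ 1 := fun e => by rw [e] at hw; exact h3 (by linear_combination hw)
        have ho : orderOf (Units.mk0 w hw0) = 3 := orderOf_eq_prime (Units.ext (by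
          rw [Units.val_pow_eq_pow_val, Units.val_mk0, Units.val_one]
          linear_combination (w - 1) * hw)) (fun e => hw1 (congrArg Units.val e))
        have hd := orderOf_dvd_natCard (Units.mk0 w hw0)
        rw [ho, hcardU] at hd
        omega
      obtain ⟨y₀, y₁, hy₀, hy₁, hy₀t, hy₁3, hy₁t, hy₁ne, -⟩ := h.exists_threes hz4 h3
      have hy₀3 : y₀ ^ 3 = 1 := Units.ext (by
        rw [Units.val_pow_eq_pow_val, show (y₀ : M4) ^ 3 = ((y₀ : M4) - 1) * ((y₀ : M4) * y₀ + y₀ + 1) + 1 by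
          noncomm_ring, hy₀t, Matrix.mul_zero, zero_add]; rfl)
      have hy₀ne : y₀ ≠ 1 := fun e => h3 (by
        have e1 := congrFun (congrFun hy₀t 0) 0
        rw [e] at e1
        simp at e1
        linear_combination e1)
      have hxne : sc s * x ≠ 1 := fun e => not_scalar_sc hns s 1 (by rw [e, one_smul]; rfl)
      by_cases hT : ((sc s * x : G4) : M4) * ((sc s * x : G4) : M4) + ((sc s * x : G4) : M4) + 1 = 0
      · obtain ⟨g, hgd, hg⟩ := three_conj h2 h3 hno hs hxne hy₀3 hy₀ne (iff_of_true hT hy₀t)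
        exact ⟨g, (mem_SL_iff g).2 hgd, conj_sc s (hg.symm ▸ hy₀)⟩
      · obtain ⟨g, hgd, hg⟩ := three_conj h2 h3 hno hs hxne hy₁3 hy₁ne (iff_of_false hT hy₁t)
        exact ⟨g, (mem_SL_iff g).2 hgd, conj_sc s (hg.symm ▸ hy₁)⟩
    · obtain ⟨s, hs4, hs, -⟩ := exists_sc hxd (Or.inr rfl) hz
      haveI : Fact (Nat.Prime 5) := ⟨by norm_num⟩
      obtain ⟨k, -, hkn, hkv, hk5⟩ := h.exists_cyc Fr
      obtain ⟨y, -, hyn, hyd, hy5, hy1⟩ := h.five_core (U := (⊤ : Subgroup (GL (Fin 4) F)))
        (Subgroup.mem_top k) hkn hk5 (fun hc => h.cyc_sq_not_central Fr hkv (fun z => by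
          rw [mul_assoc, hc z, ← mul_assoc, hc z, mul_assoc])) (fun _ _ => Subgroup.mem_top _)
      have hirr := cyclotomic_five_irreducible hF h54
      have hdep : ∀ a b : Cfsg.Geo.specialLinear (Fin 4) F, orderOf a = 5 → orderOf b = 5 → a * b = b * a →
          b ∈ Subgroup.zpowers a := by
        intro a b ha hb hab
        have ha5 : ((a : G4) : M4) ^ 5 = 1 := by
          rw [← Units.val_pow_eq_pow_val, ← Subgroup.coe_pow, ← ha, pow_orderOf_eq_one]; rfl
        have hb5 : ((b : G4) : M4) ^ 5 = 1 := by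
          rw [← Units.val_pow_eq_pow_val, ← Subgroup.coe_pow, ← hb, pow_orderOf_eq_one]; rfl
        have ha1 : ((a : G4) : M4) ≠ 1 := fun e => by
          rw [show a = 1 from Subtype.ext (Units.ext e), orderOf_one] at ha
          omega
        obtain ⟨n, hn⟩ := eq_pow_of_commute (Fintype.card_fin 4) hirr _ _ ha5 ha1
          (by rw [← Units.val_mul, ← Units.val_mul, ← Subgroup.coe_mul, ← Subgroup.coe_mul, hab]) hb5
        rw [show b = a ^ n from Subtype.ext (Units.ext (by
          rw [Subgroup.coe_pow, Units.val_pow_eq_pow_val]; exact hn))]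
        exact Subgroup.pow_mem _ (Subgroup.mem_zpowers a) n
      have hsx : sc s * x ∈ Cfsg.Geo.specialLinear (Fin 4) F := (mem_SL_iff _).2 (by
        rw [Units.val_mul, Matrix.det_mul, sc_det, hs4, hxd, one_mul])
      have hox : orderOf (⟨sc s * x, hsx⟩ : Cfsg.Geo.specialLinear (Fin 4) F) = 5 :=
        orderOf_eq_prime (Subtype.ext hs) (fun e => not_scalar_sc hns s 1 (by
          rw [show sc s * x = 1 from congrArg Subtype.val e, one_smul]; rfl))
      have hoy : orderOf (⟨y, (mem_SL_iff y).2 hyd⟩ : Cfsg.Geo.specialLinear (Fin 4) F) = 5 :=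
        orderOf_eq_prime (Subtype.ext hy5) (fun e => hy1 (congrArg Subtype.val e))
      obtain ⟨g, hg⟩ := conj_of_dependent hdep hox hoy
      obtain ⟨n, hn⟩ := Subgroup.mem_zpowers_iff.1 hg
      refine ⟨g, g.2, conj_sc s ?_⟩
      have e := congrArg Subtype.val hn
      simp only [Subgroup.coe_zpow, Subgroup.coe_mul, Subgroup.coe_inv] at e
      rw [← e]
      exact zpow_mem hyn n

end Cfsg.Agent.Symp4
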