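import Cfsg.Agent.Symp4.UnitaryThree

/-!
# Elements of order five of the four-dimensional unitary group when five does not divide the order of the
three-dimensional one
-/

set_option autoImplicit false
set_option linter.unusedSectionVars false
set_option linter.style.haveILetI false

namespace Cfsg.Agent.Symp4

open Matrix Cfsg.Agent.Classical Cfsg.Agent.Classical.Herm

variable {F : Type*} [Field F] [Fintype F] {σ : F →+* F} {p : ℕ}

local notation "M4" => Matrix (Fin 4) (Fin 4) F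
local notation "G4" => GL (Fin 4) F

theorem five_not_dvd_GU_three (hσ : IsInvol σ) (hσq : ∀ x, σ x = x ^ p) (hq : Nat.card (fixField σ) = p)
    (hp : p % 5 = 2 ∨ p % 5 = 3) : ¬ 5 ∣ Nat.card (Cfsg.GU 3 F p) := by
  have h5 : Nat.Prime 5 := by norm_num
  rw [card_GU_formula hσ hσq hq]
  simp only [show (3 * (3 - 1) / 2) = 3 from rfl, Finset.prod_range_succ, Finset.prod_range_zero, one_mul]
  simp only [show Even 0 from ⟨0, rfl⟩, show ¬ Even 1 from by decide, show Even 2 from ⟨1, rfl⟩, if_true,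
    if_false, h5.dvd_mul]
  have h1 : (p ^ 3) % 5 ≠ 0 ∧ (p ^ 3 + 1) % 5 ≠ 0 ∧ (p ^ 2) % 5 = 4 := by
    rcases hp with e | e <;> simp [Nat.pow_mod, Nat.add_mod, e]
  simp only [Nat.dvd_iff_mod_eq_zero]
  simp only [show (0 : ℕ) + 1 = 1 from rfl, show (1 : ℕ) + 1 = 2 from rfl, show (2 : ℕ) + 1 = 3 from rfl, pow_one]
  omega

omit [Fintype F] in
theorem submatrix_succ_mul (A B : M4) (hB : ∀ j : Fin 3, B 0 j.succ = 0) :
    (A * B).submatrix Fin.succ Fin.succ = A.submatrix Fin.succ Fin.succ * B.submatrix Fin.succ Fin.succ := by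
  ext i j
  simp [Matrix.mul_apply, Fin.sum_univ_succ, hB]

/-- An element of order five with a non-zero fixed vector is trivial. -/
theorem fixed_five (hσ : IsInvol σ) (hσq : ∀ x, σ x = x ^ p) (hq : Nat.card (fixField σ) = p)
    (hp : p % 5 = 2 ∨ p % 5 = 3) (h5 : (5 : F) ≠ 0) {e : G4} (he : e ∈ Cfsg.GU 4 F p) (he5 : e ^ 5 = 1)
    {v : Fin 4 → F} (hv : v ≠ 0) (hev : (e : M4) *ᵥ v = v) : e = 1 := by
  classical
  have hB := hermB_isHerm hσ 4
  have hiso := (mem_GU_iff hσq e).1 he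
  -- a fixed vector of norm one
  obtain ⟨q, hvq⟩ : ∃ q, hermB 4 σ v q ≠ 0 := by
    by_contra hcon
    push Not at hcon
    exact hv (hB.nondeg v hcon)
  set P := LinearMap.ker (Matrix.mulVecLin ((e : M4) - 1)) with hP
  have hPmem : ∀ x, x ∈ P ↔ (e : M4) *ᵥ x = x := fun x => by
    rw [hP, LinearMap.mem_ker, Matrix.mulVecLin_apply, Matrix.sub_mulVec, Matrix.one_mulVec, sub_eq_zero]
  have he5' : (e : M4) ^ 5 = 1 := by rw [← Units.val_pow_eq_pow_val, he5]; rfl
  set S : M4 := ∑ i ∈ Finset.range 5, (e : M4) ^ i with hS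
  have hsum : (e : M4) * S = S := by
    have h := mul_geom_sum (e : M4) 5
    rw [he5', sub_self, Matrix.sub_mul, Matrix.one_mul, sub_eq_zero] at h
    exact h
  have hev' : ∀ i : ℕ, ((e : M4) ^ i) *ᵥ v = v := by
    intro i
    induction i with
    | zero => rw [pow_zero, Matrix.one_mulVec]
    | succ i ih => rw [pow_succ, ← Matrix.mulVec_mulVec, hev, ih]
  have hvs : hermB 4 σ v (S *ᵥ q) = 5 * hermB 4 σ v q := by
    rw [hS, Matrix.sum_mulVec, map_sum, Finset.sum_eq_card_nsmul (b := hermB 4 σ v q), Finset.card_range,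
      nsmul_eq_mul]
    · norm_num
    · intro i _
      have h := (mem_GU_iff hσq (e ^ i)).1 (pow_mem he i) v q
      rw [Units.val_pow_eq_pow_val, hev' i] at h
      exact h
  obtain ⟨g, hg, hgg⟩ := exists_anisotropic hB P ⟨v, (hPmem v).2 hev, S *ᵥ q,
    (hPmem _).2 (by rw [Matrix.mulVec_mulVec, hsum]), by rw [hvs]; exact mul_ne_zero h5 hvq⟩
  obtain ⟨c, hc⟩ := exists_unit_of_ne_zero hB hgg
  -- move it to the first standard vector
  obtain ⟨L, hL, hL0⟩ := exists_isometry_of_on hB (a := ![Pi.single 0 1]) (a' := ![c • g])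
    (fun i j => by fin_cases i; fin_cases j; simpa using isON_single (σ := σ) 4 0 0)
    (fun i j => by fin_cases i; fin_cases j; simpa using hc)
  have hLv : ∀ x, LinearMap.toMatrix' L.toLinearMap *ᵥ x = L x := fun x => LinearMap.toMatrix'_mulVec L.toLinearMap x
  have hu : IsUnit (LinearMap.toMatrix' L.toLinearMap) := by
    refine Matrix.mulVec_injective_iff_isUnit.1 fun x y hxy => L.injective ?_
    rw [← hLv, ← hLv]
    exact hxy
  have hU : hu.unit ∈ Cfsg.GU 4 F p := (mem_GU_iff hσq _).2 fun x y => by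
    rw [hu.unit_spec, hLv, hLv]; exact hL x y
  set f : G4 := hu.unit⁻¹ * e * hu.unit with hf
  have hfU : f ∈ Cfsg.GU 4 F p := mul_mem (mul_mem (inv_mem hU) he) hU
  have hf5 : f ^ 5 = 1 := by
    rw [hf, show hu.unit⁻¹ * e * hu.unit = hu.unit⁻¹ * e * hu.unit⁻¹⁻¹ by rw [inv_inv], conj_pow, he5, mul_one,
      mul_inv_cancel]
  have hf0 : (f : M4) *ᵥ Pi.single 0 1 = Pi.single 0 1 := by
    have h0 : L (Pi.single 0 1) = c • g := by simpa using hL0 0
    rw [hf, Units.val_mul, Units.val_mul, ← Matrix.mulVec_mulVec, ← Matrix.mulVec_mulVec, hu.unit_spec, hLv, h0,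
      Matrix.mulVec_smul, (hPmem g).1 hg, ← h0, ← hLv, Matrix.mulVec_mulVec]
    show ((hu.unit⁻¹ * hu.unit : G4) : M4) *ᵥ _ = _
    rw [inv_mul_cancel, Units.val_one, Matrix.one_mulVec]
  have hON := (preserves_iff_cols _).1 ((mem_GU_iff hσq f).1 hfU)
  have hc0 : ∀ i, (f : M4) i 0 = (Pi.single 0 1 : Fin 4 → F) i := fun i => by
    rw [← hf0, Matrix.mulVec_single_one]; rfl
  have hr0 : ∀ j : Fin 3, (f : M4) 0 j.succ = 0 := by
    intro j
    have h := hON 0 j.succ
    simp only [hermB_apply, hf0, Matrix.mulVec_single_one] at h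
    simpa [Fin.sum_univ_succ, Fin.succ_ne_zero, (Fin.succ_ne_zero j).symm] using h
  set M : Matrix (Fin 3) (Fin 3) F := (f : M4).submatrix Fin.succ Fin.succ with hM
  have hMpow : ∀ k : ℕ, ((f : M4) ^ k).submatrix Fin.succ Fin.succ = M ^ k := by
    intro k
    induction k with
    | zero => rw [pow_zero, pow_zero, Matrix.submatrix_one _ (Fin.succ_injective 3)]
    | succ k ih => rw [pow_succ, submatrix_succ_mul _ _ hr0, ih, pow_succ]
  have hM5 : M ^ 5 = 1 := by
    rw [← hMpow 5, ← Units.val_pow_eq_pow_val, hf5, Units.val_one, Matrix.submatrix_one _ (Fin.succ_injective 3)]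
  obtain ⟨m, hm⟩ : ∃ m : GL (Fin 3) F, (m : Matrix (Fin 3) (Fin 3) F) = M :=
    ⟨⟨M, M ^ 4, by rw [← pow_succ', hM5], by rw [← pow_succ, hM5]⟩, rfl⟩
  have hmU : m ∈ Cfsg.GU 3 F p := (mem_GU_iff hσq m).2 ((preserves_iff_cols _).2 fun i j => by
    have h := hON i.succ j.succ
    simp only [hermB_apply, Matrix.mulVec_single_one] at h ⊢
    rw [hm]
    simpa [Fin.sum_univ_succ, hr0, hM, Fin.succ_inj] using h)
  have hm1 : m = 1 := by
    have h1 : m ^ 5 = 1 := Units.ext (by rw [Units.val_pow_eq_pow_val, hm, hM5]; rfl)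
    have h2 : (⟨m, hmU⟩ : Cfsg.GU 3 F p) ^ Nat.card (Cfsg.GU 3 F p) = 1 := pow_card_eq_one'
    have h3 : (⟨m, hmU⟩ : Cfsg.GU 3 F p) ^ 5 = 1 := Subtype.ext h1
    have h4 := pow_gcd_eq_one.2 ⟨h3, h2⟩
    rw [(Nat.Prime.coprime_iff_not_dvd (by norm_num : Nat.Prime 5)).2 (five_not_dvd_GU_three hσ hσq hq hp)
      |>.gcd_eq_one, pow_one] at h4
    exact congrArg Subtype.val h4
  have hf1 : f = 1 := Units.ext (by
    ext i j
    refine Fin.cases ?_ (fun j => ?_) j
    · rw [hc0 i]; simp [Pi.single_apply, Matrix.one_apply]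
    · refine Fin.cases ?_ (fun i => ?_) i
      · rw [hr0 j]; simp [(Fin.succ_ne_zero j).symm]
      · have := congrFun (congrFun (hm.symm.trans (congrArg Units.val hm1)) i) j
        rw [hM] at this
        simpa [Matrix.one_apply] using this)
  rw [hf] at hf1
  calc e = hu.unit * (hu.unit⁻¹ * e * hu.unit) * hu.unit⁻¹ := by group
    _ = 1 := by rw [hf1]; group

/-- Commuting elements of order five are dependent. -/
theorem dependent_five (hσ : IsInvol σ) (hσq : ∀ x, σ x = x ^ p) (hq : Nat.card (fixField σ) = p)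
    (hp : p % 5 = 2 ∨ p % 5 = 3) (h5 : (5 : F) ≠ 0) {a b : G4} (ha : a ∈ Cfsg.GU 4 F p)
    (hb : b ∈ Cfsg.GU 4 F p) (ha5 : a ^ 5 = 1) (hb5 : b ^ 5 = 1) (ha1 : a ≠ 1) (hab : a * b = b * a) :
    b ∈ Subgroup.zpowers a := by
  by_contra hcon
  have hsum : ∀ c : G4, c ∈ Cfsg.GU 4 F p → c ^ 5 = 1 → c ≠ 1 → ∑ k ∈ Finset.range 5, (c : M4) ^ k = 0 := by
    intro c hc hc5 hc1
    have h := mul_geom_sum (c : M4) 5
    rw [← Units.val_pow_eq_pow_val, hc5, Units.val_one, sub_self, Matrix.sub_mul, Matrix.one_mul,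
      sub_eq_zero] at h
    refine Matrix.ext_iff_mulVec.2 fun x => ?_
    rw [Matrix.zero_mulVec]
    by_contra hx
    exact hc1 (fixed_five hσ hσq hq hp h5 hc hc5 hx (by rw [Matrix.mulVec_mulVec, h]))
  have hbk : ∀ k < 5, k ≠ 0 → b ^ k ≠ 1 := by
    intro k hk hk0 e
    have h4 := pow_gcd_eq_one.2 ⟨hb5, e⟩
    rw [((Nat.Prime.coprime_iff_not_dvd (by norm_num : Nat.Prime 5)).2 (fun hd => hk0 (by omega))).gcd_eq_one,
      pow_one] at h4
    exact hcon (h4 ▸ one_mem _)
  have hc : Commute a b := hab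
  have hz : ∀ j < 5, ∑ k ∈ Finset.range 5, ((a : M4) * (b : M4) ^ j) ^ k = 0 := by
    intro j hj
    rw [← Units.val_pow_eq_pow_val, ← Units.val_mul]
    refine hsum _ (mul_mem ha (pow_mem hb j)) ?_ fun e => ?_
    · rw [(hc.pow_right j).mul_pow, ha5, ← pow_mul, mul_comm, pow_mul, hb5, one_pow, one_mul]
    · have hbj : b ^ j ∈ Subgroup.zpowers a := by
        rw [eq_inv_of_mul_eq_one_right e]; exact inv_mem (Subgroup.mem_zpowers a)
      by_cases hj0 : j = 0
      · rw [hj0, pow_zero, mul_one] at e; exact ha1 e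
      obtain ⟨l, hl⟩ : ∃ l, j * l % 5 = 1 := ⟨j ^ 3, by interval_cases j <;> norm_num at *⟩
      refine hcon ?_
      rw [show b = (b ^ j) ^ l by rw [← pow_mul, ← Nat.div_add_mod (j * l) 5, hl, pow_succ, pow_mul, hb5,
        one_pow, one_mul]]
      exact pow_mem hbj l
  have key : ∑ j ∈ Finset.range 5, ∑ k ∈ Finset.range 5, ((a : M4) * (b : M4) ^ j) ^ k = (5 : F) • (1 : M4) := by
    rw [Finset.sum_comm, Finset.sum_eq_single 0]
    · simp [← Nat.cast_smul_eq_nsmul F]
    · intro k hk hk0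
      rw [Finset.mem_range] at hk
      have e : ∀ j, ((a : M4) * (b : M4) ^ j) ^ k = (a : M4) ^ k * ((b ^ k : G4) : M4) ^ j := fun j => by
        have hcm : Commute (a : M4) (b : M4) := Commute.map hc (Units.coeHom M4)
        rw [(hcm.pow_right j).mul_pow, Units.val_pow_eq_pow_val, ← pow_mul, ← pow_mul, mul_comm j k]
      rw [Finset.sum_congr rfl fun j _ => e j, ← Finset.mul_sum, hsum _ (pow_mem hb k) (by
        rw [← pow_mul, mul_comm, pow_mul, hb5, one_pow]) (hbk k hk hk0), Matrix.mul_zero]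
    · simp
  rw [Finset.sum_eq_zero fun j hj => hz j (Finset.mem_range.1 hj)] at key
  have := congrFun (congrFun key 0) 0
  simp at this
  exact h5 this.symm

end Cfsg.Agent.Symp4
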