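import Cfsg.Agent.Symp4.LinearFour
import Cfsg.Agent.Symp4.UnitaryFive

/-!
# The criterion for the unitary group of dimension four
-/

set_option autoImplicit false
set_option linter.unusedSectionVars false
set_option linter.style.haveILetI false

namespace Cfsg.Agent.Symp4

open Matrix Cfsg.Agent.Classical Cfsg.Agent.Classical.Herm

variable {F : Type*} [Field F] {σ : F →+* F} {q : ℕ}

local notation "M4" => Matrix (Fin 4) (Fin 4) F
local notation "G4" => GL (Fin 4) F

theorem adj_blk (a b c d : F) : adj σ (blk a b c d) = blk (σ a) (σ c) (σ b) (σ d) := by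
  ext i j
  fin_cases i <;> fin_cases j <;> simp [blk, adj]

theorem blk_mem_GU (hσq : ∀ x, σ x = x ^ q) {a b c d : F} {x : G4} (hx : (x : M4) = blk a b c d)
    (h00 : σ a * a + σ c * c = 1) (h01 : σ a * b + σ c * d = 0) (h10 : σ b * a + σ d * c = 0)
    (h11 : σ b * b + σ d * d = 1) : x ∈ Cfsg.GU 4 F q := by
  rw [mem_GU_adj hσq, hx, adj_blk, blk_mul, h00, h01, h10, h11, blk_one]

theorem norm_of_scalar (hσq : ∀ x, σ x = x ^ q) {g : G4} (hg : g ∈ Cfsg.GU 4 F q) {c : F}
    (hc : (g : M4) = c • 1) : c * σ c = 1 := by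
  have e := (mem_GU_adj hσq g).1 hg
  rw [hc, adj_smul, adj_one, smul_mul_smul_comm, Matrix.one_mul] at e
  have e0 := congrFun (congrFun e 0) 0
  simp at e0
  rw [mul_comm]
  exact e0

theorem sc_mem_GU (hσq : ∀ x, σ x = x ^ q) {s : Fˣ} (hs : (s : F) * σ s = 1) : sc s ∈ Cfsg.GU 4 F q := by
  rw [mem_GU_adj hσq, sc_val, adj_smul, adj_one, smul_mul_smul_comm, Matrix.one_mul, mul_comm, hs, one_smul]

/-- A transvection of the special unitary group with all its powers. -/
theorem exists_transvection [Fintype F] (hσ : IsInvol σ) (hσq : ∀ x, σ x = x ^ q) (h2 : (2 : F) ≠ 0) {p : ℕ}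
    [CharP F p] :
    ∃ x : G4, x ∈ Cfsg.GU 4 F q ∧ (x : M4).det = 1 ∧ x ^ p = 1 ∧ (∀ z : F, ((x * x : G4) : M4) ≠ z • 1) ∧
      ((x : M4) - (1 : F) • 1).rank ≤ 1 := by
  obtain ⟨a, ha⟩ := exists_norm hσ (a := (-1 : F)) (by rw [map_neg, map_one])
  obtain ⟨k, hk0, hk⟩ := exists_skew hσ (F := F)
  have ha0 : a ≠ 0 := fun e => by simp [e] at ha
  have hdet : (1 - k) * (1 + k) - (k * a) * (k * σ a) = 1 := by linear_combination -(k * k) * ha
  obtain ⟨x, hx, -, hxd⟩ := exists_blk hdet
  have hpow : ∀ n : ℕ, (x : M4) ^ n = blk (1 - n * k) (n * (k * a)) (n * (k * σ a)) (1 + n * k) := by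
    intro n
    induction n with
    | zero => simp [blk_one]
    | succ n ih =>
      rw [pow_succ, ih, hx, blk_mul]
      congr 1 <;> push_cast <;> first
        | ring1
        | linear_combination ((n : F) * k * k) * ha
  refine ⟨x, blk_mem_GU hσq hx ?_ ?_ ?_ ?_, hxd, Units.ext ?_, fun z => ?_, ?_⟩
  · rw [map_sub, map_one, map_mul, hσ.invol, hk]; linear_combination -(k * k) * ha
  · rw [map_sub, map_one, map_mul, hσ.invol, hk]; ring
  · rw [map_mul, map_add, map_one, hk]; ring
  · rw [map_mul, map_add, map_one, hk]; linear_combination -(k * k) * ha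
  · rw [Units.val_pow_eq_pow_val, hpow, CharP.cast_eq_zero, Units.val_one]
    simp [blk_one]
  · rw [← pow_two, Units.val_pow_eq_pow_val, hpow]
    refine blk_not_scalar (Or.inr (Or.inl ?_)) z
    simpa using mul_ne_zero h2 (mul_ne_zero hk0 ha0)
  · rw [show (x : M4) - (1 : F) • 1 = Matrix.vecMulVec ![1, -σ a, 0, 0] ![-k, k * a, 0, 0] from by
      rw [hx, one_smul]
      ext i j
      fin_cases i <;> fin_cases j <;>
        simp [blk, Matrix.vecMulVec_apply] <;> first | ring1 | linear_combination k * ha | linear_combination -k * ha]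
    exact Matrix.rank_vecMulVec_le _ _

/-- The criterion for the unitary group. -/
theorem unitary_four [Fintype F] {p : ℕ} [Fact p.Prime] [CharP F p] (hF : Fintype.card F = p ^ 2) (hp4 : p % 4 = 3)
    {R : Subgroup (GL (Fin 4) F)} (h : Setting R) (hRU : R ≤ Cfsg.GU 4 F p)
    (hz4 : Nat.card (Subgroup.center R) = 4) (r : ℕ) [Fact r.Prime]
    (hΩ : r ∣ (Cfsg.Geo.subgroupNormalizer R).relIndex (Cfsg.GU 4 F p ⊓ Cfsg.Geo.specialLinear (Fin 4) F)) :
    (∀ x ∈ Cfsg.GU 4 F p ⊓ Cfsg.Geo.specialLinear (Fin 4) F, (∃ z : F, ((x ^ r : G4) : M4) = z • (1 : M4)) →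
      (∀ z : F, (x : M4) ≠ z • (1 : M4)) →
      ∃ g ∈ Cfsg.GU 4 F p ⊓ Cfsg.Geo.specialLinear (Fin 4) F, g⁻¹ * x * g ∈ Cfsg.Geo.subgroupNormalizer R) ↔
      (r = 2 ∨ (r = 3 ∧ p % 3 = 1) ∨ (r = 5 ∧ orderOf (p : ZMod 5) = 4)) := by
  classical
  obtain ⟨σ, hσq, hσ, hfix, -⟩ := exists_powHom hF
  have hp := (Fact.out : p.Prime)
  have h2 := h.two
  have hcast : ∀ t : ZMod p, σ (ZMod.castHom (dvd_refl p) F t) = ZMod.castHom (dvd_refl p) F t := fun t => by
    rw [hσq, ← map_pow, ZMod.pow_card]
  have hcardU : Nat.card Fˣ = p ^ 2 - 1 := by rw [Nat.card_units, Nat.card_eq_fintype_card, hF]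
  have hmem : ∀ x : G4, x ∈ Cfsg.GU 4 F p → (x : M4).det = 1 →
      x ∈ Cfsg.GU 4 F p ⊓ Cfsg.Geo.specialLinear (Fin 4) F := fun x hx hd => ⟨hx, (mem_SL_iff x).2 hd⟩
  have hadjR : ∀ x ∈ R, adj σ (x : M4) * (x : M4) = 1 := fun x hx => (mem_GU_adj hσq x).1 (hRU hx)
  constructor
  · intro H
    refine negative h (p := p) (by omega) (Cfsg.GU 4 F p ⊓ Cfsg.Geo.specialLinear (Fin 4) F)
      (fun x hx => (mem_SL_iff x).1 hx.2) _ r hΩ H ?_ ?_
    · intro hw
      rcases hw with rfl | ⟨rfl, hg⟩
      · obtain ⟨x, hxU, hxd, hxp, hxx, hl⟩ := exists_transvection (p := r) hσ hσq h2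
        exact ⟨x, hmem x hxU hxd, hxp, hxx, 1, hl⟩
      · by_cases hp3 : p = 3
        · subst hp3
          obtain ⟨x, hxU, hxd, hxp, hxx, hl⟩ := exists_transvection (p := 3) hσ hσq h2
          exact ⟨x, hmem x hxU hxd, hxp, hxx, 1, hl⟩
        have hpr3 : p % 3 = 2 := by
          have : p % 3 ≠ 0 := fun e => hp3 ((Nat.prime_dvd_prime_iff_eq Nat.prime_three hp).1
            (Nat.dvd_of_mod_eq_zero e)).symm
          omega
        have hd : 3 ∣ Nat.card Fˣ := by
          rw [hcardU]
          have e2 : p ^ 2 % 3 = 1 := by simp [Nat.pow_mod, hpr3]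
          omega
        obtain ⟨w, hw⟩ := exists_prime_orderOf_dvd_card' 3 hd
        have hwp : (w : F) * σ w = 1 := by
          rw [hσq, ← pow_succ', ← Units.val_pow_eq_pow_val, orderOf_dvd_iff_pow_eq_one.1
            (show orderOf w ∣ p + 1 by rw [hw]; omega), Units.val_one]
        have hw3 : (w : F) * w * w = 1 := by
          rw [← Units.val_mul, ← Units.val_mul, ← Units.val_one, ← pow_orderOf_eq_one w, hw, pow_succ, pow_two]
        have hw1 : (w : F) ≠ 1 := fun e => by
          rw [show w = 1 from Units.ext e, orderOf_one] at hw; omega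
        obtain ⟨x, hxv, hxd, hx3, hxx, hl⟩ := homology_facts hw3 hw1
        refine ⟨x, hmem x ?_ hxd, hx3, hxx, _, hl⟩
        have hxe : x = diagGL ![w, w, w, 1] := Units.ext (by
          rw [hxv, diagGL_coe]
          congr 1
          funext i
          fin_cases i <;> rfl)
        rw [hxe]
        refine diag_mem hσq _ fun i => ?_
        fin_cases i <;> first | exact hwp | simp
    · intro t _ _
      set u := ZMod.castHom (dvd_refl p) F t with hu
      obtain ⟨β, hβ⟩ := exists_norm hσ (a := 1 - u / 2 * (u / 2))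
        (by rw [map_sub, map_one, map_mul, map_div₀, hu, hcast, map_ofNat])
      have hh : σ (u / 2) = u / 2 := by rw [map_div₀, hu, hcast, map_ofNat]
      have hdet : u / 2 * (u / 2) - β * -σ β = 1 := by linear_combination hβ
      refine ⟨u / 2, β, -σ β, u / 2, hdet, by field_simp; ring, fun x hx => ?_⟩
      refine hmem x (blk_mem_GU hσq hx ?_ ?_ ?_ ?_) (by rw [hx, blk_det, hdet])
      · rw [hh, map_neg, hσ.invol]; linear_combination hβ
      · rw [hh, map_neg, hσ.invol]; ring
      · rw [hh]; ring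
      · rw [hh]; linear_combination hβ
  · intro hr x hxS hxz hns
    obtain ⟨z, hz⟩ := hxz
    have hxU : x ∈ Cfsg.GU 4 F p := hxS.1
    have hxd := (mem_SL_iff x).1 hxS.2
    have hzn : z * σ z = 1 := norm_of_scalar hσq (pow_mem hxU r) hz
    obtain ⟨Fr⟩ := h.exists_frame_four hz4
    obtain ⟨i, hci, hic⟩ : ∃ i : F, i * σ i = 1 ∧ i * i = -1 := by
      obtain ⟨t, htR, -, -, i, hti, hi⟩ := h.exists_i hz4
      exact ⟨i, norm_of_scalar hσq (hRU htR) hti, hi⟩
    rcases hr with rfl | ⟨rfl, hp31⟩ | ⟨rfl, h54⟩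
    · obtain ⟨e, y, hee, htr, hne, hcv, hy, hy2, hyn, hσe⟩ := h.exists_idem hz4 Fr
      have hea : adj σ e = e := hσe σ hadjR
      have hz4' := scalar_pow_four hxd hz
      have hz0 : z ≠ 0 := fun e => by rw [e] at hzn; simp at hzn
      have hchar : ringChar F ≠ 2 := by rw [ringChar.eq F p]; omega
      obtain ⟨l, hl⟩ : ∃ l : F, z = l * l := by
        refine (FiniteField.isSquare_iff hchar hz0).2 ?_
        obtain ⟨k, rfl⟩ : ∃ k, p = 4 * k + 3 := ⟨p / 4, by omega⟩
        have e1 : (4 * k + 3) ^ 2 / 2 = 4 * (2 * k * k + 3 * k + 1) := by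
          rw [show (4 * k + 3) ^ 2 = 2 * (4 * (2 * k * k + 3 * k + 1)) + 1 by ring]
          omega
        rw [hF, e1, pow_mul, hz4', one_pow]
      have hl0 : l ≠ 0 := fun e => hz0 (by rw [hl, e, mul_zero])
      let s : Fˣ := Units.mk0 l⁻¹ (inv_ne_zero hl0)
      have hxx : sc s * x * (sc s * x) = 1 := by
        rw [← pow_two, sc_mul_pow]
        refine Units.ext ?_
        rw [Units.val_mul, sc_pow_val, hz, smul_mul_smul_comm, Matrix.mul_one, Units.val_one, hl]
        rw [show ((s : F) ^ 2 * (l * l)) = 1 by rw [Units.val_mk0]; field_simp, one_smul]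
      have hs : (s : F) * σ s = 1 := by
        rw [Units.val_mk0, map_inv₀, ← mul_inv, inv_eq_one]
        have hN2 : l * σ l * (l * σ l) = 1 := by
          rw [← hzn, hl, map_mul]; ring
        refine (mul_self_eq_one_iff.1 hN2).resolve_right fun hN => ?_
        -- the scaled involution is then skew, hence of determinant one
        have hadj : adj σ ((sc s * x : G4) : M4) * ((sc s * x : G4) : M4) = -1 := by
          rw [Units.val_mul, adj_mul, Matrix.mul_assoc, ← Matrix.mul_assoc (adj σ (sc s : M4)), sc_val, adj_smul,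
            adj_one, smul_mul_smul_comm, Matrix.one_mul, Units.val_mk0, map_inv₀, ← mul_inv, mul_comm, hN]
          simp [(mem_GU_adj hσq x).1 hxU]
        have hskew : adj σ ((sc s * x : G4) : M4) = -((sc s * x : G4) : M4) := by
          have e1 := congrArg (· * ((sc s * x : G4) : M4)) hadj
          rw [Matrix.mul_assoc, ← Units.val_mul (sc s * x) (sc s * x), hxx, Units.val_one, Matrix.mul_one,
            Matrix.neg_mul, Matrix.one_mul] at e1
          exact e1
        obtain ⟨P, hP, hc⟩ := invol_normal h2 ⊤ (fun _ _ _ => Subgroup.mem_top _)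
          (fun a _ ha => (exists_eigbasis h2 ha).imp fun P hP => hP.imp fun f hf => ⟨Subgroup.mem_top _, hf⟩)
          (Subgroup.mem_top (sc s * x)) hxx (not_scalar_sc hns s)
        have htrσ : σ ((sc s * x : G4) : M4).trace = -((sc s * x : G4) : M4).trace := by
          rw [← Matrix.trace_neg, ← hskew, adj, Matrix.trace_transpose]
          exact (AddMonoidHom.map_trace σ.toAddMonoidHom _).trans rfl
        have hdetx : ((sc s * x : G4) : M4).det = 1 := by
          rcases hc with e1 | e1 | e1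
          · have et := trace_of_frame e1
            rw [sgnM, Matrix.trace_diagonal] at et
            rw [et] at htrσ
            simp [Fin.sum_univ_four] at htrσ
            exfalso
            exact h2 (mul_self_eq_zero.1 (by first | linear_combination htrσ | linear_combination -htrσ))
          · have et := trace_of_frame e1
            rw [sgnM, Matrix.trace_diagonal] at et
            rw [et] at htrσ
            simp [Fin.sum_univ_four] at htrσ
            exfalso
            exact h2 (mul_self_eq_zero.1 (by first | linear_combination htrσ | linear_combination -htrσ))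
          · have e2 := congrArg Matrix.det e1
            rw [Matrix.det_mul, Matrix.det_mul, mul_comm] at e2
            rw [mul_left_cancel₀ (Matrix.GeneralLinearGroup.det P).ne_zero e2, sgnM, Matrix.det_diagonal]
            simp [Fin.prod_univ_four]
        rw [Units.val_mul, Matrix.det_mul, sc_det, hxd, mul_one, Units.val_mk0, inv_pow, inv_eq_one] at hdetx
        rcases mul_self_eq_one_iff.1 (show l * l * (l * l) = 1 by rw [← hdetx]; ring) with e1 | e1
        · rcases mul_self_eq_one_iff.1 e1 with rfl | rfl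
          · rw [map_one, mul_one] at hN
            exact h2 (by linear_combination hN)
          · rw [map_neg, map_one, neg_mul_neg, mul_one] at hN
            exact h2 (by linear_combination hN)
        · rcases mul_self_eq_mul_self_iff.1 (e1.trans hic.symm) with rfl | rfl
          · rw [hci] at hN
            exact h2 (by linear_combination hN)
          · rw [map_neg, neg_mul_neg, hci] at hN
            exact h2 (by linear_combination hN)
      have hyU : y ∈ Cfsg.GU 4 F p := by
        rw [mem_GU_adj hσq, hy, adj_add, adj_one, adj_smul, hea, map_neg, map_ofNat, ← hy, ← Units.val_mul, hy2,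
          Units.val_one]
      have hnU : (-1 : G4) ∈ Cfsg.GU 4 F p := hRU h.neg
      obtain ⟨g, hgU, hgd, hgn⟩ := two_pos h (Cfsg.GU 4 F p) (fun π P hP => perm_mem_GU hσq π hP)
        (fun a ha ha2 => exists_eigbasis_unitary hσ hσq h2 ha ha2)
        Fr e y hee htr hne hcv hy hy2 hyn (hRU (Fr.mem 0)) hyU hnU
        (fun g hg c hc => by
          rw [mem_GU_adj hσq, hc, adj_add, adj_one, adj_smul, hea, map_sub, map_one, map_inv₀]
          have hn : ((g : M4).det)⁻¹ * (σ (g : M4).det)⁻¹ = 1 := by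
            rw [← mul_inv, det_norm_GU hσq hg, inv_one]
          simp only [Matrix.add_mul, Matrix.mul_add, Matrix.one_mul, Matrix.mul_one, Matrix.smul_mul,
            Matrix.mul_smul, hee]
          match_scalars
          all_goals first | ring1 | linear_combination hn | linear_combination -hn)
        (mul_mem (sc_mem_GU hσq hs) hxU) hxx (not_scalar_sc hns s)
      exact ⟨g, hmem g hgU hgd, conj_sc s hgn⟩
    · obtain ⟨s, hs4, hs, hsz⟩ := exists_sc hxd (Or.inl rfl) hz
      have hsn : (s : F) * σ s = 1 := by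
        rcases hsz with e | e
        · rw [e, hzn]
        · rw [e, map_pow, ← mul_pow, hzn, one_pow]
      have h3 : (3 : F) ≠ 0 := fun e => by
        have := (Nat.prime_dvd_prime_iff_eq hp Nat.prime_three).1
          ((CharP.cast_eq_zero_iff F p 3).1 (by exact_mod_cast e))
        omega
      obtain ⟨w₀, hw₀⟩ := exists_prime_orderOf_dvd_card' (G := (ZMod p)ˣ) 3 (by
        rw [Nat.card_units, Nat.card_zmod]; omega)
      obtain ⟨w, hw, hwσ⟩ : ∃ w : F, w * w + w + 1 = 0 ∧ σ w = w := by
        refine ⟨ZMod.castHom (dvd_refl p) F (w₀ : ZMod p), ?_, hcast _⟩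
        have e0 : (w₀ : ZMod p) * w₀ + w₀ + 1 = 0 := by
          refine (mul_eq_zero.1 (show ((w₀ : ZMod p) - 1) * ((w₀ : ZMod p) * w₀ + w₀ + 1) = 0 from ?_)).resolve_left
            (sub_ne_zero.2 fun e => by rw [show w₀ = 1 from Units.ext e, orderOf_one] at hw₀; omega)
          have e3 : (w₀ : ZMod p) ^ 3 = 1 := by
            rw [← Units.val_pow_eq_pow_val, ← hw₀, pow_orderOf_eq_one]; rfl
          linear_combination e3
        have := congrArg (ZMod.castHom (dvd_refl p) F) e0
        rw [map_add, map_add, map_mul, map_one, map_zero] at this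
        exact this
      obtain ⟨y₀, y₁, hy₀, hy₁, hy₀t, hy₁3, hy₁t, hy₁ne, hyσ⟩ := h.exists_threes hz4 h3
      obtain ⟨ha₀, ha₁⟩ := hyσ σ hadjR
      have cube : ∀ {a : G4}, a ^ 3 = 1 → (a : M4) * (a : M4) * (a : M4) = 1 := fun {a} e => by
        rw [← Units.val_mul, ← Units.val_mul, ← pow_two, ← pow_succ, e]; rfl
      have hy₀3 : y₀ ^ 3 = 1 := Units.ext (by
        rw [Units.val_pow_eq_pow_val, show (y₀ : M4) ^ 3 = ((y₀ : M4) - 1) * ((y₀ : M4) * y₀ + y₀ + 1) + 1 by
          noncomm_ring, hy₀t, Matrix.mul_zero, zero_add]; rfl)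
      have hy₀ne : y₀ ≠ 1 := fun e => h3 (by
        have e1 := congrFun (congrFun hy₀t 0) 0
        rw [e] at e1
        simp at e1
        linear_combination e1)
      have hxne : sc s * x ≠ 1 := fun e => not_scalar_sc hns s 1 (by rw [e, one_smul]; rfl)
      have dx : ThreeData σ w ((sc s * x : G4) : M4) :=
        ⟨hσ, hw, hwσ, h3, cube hs, (mem_GU_adj hσq _).1 (mul_mem (sc_mem_GU hσq hsn) hxU)⟩
      by_cases hT : ((sc s * x : G4) : M4) * ((sc s * x : G4) : M4) + ((sc s * x : G4) : M4) + 1 = 0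
      · obtain ⟨g, hgU, hgd, hg⟩ := three_conj_unitary hσq dx ⟨hσ, hw, hwσ, h3, cube hy₀3, ha₀⟩ hxne hy₀ne
          (iff_of_true hT hy₀t)
        exact ⟨g, hmem g hgU hgd, conj_sc s (hg.symm ▸ hy₀)⟩
      · obtain ⟨g, hgU, hgd, hg⟩ := three_conj_unitary hσq dx ⟨hσ, hw, hwσ, h3, cube hy₁3, ha₁⟩ hxne hy₁ne
          (iff_of_false hT hy₁t)
        exact ⟨g, hmem g hgU hgd, conj_sc s (hg.symm ▸ hy₁)⟩
    · obtain ⟨s, hs4, hs, hsz⟩ := exists_sc hxd (Or.inr rfl) hz
      have hsn : (s : F) * σ s = 1 := by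
        rcases hsz with e | e
        · rw [e, hzn]
        · rw [e, map_pow, ← mul_pow, hzn, one_pow]
      haveI : Fact (Nat.Prime 5) := ⟨by norm_num⟩
      have hp5 : p % 5 = 2 ∨ p % 5 = 3 := by
        rw [← ZMod.natCast_mod] at h54
        have : p % 5 < 5 := Nat.mod_lt _ (by norm_num)
        interval_cases hm : p % 5
        · simp at h54
        · simp at h54
        · simp
        · simp
        · have e4 : (4 : ZMod 5) ^ 2 = 1 := rfl
          have := orderOf_le_of_pow_eq_one (x := ((4 : ℕ) : ZMod 5)) (n := 2) (by norm_num) (by exact_mod_cast e4)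
          omega
      have h5 : (5 : F) ≠ 0 := fun e => by
        have := (Nat.prime_dvd_prime_iff_eq hp (show Nat.Prime 5 by norm_num)).1
          ((CharP.cast_eq_zero_iff F p 5).1 (by exact_mod_cast e))
        omega
      obtain ⟨g₀, hgv, hgn, hgc, hg5⟩ := h.exists_cyc Fr
      have h40 : (4 : F)⁻¹ ≠ 0 := inv_ne_zero fun e => h2 (mul_self_eq_zero.1 (by linear_combination e))
      obtain ⟨k, hk⟩ : ∃ k, k = sc (Units.mk0 _ h40) * g₀ := ⟨_, rfl⟩
      have hkU : k ∈ Cfsg.GU 4 F p := by
        have e := Fr.cyc_adj (adj σ) 1 (adj_mul σ) (adj_sub σ)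
          (fun j => by rw [Matrix.mul_one]; exact hadjR _ (Fr.mem j))
        rw [Matrix.mul_one] at e
        rw [mem_GU_adj hσq, hk, Units.val_mul, sc_val, Matrix.smul_mul, Matrix.one_mul, adj_smul, hgv,
          smul_mul_smul_comm, e, Units.val_mk0, map_inv₀, map_ofNat, smul_smul]
        rw [show (4 : F)⁻¹ * (4 : F)⁻¹ * 16 = 1 by
          have : (4 : F) ≠ 0 := fun e => h40 (by rw [e, _root_.inv_zero])
          field_simp; norm_num, one_smul]
      have hk5 : ∀ z ∈ R, k ^ 5 * z = z * k ^ 5 := fun z hz => by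
        rw [hk, sc_mul_pow]
        exact ((Commute.pow_left (sc_comm _ z) 5).mul_left (hg5 z hz)).eq
      have hkc : ¬ ∀ z, k * z = z * k := fun hc => h.cyc_sq_not_central Fr hgc (fun z => by
        have hg : g₀ = (sc (Units.mk0 _ h40))⁻¹ * k := by rw [hk, inv_mul_cancel_left]
        have c1 : Commute g₀ z := hg ▸ ((show Commute (sc (Units.mk0 _ h40)) z from sc_comm _ z).inv_left.mul_left
          (hc z))
        exact (c1.mul_left c1).eq)
      obtain ⟨y, hyU, hyn, hyd, hy5, hy1⟩ := h.five_core (U := Cfsg.GU 4 F p) hkU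
        (hk ▸ mul_mem (sc_mem_normalizer R _) hgn) hk5 hkc (fun t ht => by
          rw [mem_GU_adj hσq, ht, adj_smul, adj_one, smul_mul_smul_comm, Matrix.one_mul, map_inv₀, ← mul_inv,
            mul_comm, det_norm_GU hσq hkU, inv_one, one_smul])
      have hdep : ∀ a b : ↥(Cfsg.GU 4 F p ⊓ Cfsg.Geo.specialLinear (Fin 4) F), orderOf a = 5 → orderOf b = 5 →
          a * b = b * a → b ∈ Subgroup.zpowers a := by
        intro a b ha hb hab
        have pw : ∀ c : ↥(Cfsg.GU 4 F p ⊓ Cfsg.Geo.specialLinear (Fin 4) F), orderOf c = 5 → (c : G4) ^ 5 = 1 :=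
          fun c hc => by rw [← Subgroup.coe_pow, ← hc, pow_orderOf_eq_one]; rfl
        obtain ⟨n, hn⟩ := Subgroup.mem_zpowers_iff.1 (dependent_five hσ hσq hfix hp5 h5 a.2.1 b.2.1 (pw a ha)
          (pw b hb) (fun e => by rw [show a = 1 from Subtype.ext e, orderOf_one] at ha; omega)
          (congrArg Subtype.val hab))
        exact Subgroup.mem_zpowers_iff.2 ⟨n, Subtype.ext (by rw [Subgroup.coe_zpow]; exact hn)⟩
      have hsx := hmem (sc s * x) (mul_mem (sc_mem_GU hσq hsn) hxU)
        (by rw [Units.val_mul, Matrix.det_mul, sc_det, hs4, hxd, one_mul])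
      have hox : orderOf (⟨sc s * x, hsx⟩ : ↥(Cfsg.GU 4 F p ⊓ Cfsg.Geo.specialLinear (Fin 4) F)) = 5 :=
        orderOf_eq_prime (Subtype.ext hs) (fun e => not_scalar_sc hns s 1 (by
          rw [show sc s * x = 1 from congrArg Subtype.val e, one_smul]; rfl))
      have hoy : orderOf (⟨y, hmem y hyU hyd⟩ : ↥(Cfsg.GU 4 F p ⊓ Cfsg.Geo.specialLinear (Fin 4) F)) = 5 :=
        orderOf_eq_prime (Subtype.ext hy5) (fun e => hy1 (congrArg Subtype.val e))
      obtain ⟨g, hg⟩ := conj_of_dependent hdep hox hoy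
      obtain ⟨n, hn⟩ := Subgroup.mem_zpowers_iff.1 hg
      refine ⟨g, g.2, conj_sc s ?_⟩
      have e := congrArg Subtype.val hn
      simp only [Subgroup.coe_zpow, Subgroup.coe_mul, Subgroup.coe_inv] at e
      rw [← e]
      exact zpow_mem hyn n

end Cfsg.Agent.Symp4
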