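import Cfsg.Agent.Symp4.SpMain

/-!
# The criterion for the symplectic group
-/

set_option autoImplicit false
set_option linter.unusedSectionVars false
set_option linter.style.haveILetI false

namespace Cfsg.Agent.Symp4

open Matrix

variable {F : Type*} [Field F] {R : Subgroup (GL (Fin 2 ⊕ Fin 2) F)}

local notation "M4" => Matrix (Fin 2 ⊕ Fin 2) (Fin 2 ⊕ Fin 2) F
local notation "G4" => GL (Fin 2 ⊕ Fin 2) F

theorem scalar_in_sp {x : G4} (hx : x ∈ Cfsg.spGL 2 F) {z : F} (hz : (x : M4) = z • 1) :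
    z = 1 ∨ z = -1 := by
  have h := (mem_sp_iff x).1 hx
  rw [hz, Matrix.transpose_smul, Matrix.transpose_one, Matrix.smul_mul, Matrix.one_mul, Matrix.mul_smul,
    Matrix.mul_one, smul_smul] at h
  have e := congrFun (congrFun h (Sum.inr 0)) (Sum.inl 0)
  simp [Matrix.J] at e
  exact mul_self_eq_one_iff.1 e

theorem gl_scalar_cases {x : G4} (hx : x ∈ Cfsg.spGL 2 F) {z : F} (hz : (x : M4) = z • 1) :
    x = 1 ∨ x = -1 :=
  gl_eq_scalar_mul (w := 1) hz rfl (scalar_in_sp hx hz)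

theorem neg_one_mem_normalizer : (-1 : G4) ∈ Cfsg.Geo.subgroupNormalizer R := by
  show (-1 : G4) ∈ Subgroup.normalizer (R : Set G4)
  rw [Subgroup.mem_normalizer_iff]
  intro x
  rw [inv_eq_of_mul_eq_one_right (show (-1 : G4) * -1 = 1 by rw [neg_mul_neg, one_mul]), neg_one_mul,
    neg_mul_neg, mul_one]

/-- The element of order five of the symplectic normaliser. -/
theorem exists_five (h : Setting R) (Fr : Frame R) (hRf : R ≤ Cfsg.spGL 2 F) :
    ∃ y ∈ Cfsg.spGL 2 F, y ∈ Cfsg.Geo.subgroupNormalizer R ∧ y ^ 5 = 1 ∧ y ≠ 1 := by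
  obtain ⟨g, hg, hgn, hgv, hg5⟩ := h.exists_cyc Fr
  have hadj := Fr.cyc_adj (fun A => Aᵀ) (Matrix.J (Fin 2) F) Matrix.transpose_mul Matrix.transpose_sub
    (fun i => (mem_sp_iff _).1 (hRf (Fr.mem i)))
  rw [← hg] at hadj
  have h16 : (16 : F) ≠ 0 := by
    rw [show (16 : F) = 4 * 4 by norm_num]; exact mul_ne_zero h.four_ne h.four_ne
  let s : G4 := ⟨(16 : F)⁻¹ • 1, (16 : F) • 1, by rw [smul_mul_smul_comm, inv_mul_cancel₀ h16, one_smul, one_mul],
    by rw [smul_mul_smul_comm, mul_inv_cancel₀ h16, one_smul, one_mul]⟩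
  have hsc : ∀ z, s * z = z * s := Setting.comm_scalar (c := (16 : F)⁻¹) rfl
  obtain ⟨k, hk⟩ : ∃ k, k = s * (g * g) := ⟨_, rfl⟩
  have hksp : k ∈ Cfsg.spGL 2 F := by
    rw [mem_sp_iff, hk]
    show ((16 : F)⁻¹ • (1 : M4) * ((g : M4) * (g : M4)))ᵀ * Matrix.J (Fin 2) F *
      ((16 : F)⁻¹ • (1 : M4) * ((g : M4) * (g : M4))) = _
    simp only [Matrix.smul_mul, Matrix.one_mul, Matrix.transpose_smul, Matrix.mul_smul, smul_smul,
      Matrix.transpose_mul]
    rw [show (g : M4)ᵀ * (g : M4)ᵀ * Matrix.J (Fin 2) F * ((g : M4) * g) =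
      (g : M4)ᵀ * ((g : M4)ᵀ * Matrix.J (Fin 2) F * g) * g by simp only [Matrix.mul_assoc], hadj,
      Matrix.mul_smul, Matrix.smul_mul, hadj, smul_smul, smul_smul]
    rw [show ((16 : F)⁻¹ * 16⁻¹ * 16 * 16) = 1 by field_simp, one_smul]
  have hsn : s ∈ Cfsg.Geo.subgroupNormalizer R := h.normalizer_of_frame Fr fun i => by
    rw [hsc, mul_inv_cancel_right]; exact Fr.mem i
  have hkn : k ∈ Cfsg.Geo.subgroupNormalizer R := hk ▸ mul_mem hsn (mul_mem hgn hgn)
  have hk5 : ∀ z : G4, k ^ 5 * z = z * k ^ 5 := by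
    intro z
    have h1 : k ^ 5 = s ^ 5 * (g ^ 5 * g ^ 5) := by
      rw [hk, (show Commute s (g * g) from hsc _).mul_pow, (Commute.refl g).mul_pow]
    have c1 : Commute (g ^ 5) z := h.central_comm hg5 z
    have c2 : Commute (s ^ 5) z := Commute.pow_left (hsc z) 5
    rw [h1]
    exact (c2.mul_left (c1.mul_left c1)).eq
  obtain ⟨c, hc⟩ := h.scalar (x := k ^ 5) (fun z _ => hk5 z)
  have hk10 : (k * k) ^ 5 = 1 := by
    rw [(Commute.refl k).mul_pow]
    rcases gl_scalar_cases (pow_mem hksp 5) hc with e | e <;> simp [e]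
  refine ⟨k * k, mul_mem hksp hksp, mul_mem hkn hkn, hk10, fun e => ?_⟩
  have e1 : s * s * (g * g * (g * g)) = 1 := by
    rw [← e, hk, (show Commute (g * g) s from (hsc _).symm).mul_mul_mul_comm]
  have hcomm : ∀ z, g * g * (g * g) * z = z * (g * g * (g * g)) := by
    intro z
    have e2 : g * g * (g * g) = (s * s)⁻¹ := eq_inv_of_mul_eq_one_right e1
    rw [e2]
    exact ((Commute.mul_left (hsc z) (hsc z)).inv_left).eq
  have h4 : g * g * (g * g) * Fr.v 0 = Fr.v 4 * (g * g * (g * g)) := by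
    simp only [mul_assoc]
    rw [hgv, ← mul_assoc g (Fr.v _), hgv, mul_assoc, ← mul_assoc g (Fr.v _), hgv, mul_assoc,
      ← mul_assoc g (Fr.v _), hgv, mul_assoc]
    rfl
  rw [hcomm] at h4
  have h5 : Fr.v 0 = Fr.v 4 := mul_right_cancel h4
  have h6 := Fr.anti 0 4 (by decide)
  rw [← h5] at h6
  exact h.not_comm_of_anti h6 rfl



theorem zmod_five_cases : ∀ a : ZMod 5, a ≠ 0 → (∃ b, a = b * b) ∨ (a ^ 4 = 1 ∧ ¬ a ^ 2 = 1) := by
  decide

theorem exists_golden {K : Type*} [Field K] [Fintype K] {p : ℕ} [Fact p.Prime] (hK : Fintype.card K = p)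
    (h2 : (2 : K) ≠ 0) (hp5 : p ≠ 5) (h : orderOf (p : ZMod 5) ≠ 4) : ∃ t : K, t * t + t - 1 = 0 := by
  haveI : Fact (Nat.Prime 5) := ⟨by norm_num⟩
  haveI : CharP K p := charP_of_card_eq_prime_pow (f := 1) (by rw [hK, pow_one])
  have hp := (Fact.out : p.Prime)
  have hp2 : p ≠ 2 := by
    rintro rfl
    exact h2 (by exact_mod_cast CharP.cast_eq_zero K 2)
  have hne : (p : ZMod 5) ≠ 0 := fun e =>
    hp5 ((Nat.prime_dvd_prime_iff_eq (by norm_num) hp).1 ((ZMod.natCast_eq_zero_iff _ _).1 e)).symm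
  have key : ∀ a : ZMod 5, a ≠ 0 → orderOf a ≠ 4 → IsSquare a := by
    intro a ha h4
    rcases zmod_five_cases a ha with ⟨b, hb⟩ | ⟨e4, e2⟩
    · exact ⟨b, hb⟩
    · haveI : Fact (Nat.Prime 2) := ⟨Nat.prime_two⟩
      exact absurd (orderOf_eq_prime_pow (p := 2) (n := 1) e2 e4) h4
  obtain ⟨s, hs⟩ := (ZMod.exists_sq_eq_prime_iff_of_mod_four_eq_one (p := 5) (q := p) (by norm_num) hp2).1
    (key _ hne h)
  let e := ZMod.castHom (dvd_refl p) K
  have hs' : e s * e s = 5 := by rw [← map_mul, ← hs, map_natCast]; norm_num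
  refine ⟨(e s - 1) / 2, ?_⟩
  field_simp
  linear_combination hs'

/-- The negative cases. -/
theorem sp_negative [Fintype F] {p : ℕ} [Fact p.Prime] [CharP F p] (hF : Fintype.card F = p) (h : Setting R)
    (hm : Cfsg.Geo.IsOfMinusType 2 R) (hz2 : Nat.card (Subgroup.center R) = 2) (r : ℕ) [Fact r.Prime]
    (hΩ : r ∣ (Cfsg.Geo.subgroupNormalizer R).relIndex (Cfsg.spGL 2 F))
    (H : ∀ x ∈ Cfsg.spGL 2 F, (∃ z : F, ((x ^ r : G4) : M4) = z • (1 : M4)) →
      (∀ z : F, (x : M4) ≠ z • (1 : M4)) →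
      ∃ g ∈ Cfsg.spGL 2 F, g⁻¹ * x * g ∈ Cfsg.Geo.subgroupNormalizer R) :
    r = 2 ∨ (r = 5 ∧ orderOf (p : ZMod 5) = 4) := by
  classical
  have hr := (Fact.out : r.Prime)
  have hp := (Fact.out : p.Prime)
  by_contra hcon
  push Not at hcon
  obtain ⟨hr2, hr5⟩ := hcon
  have hodd : Odd r := hr.odd_of_ne_two hr2
  -- transfer of an element
  have move : ∀ x : G4, x ∈ Cfsg.spGL 2 F → x ^ r = 1 → (∀ z : F, (x : M4) ≠ z • (1 : M4)) →
      ∃ y g : G4, y = g⁻¹ * x * g ∧ y ∈ Cfsg.Geo.subgroupNormalizer R ∧ y ^ r = 1 ∧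
        (∀ z : F, (y : M4) ≠ z • (1 : M4)) ∧ (y : M4).trace = (x : M4).trace ∧
        ((y⁻¹ : G4) : M4).trace = ((x⁻¹ : G4) : M4).trace := by
    intro x hx hxr hns
    obtain ⟨g, -, hgy⟩ := H x hx ⟨1, by rw [hxr, one_smul]; rfl⟩ hns
    have hyr : (g⁻¹ * x * g) ^ r = 1 := by
      rw [show g⁻¹ * x * g = g⁻¹ * x * g⁻¹⁻¹ by rw [inv_inv], conj_pow, hxr, mul_one, inv_inv, inv_mul_cancel]
    have htr : ∀ a : G4, ((g⁻¹ * a * g : G4) : M4).trace = (a : M4).trace := by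
      intro a
      rw [Units.val_mul, Units.val_mul, Matrix.trace_mul_cycle, ← Units.val_mul, mul_inv_cancel, Units.val_one,
        Matrix.one_mul]
    refine ⟨_, g, rfl, hgy, hyr, fun z hz => hns z ?_, htr x, ?_⟩
    · have e : x = g * (g⁻¹ * x * g) * g⁻¹ := by group
      rw [e, Units.val_mul, Units.val_mul, hz, Matrix.mul_smul, Matrix.smul_mul, Matrix.mul_one, ← Units.val_mul,
        mul_inv_cancel, Units.val_one]
    · rw [show (g⁻¹ * x * g)⁻¹ = g⁻¹ * x⁻¹ * g by group]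
      exact htr _
  -- the transvection
  have transv : r = p → False := by
    intro hrp
    obtain ⟨x, hx, hxv, -⟩ := exists_emb (F := F) (a := 1) (b := 1) (c := 0) (d := 1) (by ring)
    obtain ⟨g, hg, hgy⟩ := H x hx ⟨1, by
      rw [one_smul, hrp, Units.val_pow_eq_pow_val, hxv, emb_transvection_pow, CharP.cast_eq_zero, emb_one]⟩
      (fun z => hxv ▸ emb_not_scalar one_ne_zero z)
    have hrk : (((g⁻¹ * x * g : G4) : M4) - (1 : F) • 1).rank ≤ 1 := by
      have e : ((g⁻¹ * x * g : G4) : M4) - (1 : F) • 1 =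
          ((g⁻¹ : G4) : M4) * ((x : M4) - (1 : F) • 1) * (g : M4) := by
        rw [one_smul, Matrix.mul_sub, Matrix.sub_mul, Matrix.mul_one, ← Units.val_mul, ← Units.val_mul,
          ← Units.val_mul g⁻¹ g, inv_mul_cancel, Units.val_one]
      rw [e, hxv]
      exact ((Matrix.rank_mul_le_left _ _).trans (Matrix.rank_mul_le_right _ _)).trans emb_transvection_rank
    obtain ⟨c, hc⟩ := h.rank_one hgy hrk
    have e : x * x = g * (g⁻¹ * x * g * (g⁻¹ * x * g)) * g⁻¹ := by group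
    have e' : ((x * x : G4) : M4) = c • 1 := by
      rw [e, Units.val_mul, Units.val_mul, hc, Matrix.mul_smul, Matrix.smul_mul, Matrix.mul_one, ← Units.val_mul,
        mul_inv_cancel, Units.val_one]
    rw [Units.val_mul, hxv, emb_mul] at e'
    exact emb_not_scalar (by ring_nf; exact h.two) c e'
  have hle7 : 7 ≤ r → False := by
    intro h7
    obtain ⟨x, hx⟩ := exists_prime_orderOf_dvd_card' r (hΩ.trans (Subgroup.index_dvd_card _))
    have hxr : (x : G4) ^ r = 1 := by rw [← Subgroup.coe_pow, ← hx, pow_orderOf_eq_one, Subgroup.coe_one]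
    obtain ⟨y, g, -, hy, hyr, hns, -, -⟩ := move x x.2 hxr (fun z hz => by
      have h2 : orderOf x ∣ 2 := orderOf_dvd_of_pow_eq_one (Subtype.ext (by
        rcases gl_scalar_cases x.2 hz with e | e <;> simp [e]))
      have := Nat.le_of_dvd two_pos (hx ▸ h2)
      omega)
    obtain ⟨c, hc⟩ := h.scalar_of_seven_le hy h7 (fun g _ => by rw [hyr, one_mul, mul_one])
    exact hns c hc
  -- the companion element
  have comp : ∀ t : F, emb (0 : F) (-1) 1 t ^ r = 1 → ∃ k : ℕ, k ∣ 16 ∧ k ≠ 16 ∧ k ≡ 16 [MOD r] ∧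
      (k : F) = (t + 2) * (t + 2) ∧
      ((k = 1) → r = 3 → False) := by
    intro t ht
    obtain ⟨x, hx, hxv, hxi⟩ := exists_emb (F := F) (a := 0) (b := -1) (c := 1) (d := t) (by ring)
    obtain ⟨y, g, -, hy, hyr, hns, htr, htr'⟩ := move x hx
      (Units.ext (by rw [Units.val_pow_eq_pow_val, hxv, ht]; rfl))
      (fun z => hxv ▸ emb_not_scalar (neg_ne_zero.2 one_ne_zero) z)
    have hyc : ∀ g ∈ R, y ^ r * g = g * y ^ r := fun g _ => by rw [hyr, one_mul, mul_one]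
    obtain ⟨k, hk, hkd, hkm, hkT, htop⟩ := h.index_cases hy hodd hyc
    refine ⟨k, hkd, fun e => ?_, hkm, ?_, ?_⟩
    · obtain ⟨c, hc⟩ := htop e
      exact hns c hc
    · rw [hkT, htr, htr', hxv, hxi, emb_trace, emb_trace]
      ring
    · rintro rfl rfl
      exact fixed_ne_center h hm hz2 hy hyc (by rw [hk, one_mul])
  have hsmall : r = 3 ∨ r = 5 := by
    have := hr.two_le
    rcases Nat.lt_or_ge r 7 with h7 | h7
    · have h4 : r ≠ 4 := by rintro rfl; norm_num at hr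
      have h6 : r ≠ 6 := by rintro rfl; norm_num at hr
      omega
    · exact (hle7 h7).elim
  have hpn : ∀ q : ℕ, q.Prime → q ≠ p → (q : F) ≠ 0 := fun q hq hne e =>
    hne (((Nat.prime_dvd_prime_iff_eq hp hq).1 ((CharP.cast_eq_zero_iff F p q).1 e)).symm)
  rcases hsmall with rfl | rfl
  · by_cases hp3 : p = 3
    · exact transv hp3.symm
    · obtain ⟨k, hkd, h16, hkm, hkT, hk1⟩ := comp (-1) emb_pow_three
      obtain ⟨j, hj, rfl⟩ := (Nat.dvd_prime_pow Nat.prime_two).1 (show k ∣ 2 ^ 4 by norm_num; exact hkd)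
      have hj' : j = 0 ∨ j = 2 ∨ j = 4 := by
        interval_cases j <;> simp_all [Nat.ModEq]
      rcases hj' with rfl | rfl | rfl
      · exact hk1 rfl rfl
      · refine hpn 3 Nat.prime_three (Ne.symm hp3) ?_
        push_cast at hkT ⊢
        linear_combination hkT
      · exact h16 rfl
  · have h54 := hr5 rfl
    by_cases hp5 : p = 5
    · exact transv hp5.symm
    · obtain ⟨t, ht⟩ : ∃ t : F, t * t + t - 1 = 0 := exists_golden hF h.two hp5 h54
      obtain ⟨k, hkd, h16, hkm, hkT, -⟩ := comp t (emb_pow_five ht)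
      obtain ⟨j, hj, rfl⟩ := (Nat.dvd_prime_pow Nat.prime_two).1 (show k ∣ 2 ^ 4 by norm_num; exact hkd)
      have hj' : j = 0 ∨ j = 4 := by
        interval_cases j <;> simp_all [Nat.ModEq]
      rcases hj' with rfl | rfl
      · push_cast at hkT
        rcases mul_self_eq_one_iff.1 (show (t + 2) * (t + 2) = 1 by linear_combination -hkT) with e | e
        · have e' : t = -1 := by linear_combination e
          subst e'
          exact one_ne_zero (show (1 : F) = 0 by linear_combination -ht)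
        · have e' : t = -3 := by linear_combination e
          subst e'
          exact hpn 5 (by norm_num) (Ne.symm hp5) (by push_cast; linear_combination ht)
      · exact h16 rfl

/-- The positive case for the prime five. -/
theorem sp_five [Fintype F] {p : ℕ} [Fact p.Prime] (hF : Fintype.card F = p) (h : Setting R) (Fr : Frame R)
    (hRf : R ≤ Cfsg.spGL 2 F) (h54 : orderOf (p : ZMod 5) = 4) {x : G4} (hx : x ∈ Cfsg.spGL 2 F)
    {z : F} (hz : ((x ^ 5 : G4) : M4) = z • 1) (hns : ∀ z : F, (x : M4) ≠ z • (1 : M4)) :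
    ∃ g ∈ Cfsg.spGL 2 F, g⁻¹ * x * g ∈ Cfsg.Geo.subgroupNormalizer R := by
  classical
  haveI : Fact (Nat.Prime 5) := ⟨by norm_num⟩
  obtain ⟨y, hysp, hyn, hy5, hy1⟩ := exists_five h Fr hRf
  have hneg : (-1 : G4) ∈ Cfsg.spGL 2 F := hRf h.neg
  obtain ⟨s, hs, hsn, hsc, hs5⟩ : ∃ s : G4, s ∈ Cfsg.spGL 2 F ∧ s ∈ Cfsg.Geo.subgroupNormalizer R ∧
      (∀ a, s * a = a * s) ∧ (s * x) ^ 5 = 1 := by
    rcases gl_scalar_cases (pow_mem hx 5) hz with e | e
    · exact ⟨1, one_mem _, one_mem _, fun a => by rw [one_mul, mul_one], by rw [one_mul, e]⟩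
    · exact ⟨-1, hneg, neg_one_mem_normalizer, fun a => by rw [neg_one_mul, mul_neg, mul_one],
        by rw [neg_one_mul, Odd.neg_pow (by decide), e, neg_neg]⟩
  have hsx : s * x ≠ 1 := by
    intro e
    have e1 : x = s⁻¹ := eq_inv_of_mul_eq_one_right e
    obtain ⟨c, hc⟩ := h.scalar (x := x) (fun g _ => by
      rw [e1]; exact ((show Commute s g from hsc g).inv_left).eq)
    exact hns c hc
  have hirr := cyclotomic_five_irreducible hF h54
  have hdep : ∀ a b : Cfsg.spGL 2 F, orderOf a = 5 → orderOf b = 5 → a * b = b * a → b ∈ Subgroup.zpowers a := by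
    intro a b ha hb hab
    have ha5 : ((a : G4) : M4) ^ 5 = 1 := by
      rw [← Units.val_pow_eq_pow_val, ← Subgroup.coe_pow, ← ha, pow_orderOf_eq_one]; rfl
    have hb5 : ((b : G4) : M4) ^ 5 = 1 := by
      rw [← Units.val_pow_eq_pow_val, ← Subgroup.coe_pow, ← hb, pow_orderOf_eq_one]; rfl
    have ha1 : ((a : G4) : M4) ≠ 1 := fun e => by
      rw [show a = 1 from Subtype.ext (Units.ext e), orderOf_one] at ha
      omega
    obtain ⟨k, hk⟩ := eq_pow_of_commute h.dim hirr _ _ ha5 ha1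
      (by rw [← Units.val_mul, ← Units.val_mul, ← Subgroup.coe_mul, ← Subgroup.coe_mul, hab]) hb5
    rw [show b = a ^ k from Subtype.ext (Units.ext (by
      rw [Subgroup.coe_pow, Units.val_pow_eq_pow_val]; exact hk))]
    exact Subgroup.pow_mem _ (Subgroup.mem_zpowers a) k
  haveI : Finite (Cfsg.spGL 2 F) := inferInstance
  have hoy : orderOf (⟨y, hysp⟩ : Cfsg.spGL 2 F) = 5 :=
    orderOf_eq_prime (Subtype.ext hy5) (fun e => hy1 (congrArg Subtype.val e))
  have hox : orderOf (⟨s * x, mul_mem hs hx⟩ : Cfsg.spGL 2 F) = 5 :=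
    orderOf_eq_prime (Subtype.ext hs5) (fun e => hsx (congrArg Subtype.val e))
  obtain ⟨g, hg⟩ := conj_of_dependent hdep hox hoy
  obtain ⟨i, hi⟩ := Subgroup.mem_zpowers_iff.1 hg
  refine ⟨g, g.2, ?_⟩
  have hgy : (g : G4)⁻¹ * (s * x) * g ∈ Cfsg.Geo.subgroupNormalizer R := by
    have e := congrArg Subtype.val hi
    simp only [Subgroup.coe_zpow, Subgroup.coe_mul, Subgroup.coe_inv] at e
    rw [← e]
    exact zpow_mem hyn i
  have e : (g : G4)⁻¹ * x * g = s⁻¹ * ((g : G4)⁻¹ * (s * x) * g) := by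
    rw [← mul_assoc (g : G4)⁻¹ s x, ← hsc]
    group
  rw [e]
  exact mul_mem (inv_mem hsn) hgy

/-- The criterion. -/
theorem sp_criterion [Fintype F] {p : ℕ} [Fact p.Prime] [CharP F p] (hF : Fintype.card F = p) (h : Setting R)
    (hm : Cfsg.Geo.IsOfMinusType 2 R) (hz2 : Nat.card (Subgroup.center R) = 2) (hRf : R ≤ Cfsg.spGL 2 F)
    (r : ℕ) [Fact r.Prime]
    (hΩ : r ∣ (Cfsg.Geo.subgroupNormalizer R).relIndex (Cfsg.spGL 2 F)) :
    (∀ x ∈ Cfsg.spGL 2 F, (∃ z : F, ((x ^ r : G4) : M4) = z • (1 : M4)) →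
      (∀ z : F, (x : M4) ≠ z • (1 : M4)) →
      ∃ g ∈ Cfsg.spGL 2 F, g⁻¹ * x * g ∈ Cfsg.Geo.subgroupNormalizer R) ↔
      (r = 2 ∨ (r = 5 ∧ orderOf (p : ZMod 5) = 4)) := by
  refine ⟨sp_negative hF h hm hz2 r hΩ, ?_⟩
  obtain ⟨Fr⟩ := exists_frame h hm
  have hRN : R ≤ Cfsg.Geo.subgroupNormalizer R := Subgroup.le_normalizer
  rintro (rfl | ⟨rfl, h54⟩) x hx ⟨z, hz⟩ hns
  · have hnc : ∀ {u v : G4}, v ∈ R → u * v = -(v * u) → ∀ c : F, (u : M4) ≠ c • 1 := fun {u v} _ e c hc =>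
      h.not_comm_of_anti e (Setting.comm_scalar hc v)
    have hv01 := Fr.anti 0 1 (by decide)
    rcases gl_scalar_cases (pow_mem hx 2) hz with e | e <;> rw [pow_two] at e
    · obtain ⟨g, hg, hgx⟩ := sq_one_conj h.two hx (hRf (Fr.mem 0)) e (Fr.sq 0) hns (hnc (Fr.mem 1) hv01)
      exact ⟨g, hg, hgx.symm ▸ hRN (Fr.mem 0)⟩
    · have e2 : Fr.v 0 * Fr.v 1 * (Fr.v 0 * Fr.v 1) = -1 := by
        rw [mul_assoc, ← mul_assoc (Fr.v 1), show Fr.v 1 * Fr.v 0 = -(Fr.v 0 * Fr.v 1) by rw [hv01, neg_neg],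
          neg_mul, mul_neg, mul_assoc (Fr.v 0) (Fr.v 1), Fr.sq, mul_one, Fr.sq]
      obtain ⟨g, hg, hgx⟩ := sq_neg_one_conj h.two hx (hRf (mul_mem (Fr.mem 0) (Fr.mem 1))) e e2
      exact ⟨g, hg, hgx.symm ▸ hRN (mul_mem (Fr.mem 0) (Fr.mem 1))⟩
  · exact sp_five hF h Fr hRf h54 hx hz hns

end Cfsg.Agent.Symp4
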