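import Cfsg.Agent.Symp4.Setting

/-!
# Elements of prime order normalising the two-group: fixed points and traces
-/

set_option autoImplicit false
set_option linter.unusedSectionVars false
set_option linter.style.haveILetI false

namespace Cfsg.Agent.Symp4

open Matrix

variable {ι : Type} [Fintype ι] [DecidableEq ι] {F : Type*} [Field F] {R : Subgroup (GL ι F)}

/-- The elements of the group commuting with a given matrix. -/
def cent (R : Subgroup (GL ι F)) (y : GL ι F) : Subgroup R :=
  (Subgroup.centralizer {y}).comap R.subtype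

theorem mem_cent {y : GL ι F} {g : R} : g ∈ cent R y ↔ y * (g : GL ι F) = g * y :=
  Subgroup.mem_comap.trans ⟨fun h => (Subgroup.mem_centralizer_singleton_iff.1 h).symm,
    fun h => Subgroup.mem_centralizer_singleton_iff.2 h.symm⟩

theorem mem_center_iff' {g : R} :
    g ∈ Subgroup.center R ↔ ∀ x ∈ R, (g : GL ι F) * x = x * g := by
  rw [Subgroup.mem_center_iff]
  exact ⟨fun h x hx => congrArg Subtype.val (h ⟨x, hx⟩).symm,
    fun h x => Subtype.ext (h x.1 x.2).symm⟩

namespace Setting

variable (h : Setting R)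
include h

theorem finite : Finite R :=
  Nat.finite_of_card_ne_zero (by rw [h.card]; rcases h.zcard with e | e <;> rw [e] <;> norm_num)

theorem nonempty : Nonempty ι := Fintype.card_pos_iff.1 (by rw [h.dim]; norm_num)

theorem two_pow_ne (n : ℕ) : ((2 ^ n : ℕ) : F) ≠ 0 := by
  rw [Nat.cast_pow, Nat.cast_ofNat]; exact pow_ne_zero _ h.two

theorem four_ne : (4 : F) ≠ 0 := by
  have := h.two_pow_ne 2
  norm_num at this ⊢
  exact this

theorem trace_one : Matrix.trace (1 : Matrix ι ι F) = 4 := by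
  rw [Matrix.trace_one, h.dim]; norm_num

theorem scalar {x : GL ι F} (hx : ∀ g ∈ R, x * g = g * x) :
    ∃ c : F, (x : Matrix ι ι F) = c • 1 :=
  h.irr _ fun g hg => by rw [← Units.val_mul, hx g hg, Units.val_mul]

omit h in
theorem comm_scalar {x : GL ι F} {c : F} (hx : (x : Matrix ι ι F) = c • 1) (g : GL ι F) :
    x * g = g * x := by
  apply Units.ext
  rw [Units.val_mul, Units.val_mul, hx, Matrix.smul_mul, Matrix.mul_smul, Matrix.one_mul, Matrix.mul_one]

theorem central_comm {x : GL ι F} (hx : ∀ g ∈ R, x * g = g * x) (g : GL ι F) : x * g = g * x :=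
  (h.scalar hx).elim fun _ hc => comm_scalar hc g

theorem pow_four {x : GL ι F} (hx : x ∈ R) : x ^ 4 = 1 := by
  rw [show 4 = 2 + 2 from rfl, pow_add, pow_two]
  rcases h.sq x hx with e | e <;> simp [e]

theorem trace_zero {x : GL ι F} (hx : x ∈ R) (hn : ¬ ∀ g ∈ R, x * g = g * x) :
    (x : Matrix ι ι F).trace = 0 := by
  push Not at hn
  obtain ⟨g, hg, hgx⟩ := hn
  have e := (h.comm x hx g hg).resolve_left hgx
  have e' : g⁻¹ * x * g = -x := by
    rw [mul_assoc, e, mul_neg, ← mul_assoc, inv_mul_cancel, one_mul]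
  have h1 := congrArg (fun z : GL ι F => (z : Matrix ι ι F).trace) e'
  simp only [Units.val_mul, Units.val_neg, Matrix.trace_neg] at h1
  rw [Matrix.trace_mul_cycle, ← Units.val_mul g g⁻¹, mul_inv_cancel, Units.val_one, Matrix.one_mul] at h1
  exact (mul_eq_zero.1 (show (2 : F) * (x : Matrix ι ι F).trace = 0 by linear_combination h1)).resolve_left
    h.two

theorem schur [Fintype R] (M : Matrix ι ι F) :
    (4 : F) • ∑ g : R, ((g : GL ι F) : Matrix ι ι F) * M * (((g : GL ι F)⁻¹ : GL ι F) : Matrix ι ι F) =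
      ((Nat.card R : F) * M.trace) • (1 : Matrix ι ι F) := by
  obtain ⟨c, hc⟩ := h.irr (∑ g : R, ((g : GL ι F) : Matrix ι ι F) * M *
    (((g : GL ι F)⁻¹ : GL ι F) : Matrix ι ι F)) (by
    intro x hx
    rw [Finset.sum_mul, Finset.mul_sum]
    symm
    refine Fintype.sum_equiv (Equiv.mulLeft (⟨x, hx⟩ : R)) _ _ fun g => ?_
    simp only [Equiv.coe_mulLeft, Subgroup.coe_mul, _root_.mul_inv_rev, Units.val_mul, Matrix.mul_assoc]
    rw [← Units.val_mul x⁻¹ x, inv_mul_cancel, Units.val_one, Matrix.mul_one])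
  rw [hc, smul_smul]
  congr 1
  have e := congrArg Matrix.trace hc
  rw [Matrix.trace_smul, h.trace_one, Matrix.trace_sum, Finset.sum_congr rfl (fun g _ => by
    rw [Matrix.trace_mul_cycle, ← Units.val_mul, inv_mul_cancel, Units.val_one, Matrix.one_mul]),
    Finset.sum_const, Finset.card_univ, ← Nat.card_eq_fintype_card, nsmul_eq_mul, smul_eq_mul] at e
  linear_combination -e

omit h in
theorem conj_mem {y : GL ι F} (hy : y ∈ Cfsg.Geo.subgroupNormalizer R) {g : GL ι F} (hg : g ∈ R) :
    y * g * y⁻¹ ∈ R :=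
  (Subgroup.mem_normalizer_iff.1 hy g).1 hg

theorem conj_eq_of_central {y : GL ι F} (hy : y ∈ Cfsg.Geo.subgroupNormalizer R) {r : ℕ}
    (hr : Odd r) (hyr : ∀ g ∈ R, y ^ r * g = g * y ^ r) {g : GL ι F} (hg : g ∈ R)
    (hc : ∀ x ∈ R, (y * g * y⁻¹ * g⁻¹) * x = x * (y * g * y⁻¹ * g⁻¹)) : y * g = g * y := by
  obtain ⟨c, hcd⟩ : ∃ c, c = y * g * y⁻¹ * g⁻¹ := ⟨_, rfl⟩
  rw [← hcd] at hc
  have hcR : c ∈ R := hcd ▸ mul_mem (conj_mem hy hg) (inv_mem hg)
  have hcy : ∀ z, c * z = z * c := h.central_comm hc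
  have hit : ∀ n : ℕ, y ^ n * g = c ^ n * g * y ^ n := by
    intro n
    induction n with
    | zero => simp
    | succ n ih =>
      have e : y * g = c * g * y := by rw [hcd]; group
      calc y ^ (n + 1) * g = y * (y ^ n * g) := by rw [pow_succ', mul_assoc]
        _ = y * (c ^ n * g * y ^ n) := by rw [ih]
        _ = y * c ^ n * g * y ^ n := by group
        _ = c ^ n * (y * g) * y ^ n := by
          rw [(Commute.pow_left (hcy y) n).symm.eq, mul_assoc (c ^ n) y g]
        _ = c ^ n * (c * g * y) * y ^ n := by rw [e]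
        _ = c ^ (n + 1) * g * y ^ (n + 1) := by rw [pow_succ c, pow_succ' y]; group
  have h1 : c ^ r = 1 := by
    have h2 := hit r
    rw [hyr g hg] at h2
    exact (mul_eq_right.1 (mul_right_cancel h2.symm))
  have h4 := h.pow_four hcR
  have hc1 : c = 1 := by
    have hg : Nat.gcd r 4 = 1 := by
      obtain ⟨k, rfl⟩ := hr
      rw [← Nat.coprime_iff_gcd_eq_one, show 4 = 2 ^ 2 from rfl]
      exact Nat.Coprime.pow_right 2 (Nat.coprime_two_right.2 ⟨k, rfl⟩)
    have hp := pow_gcd_eq_one.2 ⟨h1, h4⟩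
    rwa [hg, pow_one] at hp
  rw [hcd, mul_inv_eq_one, mul_inv_eq_iff_eq_mul] at hc1
  exact hc1

/-- The trace formula. -/
theorem trace_formula {y : GL ι F} (hy : y ∈ Cfsg.Geo.subgroupNormalizer R) {r : ℕ} (hr : Odd r)
    (hyr : ∀ g ∈ R, y ^ r * g = g * y ^ r) :
    (Nat.card (cent R y) : F) = (Nat.card (Subgroup.center R) : F) *
      ((y : Matrix ι ι F).trace * ((y⁻¹ : GL ι F) : Matrix ι ι F).trace) := by
  classical
  haveI := h.finite
  letI : Fintype R := Fintype.ofFinite R
  have hs := congrArg (fun A : Matrix ι ι F => (A * ((y⁻¹ : GL ι F) : Matrix ι ι F)).trace)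
    (h.schur (y : Matrix ι ι F))
  simp only [Matrix.smul_mul, Matrix.trace_smul, Finset.sum_mul, Matrix.trace_sum, Matrix.one_mul,
    smul_eq_mul] at hs
  have hterm : ∀ g : R, (((g : GL ι F) : Matrix ι ι F) * (y : Matrix ι ι F) *
      (((g : GL ι F)⁻¹ : GL ι F) : Matrix ι ι F) * ((y⁻¹ : GL ι F) : Matrix ι ι F)).trace =
      if g ∈ cent R y then 4 else 0 := by
    intro g
    have hval : ((g : GL ι F) : Matrix ι ι F) * (y : Matrix ι ι F) *
        (((g : GL ι F)⁻¹ : GL ι F) : Matrix ι ι F) * ((y⁻¹ : GL ι F) : Matrix ι ι F) =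
        (((g : GL ι F) * y * (g : GL ι F)⁻¹ * y⁻¹ : GL ι F) : Matrix ι ι F) := by
      simp only [Units.val_mul]
    rw [hval]
    split_ifs with hg
    · rw [mem_cent] at hg
      rw [← hg, mul_inv_cancel_right, mul_inv_cancel, Units.val_one, h.trace_one]
    · have hinv : (g : GL ι F) * y * (g : GL ι F)⁻¹ * y⁻¹ =
          (y * g * y⁻¹ * (g : GL ι F)⁻¹)⁻¹ := by group
      refine h.trace_zero (by rw [hinv]; exact inv_mem (mul_mem (conj_mem hy g.2) (inv_mem g.2))) ?_
      intro hall
      refine hg (mem_cent.2 (h.conj_eq_of_central hy hr hyr g.2 fun x hx => ?_))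
      have := (show Commute ((g : GL ι F) * y * (g : GL ι F)⁻¹ * y⁻¹) x from hall x hx).inv_left
      rw [hinv, inv_inv] at this
      exact this.eq
  rw [Finset.sum_congr rfl (fun g _ => hterm g), Finset.sum_ite, Finset.sum_const_zero, add_zero,
    Finset.sum_const, nsmul_eq_mul, ← Fintype.card_subtype] at hs
  rw [Nat.card_eq_fintype_card (α := cent R y)]
  rw [h.card, Nat.cast_mul] at hs
  have h16 : (16 : F) ≠ 0 := by
    rw [show (16 : F) = 4 * 4 by norm_num]; exact mul_ne_zero h.four_ne h.four_ne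
  refine mul_left_cancel₀ h16 ?_
  push_cast at hs ⊢
  linear_combination hs

theorem card_modEq {y : GL ι F} (hy : y ∈ Cfsg.Geo.subgroupNormalizer R) {r : ℕ} [Fact r.Prime]
    (hyr : ∀ g ∈ R, y ^ r * g = g * y ^ r) : Nat.card R ≡ Nat.card (cent R y) [MOD r] := by
  classical
  haveI := h.finite
  letI : Fintype R := Fintype.ofFinite R
  let f : Function.End R := fun g => ⟨y * g * y⁻¹, conj_mem hy g.2⟩
  have hfp : ∀ (k : ℕ) (g : R), ((f ^ k) g : GL ι F) = y ^ k * g * (y ^ k)⁻¹ := by
    intro k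
    induction k with
    | zero => intro g; rw [pow_zero, pow_zero, inv_one, one_mul, mul_one]; rfl
    | succ k ih =>
      intro g
      rw [pow_succ', show ((f * f ^ k) g : GL ι F) = y * ((f ^ k) g : GL ι F) * y⁻¹ from rfl, ih,
        pow_succ' y]
      group
  have hf : f ^ r ^ 1 = 1 := by
    rw [pow_one]
    funext g
    refine Subtype.ext ?_
    rw [hfp, hyr g g.2, mul_inv_cancel_right]
    rfl
  have hmod := Equiv.Perm.card_fixedPoints_modEq hf
  have e : Function.fixedPoints f = {g : R | g ∈ cent R y} := by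
    ext g
    rw [Function.mem_fixedPoints, Function.IsFixedPt, Set.mem_ofPred_eq, mem_cent]
    exact ⟨fun hg => mul_inv_eq_iff_eq_mul.1 (congrArg Subtype.val hg : y * g * y⁻¹ = g),
      fun hg => Subtype.ext (mul_inv_eq_iff_eq_mul.2 hg : y * (g : GL ι F) * y⁻¹ = g)⟩
  rw [← Nat.card_eq_fintype_card] at hmod
  refine hmod.trans (show _ ≡ _ [MOD _] from congrArg (· % _) ?_)
  rw [← Nat.card_eq_fintype_card]
  exact Nat.card_congr (Equiv.setCongr e)

/-- The number of fixed cosets modulo the centre. -/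
theorem index_cases {y : GL ι F} (hy : y ∈ Cfsg.Geo.subgroupNormalizer R) {r : ℕ} [Fact r.Prime]
    (hr : Odd r) (hyr : ∀ g ∈ R, y ^ r * g = g * y ^ r) :
    ∃ k : ℕ, Nat.card (cent R y) = k * Nat.card (Subgroup.center R) ∧ k ∣ 16 ∧ k ≡ 16 [MOD r] ∧
      (k : F) = (y : Matrix ι ι F).trace * ((y⁻¹ : GL ι F) : Matrix ι ι F).trace ∧
      (k = 16 → ∃ c : F, (y : Matrix ι ι F) = c • 1) := by
  haveI := h.finite
  have hle : Subgroup.center R ≤ cent R y := fun g hg =>
    mem_cent.2 (h.central_comm (mem_center_iff'.1 hg) y).symm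
  obtain ⟨k, hk⟩ := Subgroup.card_dvd_of_le hle
  rw [mul_comm] at hk
  have hmod := h.card_modEq hy hyr
  have htr := h.trace_formula hy hr hyr
  have hz0 : 0 < Nat.card (Subgroup.center R) := Nat.card_pos
  have hr2 := hr
  have hcop : Nat.gcd r (Nat.card (Subgroup.center R)) = 1 := by
    rw [← Nat.coprime_iff_gcd_eq_one]
    have h2 : Nat.Coprime r 2 := Nat.coprime_two_right.2 hr2
    rcases h.zcard with e | e <;> rw [e]
    · exact h2
    · exact (show 4 = 2 ^ 2 from rfl) ▸ h2.pow_right 2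
  have hd := Subgroup.card_subgroup_dvd_card (cent R y)
  rw [hk, h.card] at hd hmod
  refine ⟨k, hk, Nat.dvd_of_mul_dvd_mul_right hz0 hd,
    (Nat.ModEq.cancel_right_of_coprime hcop hmod).symm, ?_, fun h16 => h.scalar fun g hg => ?_⟩
  · rw [hk, Nat.cast_mul, mul_comm] at htr
    refine mul_left_cancel₀ ?_ htr
    rcases h.zcard with e | e <;> rw [e]
    · exact h.two_pow_ne 1
    · exact h.two_pow_ne 2
  · have htop : cent R y = ⊤ := Subgroup.eq_top_of_card_eq _ (by rw [hk, h.card, h16])
    exact mem_cent.1 (htop ▸ Subgroup.mem_top (⟨g, hg⟩ : R))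

/-- A normalising element of prime order at least seven modulo scalars is scalar. -/
theorem scalar_of_seven_le {y : GL ι F} (hy : y ∈ Cfsg.Geo.subgroupNormalizer R) {r : ℕ}
    [Fact r.Prime] (hr : 7 ≤ r) (hyr : ∀ g ∈ R, y ^ r * g = g * y ^ r) :
    ∃ c : F, (y : Matrix ι ι F) = c • 1 := by
  classical
  haveI := h.finite
  have hrp : r.Prime := Fact.out
  have hodd : Odd r := hrp.odd_of_ne_two (by omega)
  obtain ⟨k, hk, hkd, hmod, -, htop⟩ := h.index_cases hy hodd hyr
  by_cases h16 : k = 16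
  · exact htop h16
  exfalso
  have hk16 := Nat.le_of_dvd (by norm_num) hkd
  have hdv : r ∣ 16 - k := (Nat.modEq_iff_dvd' hk16).1 hmod
  obtain ⟨j, hj, rfl⟩ := (Nat.dvd_prime_pow Nat.prime_two).1 (show k ∣ 2 ^ 4 by norm_num; exact hkd)
  have big : ∀ {a b : ℕ}, r ∣ a * b → a < r → 0 < a → r ∣ b := fun hab ha ha0 =>
    (hrp.dvd_mul.1 hab).resolve_left fun h' => by have := Nat.le_of_dvd ha0 h'; omega
  have hk2 : j = 1 ∧ r = 7 := by
    interval_cases j
    · have := Nat.le_of_dvd (by norm_num) (big (a := 3) (b := 5) (by simpa using hdv) (by omega) (by norm_num))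
      omega
    · exact ⟨rfl, (Nat.prime_dvd_prime_iff_eq hrp (by norm_num)).1
        (big (a := 2) (b := 7) (by simpa using hdv) (by omega) (by norm_num))⟩
    · have := Nat.le_of_dvd (by norm_num) (big (a := 4) (b := 3) (by simpa using hdv) (by omega) (by norm_num))
      omega
    · have := Nat.le_of_dvd (by norm_num) (big (a := 4) (b := 2) (by simpa using hdv) (by omega) (by norm_num))
      omega
    · simp at h16
  obtain ⟨rfl, rfl⟩ := hk2
  rw [pow_one] at hk
  obtain ⟨u, huC, huZ⟩ : ∃ u ∈ cent R y, u ∉ Subgroup.center R := by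
    by_contra hcon
    push Not at hcon
    have h1 := Subgroup.card_le_of_le (show cent R y ≤ Subgroup.center R from fun g hg => hcon g hg)
    have := Nat.card_pos (α := Subgroup.center R)
    omega
  obtain ⟨w, hw⟩ : ∃ w : R, u * w ≠ w * u := by
    by_contra hcon
    push Not at hcon
    exact huZ (Subgroup.mem_center_iff.2 fun g => (hcon g).symm)
  -- half of the group commutes with `u`
  set P : Subgroup R := Subgroup.centralizer {u} with hP
  have hmemP : ∀ {g : R}, g ∈ P ↔ u * g = g * u := fun {g} =>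
    Subgroup.mem_centralizer_singleton_iff.trans ⟨Eq.symm, Eq.symm⟩
  have hcoe : ∀ {a b : R}, (a : GL ι F) * b = (b : GL ι F) * a ↔ a * b = b * a := fun {a b} =>
    ⟨fun h => Subtype.ext h, fun h => congrArg Subtype.val h⟩
  have hneg : ∀ {a b : R}, a * b ≠ b * a → (a : GL ι F) * b = -((b : GL ι F) * a) := fun {a b} hab =>
    (h.comm _ a.2 _ b.2).resolve_left (mt hcoe.1 hab)
  have hidx : Nat.card R = 2 * Nat.card P := by
    have hind : P.index = 2 := by
      refine Subgroup.index_eq_two_iff.2 ⟨w, fun g => ?_⟩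
      rw [hmemP, hmemP]
      by_cases hg : u * g = g * u
      · refine Or.inr ⟨hg, fun hh => hw (mul_left_cancel (a := g) ?_)⟩
        rw [← mul_assoc, ← hg, mul_assoc, hh, mul_assoc]
      · refine Or.inl ⟨hcoe.1 ?_, hg⟩
        have e1 := hneg hg
        have e2 := hneg hw
        push_cast
        rw [← mul_assoc, e1, neg_mul, mul_assoc, e2, mul_neg, neg_neg, mul_assoc]
    rw [← P.index_mul_card, hind]
  have hCle : cent R y ≤ P := by
    intro g hg
    rw [hmemP]
    by_contra hgu
    -- three distinct cosets of the centre among the fixed points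
    let T : Subgroup R := cent R y ⊓ P
    have hT : T < cent R y := lt_of_le_of_ne inf_le_left fun e =>
      hgu (hmemP.1 ((e ▸ hg : g ∈ T)).2)
    have hZT : Subgroup.center R < T := by
      refine lt_of_le_of_ne (le_inf (fun z hz => mem_cent.2 (h.central_comm (mem_center_iff'.1 hz) y).symm)
        fun z hz => hmemP.2 (Subgroup.mem_center_iff.1 hz u)) fun e => huZ (e ▸ ⟨huC, hmemP.2 rfl⟩)
    obtain ⟨m, hm⟩ := Subgroup.card_dvd_of_le hZT.le
    obtain ⟨n, hn⟩ := Subgroup.card_dvd_of_le hT.le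
    have hm1 : m ≠ 1 := by
      rintro rfl
      exact hZT.ne (Subgroup.eq_of_le_of_card_ge hZT.le (by rw [hm, mul_one]))
    have hn1 : n ≠ 1 := by
      rintro rfl
      exact hT.ne (Subgroup.eq_of_le_of_card_ge hT.le (by rw [hn, mul_one]))
    have hpos := Nat.card_pos (α := Subgroup.center R)
    rw [hk, hm] at hn
    have : 2 = m * n := Nat.eq_of_mul_eq_mul_left hpos (by rw [mul_comm, hn]; ring)
    rcases (Nat.dvd_prime Nat.prime_two).1 (Dvd.intro _ this.symm) with rfl | rfl
    · exact hm1 rfl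
    · omega
  -- the elements outside the fixed group are permuted in cycles of length seven
  have hmodP : Nat.card P ≡ Nat.card (cent R y) [MOD 7] := by
    letI : Fintype P := Fintype.ofFinite P
    let f : Function.End P := fun g => ⟨⟨y * g * y⁻¹, conj_mem hy g.1.2⟩, by
      refine hmemP.2 (Subtype.ext ?_)
      have hu := mem_cent.1 huC
      have hg := congrArg Subtype.val (hmemP.1 g.2)
      push_cast at hg
      show (u : GL ι F) * (y * g * y⁻¹) = (y * g * y⁻¹) * u
      calc (u : GL ι F) * (y * g * y⁻¹) = ((u : GL ι F) * y) * g * y⁻¹ := by group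
        _ = y * ((u : GL ι F) * g) * y⁻¹ := by rw [← hu]; group
        _ = y * g * ((u : GL ι F) * y⁻¹) := by rw [hg]; group
        _ = y * g * (y⁻¹ * u) := by rw [(Commute.inv_left (show Commute y (u : GL ι F) from hu)).eq]
        _ = (y * g * y⁻¹) * u := by group⟩
    have hfp : ∀ (k : ℕ) (g : P), (((f ^ k) g : R) : GL ι F) = y ^ k * g * (y ^ k)⁻¹ := by
      intro k
      induction k with
      | zero => intro g; rw [pow_zero, pow_zero, inv_one, one_mul, mul_one]; rfl
      | succ k ih =>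
        intro g
        rw [pow_succ', show (((f * f ^ k) g : R) : GL ι F) = y * (((f ^ k) g : R) : GL ι F) * y⁻¹ from rfl,
          ih, pow_succ' y]
        group
    have hf : f ^ 7 ^ 1 = 1 := by
      rw [pow_one]
      funext g
      refine Subtype.ext (Subtype.ext ?_)
      rw [hfp, hyr g g.1.2, mul_inv_cancel_right]
      rfl
    have hmod' := Equiv.Perm.card_fixedPoints_modEq hf
    rw [← Nat.card_eq_fintype_card] at hmod'
    refine hmod'.trans (show _ ≡ _ [MOD _] from congrArg (· % _) ?_)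
    rw [← Nat.card_eq_fintype_card]
    refine Nat.card_congr ⟨fun g => ⟨g.1.1, mem_cent.2 ?_⟩, fun g => ⟨⟨g.1, hCle g.2⟩, ?_⟩,
      fun g => rfl, fun g => rfl⟩
    · have e : f g.1 = g.1 := g.2
      exact mul_inv_eq_iff_eq_mul.1 (congrArg (fun z : P => ((z : R) : GL ι F)) e :
        y * ((g.1 : R) : GL ι F) * y⁻¹ = ((g.1 : R) : GL ι F))
    · exact Subtype.ext (Subtype.ext
        (mul_inv_eq_iff_eq_mul.2 (mem_cent.1 g.2) : y * (g.1 : GL ι F) * y⁻¹ = g.1))
  rw [hk] at hmodP
  have hcard := h.card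
  rw [hidx] at hcard
  have hP8 : Nat.card P = 8 * Nat.card (Subgroup.center R) := by omega
  rw [hP8] at hmodP
  rcases h.zcard with e | e <;> rw [e] at hmodP <;> exact absurd hmodP (by decide)

end Setting

end Cfsg.Agent.Symp4
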