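import Cfsg.Agent.Symp4.RankOne

/-!
# Five pairwise anticommuting involutions and the element permuting them cyclically
-/

set_option autoImplicit false
set_option linter.unusedSectionVars false
set_option linter.style.haveILetI false

namespace Cfsg.Agent.Symp4

open Matrix

variable {ι : Type} [Fintype ι] [DecidableEq ι] {F : Type*} [Field F] {R : Subgroup (GL ι F)}

/-- Two anticommuting pairs commuting with each other. -/
structure Quad (R : Subgroup (GL ι F)) (x y a b : GL ι F) : Prop where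
  hx : x ∈ R
  hy : y ∈ R
  ha : a ∈ R
  hb : b ∈ R
  xy : x * y = -(y * x)
  ab : a * b = -(b * a)
  xa : x * a = a * x
  xb : x * b = b * x
  ya : y * a = a * y
  yb : y * b = b * y

theorem Quad.swap_left {x y a b : GL ι F} (q : Quad R x y a b) : Quad R y x a b :=
  ⟨q.hy, q.hx, q.ha, q.hb, by rw [q.xy, neg_neg], q.ab, q.ya, q.yb, q.xa, q.xb⟩

theorem Quad.swap {x y a b : GL ι F} (q : Quad R x y a b) : Quad R a b x y :=
  ⟨q.ha, q.hb, q.hx, q.hy, q.ab, q.xy, q.xa.symm, q.ya.symm, q.xb.symm, q.yb.symm⟩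

theorem Quad.mul_left {x y a b : GL ι F} (q : Quad R x y a b) : Quad R x (x * y) a b :=
  ⟨q.hx, mul_mem q.hx q.hy, q.ha, q.hb, by
    rw [mul_assoc, ← mul_neg, ← q.xy], q.ab, q.xa, q.xb, by
    rw [mul_assoc, q.ya, ← mul_assoc, q.xa, mul_assoc], by
    rw [mul_assoc, q.yb, ← mul_assoc, q.xb, mul_assoc]⟩

theorem Quad.scale {x y a b : GL ι F} (q : Quad R x y a b) {t : GL ι F} (ht : t ∈ R)
    (htc : ∀ g, t * g = g * t) : Quad R (t * x) y a b :=
  ⟨mul_mem ht q.hx, q.hy, q.ha, q.hb, by
    rw [mul_assoc, q.xy, mul_neg, ← mul_assoc, ← mul_assoc y t, ← htc y], q.ab, by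
    rw [mul_assoc, q.xa, ← mul_assoc, htc a, mul_assoc], by
    rw [mul_assoc, q.xb, ← mul_assoc, htc b, mul_assoc], q.ya, q.yb⟩

/-- A frame: five pairwise anticommuting involutions generating the group modulo scalars. -/
structure Frame (R : Subgroup (GL ι F)) where
  v : Fin 5 → GL ι F
  mem : ∀ i, v i ∈ R
  sq : ∀ i, v i * v i = 1
  anti : ∀ i j, i ≠ j → v i * v j = -(v j * v i)
  gen : ∀ T : Subgroup (GL ι F), (∀ i, v i ∈ T) →
    (∀ z ∈ R, (∀ g ∈ R, z * g = g * z) → z ∈ T) → R ≤ T

namespace Setting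

variable (h : Setting R)
include h

theorem not_comm_of_anti {x y : GL ι F} (e : x * y = -(y * x)) : x * y ≠ y * x := by
  intro e1
  obtain ⟨i⟩ := h.nonempty
  rw [e1] at e
  have e' := congrArg (fun w : GL ι F => (w : Matrix ι ι F) * (((y * x)⁻¹ : GL ι F) : Matrix ι ι F)) e
  simp only [Units.val_neg, Matrix.neg_mul, ← Units.val_mul, mul_inv_cancel, Units.val_one] at e'
  have e2 := congrFun (congrFun e' i) i
  simp only [Matrix.neg_apply, Matrix.one_apply_eq] at e2
  exact h.two (by linear_combination e2)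

theorem gen_of_quad {x y a b : GL ι F} (q : Quad R x y a b) (T : Subgroup (GL ι F)) (hx : x ∈ T)
    (hy : y ∈ T) (ha : a ∈ T) (hb : b ∈ T) (hz : ∀ z ∈ R, (∀ g ∈ R, z * g = g * z) → z ∈ T) :
    R ≤ T := by
  classical
  haveI := h.finite
  let pick : Bool → GL ι F → GL ι F := fun e g => if e then g else 1
  have hpick : ∀ (e : Bool) {S : Subgroup (GL ι F)} {g : GL ι F}, g ∈ S → pick e g ∈ S := by
    intro e S g hg
    cases e
    · exact one_mem S
    · exact hg
  let D : Subgroup R := (Subgroup.centralizer ({x, y, a, b} : Set (GL ι F))).comap R.subtype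
  have hD : ∀ {g : R}, g ∈ D ↔ x * g = g * x ∧ y * g = g * y ∧ a * g = g * a ∧ b * g = g * b := by
    intro g
    simp only [D, Subgroup.mem_comap, Subgroup.mem_centralizer_iff, Subgroup.subtype_apply,
      Set.mem_insert_iff, Set.mem_singleton_iff, forall_eq_or_imp, forall_eq]
  let w : Bool × Bool × Bool × Bool → GL ι F := fun e =>
    pick e.1 x * (pick e.2.1 y * (pick e.2.2.1 a * pick e.2.2.2 b))
  have hw : ∀ e {S : Subgroup (GL ι F)}, x ∈ S → y ∈ S → a ∈ S → b ∈ S → w e ∈ S := fun e S h1 h2 h3 h4 =>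
    mul_mem (hpick _ h1) (mul_mem (hpick _ h2) (mul_mem (hpick _ h3) (hpick _ h4)))
  -- which generator a product commutes with
  have key : ∀ (g : R), g ∈ D → ∀ e : Bool × Bool × Bool × Bool,
      (y * ((g : GL ι F) * w e) = ((g : GL ι F) * w e) * y ↔ e.1 = false) ∧
      (x * ((g : GL ι F) * w e) = ((g : GL ι F) * w e) * x ↔ e.2.1 = false) ∧
      (b * ((g : GL ι F) * w e) = ((g : GL ι F) * w e) * b ↔ e.2.2.1 = false) ∧
      (a * ((g : GL ι F) * w e) = ((g : GL ι F) * w e) * a ↔ e.2.2.2 = false) := by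
    intro g hg e
    obtain ⟨d1, d2, d3, d4⟩ := hD.1 hg
    obtain ⟨e1, e2, e3, e4⟩ := e
    have pc : ∀ (e : Bool) {u z : GL ι F}, u * z = z * u → u * pick e z = pick e z * u := by
      intro e u z hu
      cases e
      · show u * 1 = 1 * u
        rw [mul_one, one_mul]
      · exact hu
    have pa : ∀ (e : Bool) {u z : GL ι F}, u * z = -(z * u) →
        (u * pick e z = pick e z * u ↔ e = false) := by
      intro e u z hu
      cases e
      · refine iff_of_true ?_ rfl
        show u * 1 = 1 * u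
        rw [mul_one, one_mul]
      · exact iff_of_false (h.not_comm_of_anti hu) (by simp)
    have m1 : pick e1 x ∈ R := hpick _ q.hx
    have m2 : pick e2 y ∈ R := hpick _ q.hy
    have m3 : pick e3 a ∈ R := hpick _ q.ha
    have m4 : pick e4 b ∈ R := hpick _ q.hb
    have ab' : b * a = -(a * b) := by rw [q.ab, neg_neg]
    have yx' : y * x = -(x * y) := by rw [q.xy, neg_neg]
    simp only [w, h.comm_or_anti_mul q.hy g.2 (mul_mem m1 (mul_mem m2 (mul_mem m3 m4))),
      h.comm_or_anti_mul q.hy m1 (mul_mem m2 (mul_mem m3 m4)),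
      h.comm_or_anti_mul q.hy m2 (mul_mem m3 m4), h.comm_or_anti_mul q.hy m3 m4,
      h.comm_or_anti_mul q.hx g.2 (mul_mem m1 (mul_mem m2 (mul_mem m3 m4))),
      h.comm_or_anti_mul q.hx m1 (mul_mem m2 (mul_mem m3 m4)),
      h.comm_or_anti_mul q.hx m2 (mul_mem m3 m4), h.comm_or_anti_mul q.hx m3 m4,
      h.comm_or_anti_mul q.ha g.2 (mul_mem m1 (mul_mem m2 (mul_mem m3 m4))),
      h.comm_or_anti_mul q.ha m1 (mul_mem m2 (mul_mem m3 m4)),
      h.comm_or_anti_mul q.ha m2 (mul_mem m3 m4), h.comm_or_anti_mul q.ha m3 m4,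
      h.comm_or_anti_mul q.hb g.2 (mul_mem m1 (mul_mem m2 (mul_mem m3 m4))),
      h.comm_or_anti_mul q.hb m1 (mul_mem m2 (mul_mem m3 m4)),
      h.comm_or_anti_mul q.hb m2 (mul_mem m3 m4), h.comm_or_anti_mul q.hb m3 m4,
      d1, d2, d3, d4, pc e1 (rfl : x * x = x * x), pc e2 (rfl : y * y = y * y),
      pc e3 (rfl : a * a = a * a), pc e4 (rfl : b * b = b * b), pc e3 q.xa, pc e4 q.xb, pc e3 q.ya, pc e4 q.yb,
      pc e1 q.xa.symm, pc e1 q.xb.symm, pc e2 q.ya.symm, pc e2 q.yb.symm,
      pa e2 q.xy, pa e1 yx', pa e4 q.ab, pa e3 ab', true_iff, iff_true, and_self]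
  -- the fixed part is the centre
  have hDZ : D ≤ Subgroup.center R := by
    have hZD : Subgroup.center R ≤ D := fun g hg =>
      hD.2 ⟨(h.central_comm (mem_center_iff'.1 hg) x).symm, (h.central_comm (mem_center_iff'.1 hg) y).symm,
        (h.central_comm (mem_center_iff'.1 hg) a).symm, (h.central_comm (mem_center_iff'.1 hg) b).symm⟩
    let f : (Bool × Bool × Bool × Bool) × D → R := fun p =>
      ⟨(p.2.1 : GL ι F) * w p.1, mul_mem p.2.1.2 (hw _ q.hx q.hy q.ha q.hb)⟩
    have hinj : Function.Injective f := by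
      rintro ⟨e, d⟩ ⟨e', d'⟩ heq
      have heq' : (d.1 : GL ι F) * w e = (d'.1 : GL ι F) * w e' := congrArg Subtype.val heq
      obtain ⟨k1, k2, k3, k4⟩ := key d.1 d.2 e
      obtain ⟨l1, l2, l3, l4⟩ := key d'.1 d'.2 e'
      rw [heq'] at k1 k2 k3 k4
      have hb : ∀ {u v : Bool}, (u = false ↔ v = false) → u = v := by
        intro u v; cases u <;> cases v <;> simp
      have hee : e = e' := Prod.ext (hb (k1.symm.trans l1)) (Prod.ext (hb (k2.symm.trans l2))
        (Prod.ext (hb (k3.symm.trans l3)) (hb (k4.symm.trans l4))))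
      subst hee
      rw [mul_left_inj] at heq'
      exact Prod.ext rfl (Subtype.ext (Subtype.ext heq'))
    have hc := Nat.card_le_card_of_injective f hinj
    rw [Nat.card_prod, show Nat.card (Bool × Bool × Bool × Bool) = 16 by simp, h.card] at hc
    exact (Subgroup.eq_of_le_of_card_ge hZD (by omega)).ge
  intro g hg
  let e : Bool × Bool × Bool × Bool := (decide (y * g ≠ g * y), decide (x * g ≠ g * x),
    decide (b * g ≠ g * b), decide (a * g ≠ g * a))
  have h1 : (1 : R) ∈ D := one_mem D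
  obtain ⟨k1, k2, k3, k4⟩ := key 1 h1 e
  simp only [OneMemClass.coe_one, one_mul] at k1 k2 k3 k4
  have hwR : w e ∈ R := hw e q.hx q.hy q.ha q.hb
  have hgD : (⟨g * w e, mul_mem hg hwR⟩ : R) ∈ D := by
    rw [hD]
    dsimp only
    rw [h.comm_or_anti_mul q.hx hg hwR, h.comm_or_anti_mul q.hy hg hwR,
      h.comm_or_anti_mul q.ha hg hwR, h.comm_or_anti_mul q.hb hg hwR, k1, k2, k3, k4]
    simp only [e, decide_eq_false_iff_not, not_not, and_self, iff_self]
  have hgT := hz _ (mul_mem hg hwR) (mem_center_iff'.1 (hDZ hgD))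
  exact (T.mul_mem_cancel_right (hw e hx hy ha hb)).1 hgT

theorem exists_quad : ∃ x y a b, Quad R x y a b := by
  classical
  haveI := h.finite
  have hnc : ∃ x : R, x ∉ Subgroup.center R := by
    by_contra hcon
    push Not at hcon
    have h1 := Subgroup.card_le_of_le (show (⊤ : Subgroup R) ≤ Subgroup.center R from fun g _ => hcon g)
    rw [Subgroup.card_top, h.card] at h1
    have := Nat.card_pos (α := Subgroup.center R)
    omega
  obtain ⟨⟨x, hx⟩, hxc⟩ := hnc
  obtain ⟨y, hy, hxy⟩ : ∃ y ∈ R, x * y ≠ y * x := by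
    by_contra hcon
    push Not at hcon
    exact hxc (mem_center_iff'.2 hcon)
  have exy := (h.comm x hx y hy).resolve_left hxy
  let pick : Bool → GL ι F → GL ι F := fun e g => if e then g else 1
  by_cases hC : ∃ a ∈ R, ∃ b ∈ R, x * a = a * x ∧ y * a = a * y ∧ x * b = b * x ∧ y * b = b * y ∧ a * b ≠ b * a
  · obtain ⟨a, ha, b, hb, h1, h2, h3, h4, h5⟩ := hC
    exact ⟨x, y, a, b, hx, hy, ha, hb, exy, (h.comm a ha b hb).resolve_left h5, h1, h3, h2, h4⟩
  exfalso
  push Not at hC
  -- every element is central after multiplying by a product of the two generators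
  let w : Bool × Bool → GL ι F := fun e => pick e.1 x * pick e.2 y
  have hw : ∀ e, w e ∈ R := fun e => mul_mem
    (by dsimp only [pick]; split_ifs <;> [exact hx; exact one_mem R])
    (by dsimp only [pick]; split_ifs <;> [exact hy; exact one_mem R])
  have hkey : ∀ g ∈ R, ∃ e, x * (g * w e) = (g * w e) * x ∧ y * (g * w e) = (g * w e) * y := by
    intro g hg
    obtain ⟨e1, he1⟩ : ∃ e1 : Bool, e1 = decide (y * g ≠ g * y) := ⟨_, rfl⟩
    obtain ⟨e2, he2⟩ : ∃ e2 : Bool, e2 = decide (x * g ≠ g * x) := ⟨_, rfl⟩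
    have m1 : pick e1 x ∈ R := by dsimp only [pick]; split_ifs <;> [exact hx; exact one_mem R]
    have m2 : pick e2 y ∈ R := by dsimp only [pick]; split_ifs <;> [exact hy; exact one_mem R]
    have eyx : y * x = -(x * y) := by rw [exy, neg_neg]
    have pa : ∀ (e : Bool) {u z : GL ι F}, u * z = -(z * u) →
        (u * pick e z = pick e z * u ↔ e = false) := by
      intro e u z hu
      cases e
      · exact iff_of_true (show u * 1 = 1 * u by rw [mul_one, one_mul]) rfl
      · exact iff_of_false (h.not_comm_of_anti hu) (by simp)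
    have pc : ∀ (e : Bool) (u : GL ι F), u * pick e u = pick e u * u := by
      intro e u
      cases e
      · exact (show u * 1 = 1 * u by rw [mul_one, one_mul])
      · rfl
    refine ⟨(e1, e2), ?_, ?_⟩
    · rw [h.comm_or_anti_mul hx hg (hw _)]
      simp only [w]
      rw [h.comm_or_anti_mul hx m1 m2, iff_true_intro (pc e1 x), true_iff, pa e2 exy, he2]
      simp only [decide_eq_false_iff_not, not_not, ne_eq]
    · rw [h.comm_or_anti_mul hy hg (hw _)]
      simp only [w]
      rw [h.comm_or_anti_mul hy m1 m2, iff_true_intro (pc e2 y), iff_true, pa e1 eyx, he1]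
      simp only [decide_eq_false_iff_not, not_not, ne_eq]
  choose e he1 he2 using fun g : R => hkey g.1 g.2
  have hcen : ∀ g : R, (⟨g.1 * w (e g), mul_mem g.2 (hw _)⟩ : R) ∈ Subgroup.center R := by
    intro g
    set c := g.1 * w (e g) with hc
    have hcR : c ∈ R := mul_mem g.2 (hw _)
    refine mem_center_iff'.2 fun k hk => ?_
    show c * k = k * c
    have h1 := hC c hcR (k * w (e ⟨k, hk⟩)) (mul_mem hk (hw _)) (he1 g) (he2 g)
      (he1 ⟨k, hk⟩) (he2 ⟨k, hk⟩)
    have h2 : c * w (e ⟨k, hk⟩) = w (e ⟨k, hk⟩) * c := by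
      have cx : c * x = x * c := (he1 g).symm
      have cy : c * y = y * c := (he2 g).symm
      have : ∀ (t : Bool) {z : GL ι F}, c * z = z * c → c * pick t z = pick t z * c := by
        intro t z hz; cases t
        · show c * 1 = 1 * c; rw [mul_one, one_mul]
        · exact hz
      exact ((show Commute c _ from this _ cx).mul_right (this _ cy)).eq
    have e1 : c * k = (c * (k * w (e ⟨k, hk⟩))) * (w (e ⟨k, hk⟩))⁻¹ := by group
    rw [e1, h1, mul_assoc k, ← h2]
    group
  have hinj : Function.Injective fun g : R =>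
      (e g, (⟨⟨g.1 * w (e g), mul_mem g.2 (hw _)⟩, hcen g⟩ : Subgroup.center R)) := by
    intro g g' heq
    have h1 := congrArg Prod.fst heq
    have h2 := congrArg (fun p : (Bool × Bool) × Subgroup.center R => ((p.2 : R) : GL ι F)) heq
    simp only at h1 h2
    rw [h1] at h2
    exact Subtype.ext (mul_right_cancel h2)
  have hc := Nat.card_le_card_of_injective _ hinj
  rw [Nat.card_prod, show Nat.card (Bool × Bool) = 4 by simp, h.card] at hc
  have := Nat.card_pos (α := Subgroup.center R)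
  omega

/-- A quad with the right squares gives a frame. -/
theorem frame_of_quad {x y a b : GL ι F} (q : Quad R x y a b) (hx : x * x = 1) (hy : y * y = 1)
    (ha : a * a = -1) (hb : b * b = -1) : Nonempty (Frame R) := by
  have kx : x * y * x = -y := by rw [q.xy, neg_mul, mul_assoc, hx, mul_one]
  have ky : x * y * y = x := by rw [mul_assoc, hy, mul_one]
  have kk : x * y * (x * y) = -1 := by rw [← mul_assoc, kx, neg_mul, hy]
  have xk : x * (x * y) = y := by rw [← mul_assoc, hx, one_mul]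
  have yk : y * (x * y) = -x := by
    rw [← mul_assoc, show y * x = -(x * y) by rw [q.xy, neg_neg], neg_mul, ky]
  have ka : Commute (x * y) a := (show Commute x a from q.xa).mul_left q.ya
  have kb : Commute (x * y) b := (show Commute x b from q.xb).mul_left q.yb
  obtain ⟨c, hc⟩ : ∃ c, c = x * y * a := ⟨_, rfl⟩
  obtain ⟨d, hd⟩ : ∃ d, d = x * y * b := ⟨_, rfl⟩
  have exc : x * c = -(c * x) := by
    rw [hc, ← mul_assoc, xk, mul_assoc, ← q.xa, ← mul_assoc, kx, neg_mul, neg_neg]
  have eyc : y * c = -(c * y) := by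
    rw [hc, ← mul_assoc, yk, mul_assoc (x * y) a y, ← q.ya, ← mul_assoc, ky, neg_mul]
  have exd : x * d = -(d * x) := by
    rw [hd, ← mul_assoc, xk, mul_assoc, ← q.xb, ← mul_assoc, kx, neg_mul, neg_neg]
  have eyd : y * d = -(d * y) := by
    rw [hd, ← mul_assoc, yk, mul_assoc (x * y) b y, ← q.yb, ← mul_assoc, ky, neg_mul]
  have ecc : c * c = 1 := by rw [hc, ka.symm.mul_mul_mul_comm, kk, ha, neg_mul_neg, one_mul]
  have edd : d * d = 1 := by rw [hd, kb.symm.mul_mul_mul_comm, kk, hb, neg_mul_neg, one_mul]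
  have ecd : c * d = -(d * c) := by
    rw [hc, hd, ka.symm.mul_mul_mul_comm, kb.symm.mul_mul_mul_comm, q.ab, mul_neg]
  obtain ⟨e, he⟩ : ∃ e, e = x * y * c * d := ⟨_, rfl⟩
  have eyx : y * x = -(x * y) := by rw [q.xy, neg_neg]
  have ecx : c * x = -(x * c) := by rw [exc, neg_neg]
  have ecy : c * y = -(y * c) := by rw [eyc, neg_neg]
  have edx : d * x = -(x * d) := by rw [exd, neg_neg]
  have edy : d * y = -(y * d) := by rw [eyd, neg_neg]
  have edc : d * c = -(c * d) := by rw [ecd, neg_neg]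
  have push1 : ∀ {p r : GL ι F}, p * r = -(r * p) → ∀ t, p * (r * t) = -(r * (p * t)) :=
    fun {p r} h t => by rw [← mul_assoc, h, neg_mul, mul_assoc]
  have eee : e * e = 1 := by
    simp only [he, mul_assoc, push1 eyx, push1 ecx, push1 ecy, push1 edx, push1 edy, push1 edc, edd,
      mul_neg, neg_mul, neg_neg, mul_one]
    simp only [← mul_assoc, hx, hy, ecc, one_mul, mul_one]
  have exe : ∀ u ∈ ({x, y, c, d} : Set (GL ι F)), u * e = -(e * u) := by
    rintro u (rfl | rfl | rfl | rfl) <;>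
      simp only [he, mul_assoc, push1 eyx, push1 ecx, push1 ecy, push1 edx, push1 edy, push1 edc,
        eyx, ecx, ecy, edx, edy, edc, mul_neg, neg_mul, neg_neg]
  have flip : ∀ {p r : GL ι F}, p * r = -(r * p) → r * p = -(p * r) := fun h => by rw [h, neg_neg]
  refine ⟨⟨![x, y, c, d, e], ?_, ?_, ?_, fun T hT hz => ?_⟩⟩
  · have hcR : c ∈ R := hc ▸ mul_mem (mul_mem q.hx q.hy) q.ha
    have hdR : d ∈ R := hd ▸ mul_mem (mul_mem q.hx q.hy) q.hb
    intro i
    fin_cases i
    · exact q.hx
    · exact q.hy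
    · exact hcR
    · exact hdR
    · exact he ▸ mul_mem (mul_mem (mul_mem q.hx q.hy) hcR) hdR
  · intro i
    fin_cases i <;> assumption
  · intro i j hij
    fin_cases i <;> fin_cases j <;> simp at hij <;>
      first
        | assumption
        | exact flip ‹_›
        | exact exe _ (by simp)
        | exact flip (exe _ (by simp))
        | exact q.xy
        | exact eyx
  · have hxy : x * y ∈ T := mul_mem (hT 0) (hT 1)
    refine h.gen_of_quad q T (hT 0) (hT 1) ?_ ?_ hz
    · exact (T.mul_mem_cancel_left hxy).1 (hc ▸ hT 2)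
    · exact (T.mul_mem_cancel_left hxy).1 (hd ▸ hT 3)

end Setting

end Cfsg.Agent.Symp4
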