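import Cfsg.Agent.Symp4.Four

/-!
# The reflection of the normaliser and the elements of order three and five
-/

set_option autoImplicit false
set_option linter.unusedSectionVars false
set_option linter.style.haveILetI false

namespace Cfsg.Agent.Symp4

open Matrix

variable {ι : Type} [Fintype ι] [DecidableEq ι] {F : Type*} [Field F] {R : Subgroup (GL ι F)}

/-- The adjoint with respect to the standard form twisted by an endomorphism. -/
def adj (σ : F →+* F) (A : Matrix ι ι F) : Matrix ι ι F := (A.map σ)ᵀ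

theorem adj_mul (σ : F →+* F) (A B : Matrix ι ι F) : adj σ (A * B) = adj σ B * adj σ A := by
  rw [adj, Matrix.map_mul, Matrix.transpose_mul]; rfl

theorem adj_add (σ : F →+* F) (A B : Matrix ι ι F) : adj σ (A + B) = adj σ A + adj σ B := by
  rw [adj, Matrix.map_add _ (map_add σ), Matrix.transpose_add]; rfl

theorem adj_sub (σ : F →+* F) (A B : Matrix ι ι F) : adj σ (A - B) = adj σ A - adj σ B := by
  rw [adj, Matrix.map_sub _ (map_sub σ), Matrix.transpose_sub]; rfl

theorem adj_one (σ : F →+* F) : adj σ (1 : Matrix ι ι F) = 1 := by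
  rw [adj, Matrix.map_one _ (map_zero σ) (map_one σ), Matrix.transpose_one]

theorem adj_smul (σ : F →+* F) (c : F) (A : Matrix ι ι F) : adj σ (c • A) = σ c • adj σ A := by
  ext i j
  simp [adj]

theorem adj_neg (σ : F →+* F) (A : Matrix ι ι F) : adj σ (-A) = -adj σ A := by
  ext i j
  simp [adj]

/-- An involution preserving the twisted form is self-adjoint; one of square minus one is skew. -/
theorem adj_self_of_sq (σ : F →+* F) {x : GL ι F} (hx : adj σ (x : Matrix ι ι F) * (x : Matrix ι ι F) = 1) :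
    (x * x = 1 → adj σ (x : Matrix ι ι F) = x) ∧ (x * x = -1 → adj σ (x : Matrix ι ι F) = -(x : Matrix ι ι F)) := by
  constructor <;> intro e
  · have e' := sq_val (s := 1) (u := x) (by rw [e]; rfl)
    calc adj σ (x : Matrix ι ι F) = adj σ (x : Matrix ι ι F) * ((x : Matrix ι ι F) * x) := by
          rw [e', Matrix.mul_one]
      _ = x := by rw [← Matrix.mul_assoc, hx, Matrix.one_mul]
  · have e' := sq_val (s := -1) (u := x) (by rw [e]; rfl)
    calc adj σ (x : Matrix ι ι F) = -(adj σ (x : Matrix ι ι F) * ((x : Matrix ι ι F) * x)) := by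
          rw [e', Matrix.mul_neg, Matrix.mul_one, neg_neg]
      _ = -(x : Matrix ι ι F) := by rw [← Matrix.mul_assoc, hx, Matrix.one_mul]

namespace Setting

variable (h : Setting R)
include h

theorem not_central_of_anti {x y : GL ι F} (hy : y ∈ R) (e : x * y = -(y * x)) :
    ¬ ∀ g ∈ R, x * g = g * x := fun hall => h.not_comm_of_anti e (hall y hy)

/-- The idempotent of rank one commuting with the first involution and the reflection built on it. -/
theorem exists_idem (hz : Nat.card (Subgroup.center R) = 4) (Fr : Frame R) :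
    ∃ e : Matrix ι ι F, ∃ y : GL ι F, e * e = e ∧ e.trace = 1 ∧ e ≠ 1 ∧
      Commute e (Fr.v 0 : Matrix ι ι F) ∧ (y : Matrix ι ι F) = 1 + (-2 : F) • e ∧ y * y = 1 ∧
      y ∈ Cfsg.Geo.subgroupNormalizer R ∧
      (∀ σ : F →+* F, (∀ x ∈ R, adj σ (x : Matrix ι ι F) * (x : Matrix ι ι F) = 1) → adj σ e = e) := by
  haveI := h.finite
  obtain ⟨t, ht, htc, htt, -⟩ := h.exists_i hz
  set g := Fr.v 0 with hg
  obtain ⟨k, hk⟩ : ∃ k, k = t * (Fr.v 1 * Fr.v 2) := ⟨_, rfl⟩
  have a01 := Fr.anti 0 1 (by decide)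
  have a02 := Fr.anti 0 2 (by decide)
  have hkR : k ∈ R := hk ▸ mul_mem ht (mul_mem (Fr.mem 1) (Fr.mem 2))
  have hkk : k * k = 1 := by
    rw [hk, (show Commute (Fr.v 1 * Fr.v 2) t from (htc _).symm).mul_mul_mul_comm, htt,
      mul_assoc (Fr.v 1), ← mul_assoc (Fr.v 2), show Fr.v 2 * Fr.v 1 = -(Fr.v 1 * Fr.v 2) from Fr.anti 2 1 (by decide),
]
    simp [mul_assoc, Fr.sq]
  have hgk : g * k = k * g := by
    rw [hk, ← mul_assoc g, ← htc g, mul_assoc t, mul_assoc t, mul_assoc (Fr.v 1) (Fr.v 2) g,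
      show Fr.v 2 * g = -(g * Fr.v 2) by rw [a02, neg_neg], mul_neg, ← mul_assoc (Fr.v 1) g,
      show Fr.v 1 * g = -(g * Fr.v 1) by rw [a01, neg_neg], neg_mul, neg_neg, mul_assoc]
  have hk1 : ∀ i : Fin 5, i = 1 ∨ i = 2 → Fr.v i * k = -(k * Fr.v i) := by
    intro i hi
    have a12 := Fr.anti 1 2 (by decide)
    rcases hi with rfl | rfl
    · rw [hk, ← mul_assoc (Fr.v 1), ← htc (Fr.v 1), mul_assoc t, mul_assoc t, mul_assoc (Fr.v 1) (Fr.v 2),
        show Fr.v 2 * Fr.v 1 = -(Fr.v 1 * Fr.v 2) by rw [a12, neg_neg], mul_neg, mul_neg, neg_neg]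
    · rw [hk, ← mul_assoc (Fr.v 2), ← htc (Fr.v 2), mul_assoc t, mul_assoc t, ← mul_assoc (Fr.v 2) (Fr.v 1),
        show Fr.v 2 * Fr.v 1 = -(Fr.v 1 * Fr.v 2) by rw [a12, neg_neg], neg_mul, mul_neg]
  have hk3 : ∀ i : Fin 5, i ≠ 1 → i ≠ 2 → Fr.v i * k = k * Fr.v i := by
    intro i h1 h2
    rw [hk, ← mul_assoc (Fr.v i), ← htc (Fr.v i), mul_assoc t, mul_assoc t, ← mul_assoc (Fr.v i) (Fr.v 1),
      Fr.anti i 1 h1, neg_mul, mul_assoc (Fr.v 1) (Fr.v i), Fr.anti i 2 h2]
    simp [mul_assoc]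
  set G : Matrix ι ι F := (g : Matrix ι ι F)
  set K : Matrix ι ι F := (k : Matrix ι ι F)
  have hGG : G * G = 1 := Fr.sq_mat 0
  have hKK : K * K = 1 := sq_val (by rw [hkk]; rfl)
  have hGK : G * K = K * G := congrArg Units.val hgk
  set e : Matrix ι ι F := (4 : F)⁻¹ • ((1 - G) * (1 - K)) with he
  have h4 := h.four_ne
  have hee : e * e = e := by
    have hc : (1 - G) * (1 - K) * ((1 - G) * (1 - K)) = (4 : F) • ((1 - G) * (1 - K)) := by
      have c1 : Commute (1 - K) (1 - G) := by
        refine ((Commute.one_left _).sub_left ?_)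
        exact (Commute.one_right _).sub_right hGK.symm
      rw [c1.mul_mul_mul_comm, show (1 - G) * (1 - G) = (2 : F) • (1 - G) by
          rw [Matrix.sub_mul, Matrix.mul_sub, Matrix.mul_sub, Matrix.one_mul, Matrix.mul_one, Matrix.one_mul,
            hGG, show (2 : F) = 1 + 1 by norm_num, add_smul, one_smul]; abel,
        show (1 - K) * (1 - K) = (2 : F) • (1 - K) by
          rw [Matrix.sub_mul, Matrix.mul_sub, Matrix.mul_sub, Matrix.one_mul, Matrix.mul_one, Matrix.one_mul,
            hKK, show (2 : F) = 1 + 1 by norm_num, add_smul, one_smul]; abel,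
        smul_mul_smul_comm]
      norm_num
    rw [he, smul_mul_smul_comm, hc, smul_smul, mul_assoc, inv_mul_cancel₀ h4, mul_one]
  have tG : G.trace = 0 := h.trace_zero (Fr.mem 0) (h.not_central_of_anti (Fr.mem 1) a01)
  have tK : K.trace = 0 := h.trace_zero hkR (h.not_central_of_anti (Fr.mem 1) (by rw [hk1 1 (Or.inl rfl), neg_neg]))
  have tGK : (G * K).trace = 0 := by
    rw [← Units.val_mul]
    refine h.trace_zero (mul_mem (Fr.mem 0) hkR) (h.not_central_of_anti (Fr.mem 3) ?_)
    rw [mul_assoc, ← hk3 3 (by decide) (by decide), ← mul_assoc, show g * Fr.v 3 = -(Fr.v 3 * g) from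
      Fr.anti 0 3 (by decide), neg_mul, mul_assoc]
  have hetr : e.trace = 1 := by
    rw [he, Matrix.trace_smul, Matrix.sub_mul, Matrix.mul_sub, Matrix.mul_sub, Matrix.one_mul, Matrix.mul_one,
      Matrix.one_mul, Matrix.trace_sub, Matrix.trace_sub, Matrix.trace_sub, h.trace_one, tG, tK, tGK,
      smul_eq_mul]
    simp [inv_mul_cancel₀ h4]
  have hne : e ≠ 1 := by
    intro e1
    have e2 : (1 + G) * e = 0 := by
      rw [he, Matrix.mul_smul, ← Matrix.mul_assoc,
        show (1 + G) * (1 - G) = 0 by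
          rw [Matrix.add_mul, Matrix.mul_sub, Matrix.mul_sub, Matrix.one_mul, Matrix.mul_one, hGG]; simp,
        Matrix.zero_mul, smul_zero]
    rw [e1, Matrix.mul_one] at e2
    have e3 : g = -1 := Units.ext (by rw [Units.val_neg, Units.val_one]; exact eq_neg_of_add_eq_zero_right e2)
    exact h.not_comm_of_anti a01 (by rw [← hg, e3]; simp)
  have hy2 : (1 + (-2 : F) • e) * (1 + (-2 : F) • e) = 1 := by
    rw [Matrix.add_mul, Matrix.mul_add, Matrix.mul_add, Matrix.one_mul, Matrix.one_mul, Matrix.mul_one,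
      smul_mul_smul_comm, hee, add_assoc, ← add_smul, ← add_smul]
    norm_num
  let y : GL ι F := ⟨1 + (-2 : F) • e, 1 + (-2 : F) • e, hy2, hy2⟩
  have hY : (y : Matrix ι ι F) = (2 : F)⁻¹ • (1 + G + K - G * K) := by
    show 1 + (-2 : F) • e = _
    have h2 := h.two
    rw [he, Matrix.sub_mul, Matrix.mul_sub, Matrix.mul_sub, Matrix.one_mul, Matrix.mul_one, Matrix.one_mul]
    ext u v
    simp only [Matrix.add_apply, Matrix.sub_apply, Matrix.smul_apply, smul_eq_mul]
    field_simp
    ring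
  refine ⟨e, y, hee, hetr, hne, ?_, rfl, Units.ext hy2, ?_, ?_⟩
  · rw [he]
    refine Commute.smul_left ?_ _
    exact ((Commute.one_left _).sub_left (Commute.refl G)).mul_left ((Commute.one_left _).sub_left hGK.symm)
  · -- conjugation moves each generator by an element of the group
    have step : ∀ (a u : GL ι F),
        (y : Matrix ι ι F) * (a : Matrix ι ι F) = (a : Matrix ι ι F) * ((u : Matrix ι ι F) * (y : Matrix ι ι F)) →
        y * a * y⁻¹ = a * u := by
      intro a u hau
      rw [mul_inv_eq_iff_eq_mul, mul_assoc]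
      exact Units.ext (by simpa only [Units.val_mul] using hau)
    have hKKG : K * (G * K) = G := by rw [hGK, ← Matrix.mul_assoc, hKK, Matrix.one_mul]
    have hGGK : G * (G * K) = K := by rw [← Matrix.mul_assoc, hGG, Matrix.one_mul]
    have hGKG : G * K * G = K := by rw [Matrix.mul_assoc, ← hGK, hGGK]
    have hGKK : G * K * K = G := by rw [Matrix.mul_assoc, hKK, Matrix.mul_one]
    have hGKGK : G * K * (G * K) = 1 := by rw [Matrix.mul_assoc, hKKG, hGG]
    have hA1 : ∀ A : Matrix ι ι F, G * A = -(A * G) → K * A = -(A * K) →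
        (y : Matrix ι ι F) * A = A * (-(G * K) * (y : Matrix ι ι F)) := by
      intro A e1 e2
      have e3 : G * K * A = A * (G * K) := by
        rw [Matrix.mul_assoc, e2, Matrix.mul_neg, ← Matrix.mul_assoc, e1, Matrix.neg_mul, neg_neg, Matrix.mul_assoc]
      have eu : -(G * K) * (1 + G + K - G * K) = 1 - G - K - G * K := by
        simp only [Matrix.mul_add, Matrix.mul_sub, Matrix.mul_one, Matrix.neg_mul, hGKG, hGKK, hGKGK]
        abel
      rw [hY, Matrix.smul_mul, Matrix.mul_smul, Matrix.mul_smul, eu]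
      congr 1
      simp only [Matrix.add_mul, Matrix.sub_mul, Matrix.mul_sub, Matrix.one_mul, Matrix.mul_one, e1, e2, e3]
      abel
    have hA2 : ∀ A : Matrix ι ι F, G * A = -(A * G) → K * A = A * K →
        (y : Matrix ι ι F) * A = A * (K * (y : Matrix ι ι F)) := by
      intro A e1 e2
      have e3 : G * K * A = -(A * (G * K)) := by
        rw [Matrix.mul_assoc, e2, ← Matrix.mul_assoc, e1, Matrix.neg_mul, Matrix.mul_assoc]
      have eu : K * (1 + G + K - G * K) = 1 - G + K + G * K := by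
        simp only [Matrix.mul_add, Matrix.mul_sub, Matrix.mul_one, hKK, hKKG]
        rw [← hGK]
        abel
      rw [hY, Matrix.smul_mul, Matrix.mul_smul, Matrix.mul_smul, eu]
      congr 1
      simp only [Matrix.add_mul, Matrix.sub_mul, Matrix.mul_add, Matrix.mul_sub, Matrix.one_mul, Matrix.mul_one,
        e1, e2, e3]
      abel
    have eG : ∀ i : Fin 5, i ≠ 0 → G * (Fr.v i : Matrix ι ι F) = -((Fr.v i : Matrix ι ι F) * G) :=
      fun i hi => Fr.anti_mat (Ne.symm hi)
    refine h.normalizer_of_frame Fr fun i => ?_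
    by_cases h0 : i = 0
    · subst h0
      have e1 : (y : Matrix ι ι F) * G = G * y := by
        rw [hY]
        exact (((((Commute.one_left G).add_left (Commute.refl G)).add_left hGK.symm).sub_left
          ((Commute.refl G).mul_left hGK.symm)).smul_left _).eq
      rw [step g 1 (by rw [Units.val_one, Matrix.one_mul]; exact e1), mul_one]
      exact Fr.mem 0
    · by_cases h12 : i = 1 ∨ i = 2
      · have e2 : K * (Fr.v i : Matrix ι ι F) = -((Fr.v i : Matrix ι ι F) * K) := by
          simpa using (congrArg Units.val (show k * Fr.v i = -(Fr.v i * k) by rw [hk1 i h12, neg_neg]))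
        rw [step (Fr.v i) (-(g * k)) (by
          rw [Units.val_neg, Units.val_mul]
          exact hA1 _ (eG i h0) e2)]
        exact mul_mem (Fr.mem i) (by rw [← neg_one_mul]; exact mul_mem h.neg (mul_mem (Fr.mem 0) hkR))
      · push Not at h12
        have e2 : K * (Fr.v i : Matrix ι ι F) = (Fr.v i : Matrix ι ι F) * K :=
          congrArg Units.val (hk3 i h12.1 h12.2).symm
        rw [step (Fr.v i) k (hA2 _ (eG i h0) e2)]
        exact mul_mem (Fr.mem i) hkR
  · intro σ hσ
    have hGa := (adj_self_of_sq σ (hσ g (Fr.mem 0))).1 (Fr.sq 0)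
    have hKa := (adj_self_of_sq σ (hσ k hkR)).1 hkk
    rw [he, adj_smul, adj_mul, adj_sub, adj_sub, adj_one, hGa, hKa, map_inv₀, map_ofNat]
    congr 1
    exact ((Commute.one_left _).sub_left ((Commute.one_right _).sub_right hGK.symm)).eq

/-- Representatives of the two kinds of elements of order three. -/
theorem exists_threes (hz : Nat.card (Subgroup.center R) = 4) (h3 : (3 : F) ≠ 0) :
    ∃ y₀ y₁ : GL ι F, y₀ ∈ Cfsg.Geo.subgroupNormalizer R ∧ y₁ ∈ Cfsg.Geo.subgroupNormalizer R ∧
      (y₀ : Matrix ι ι F) * y₀ + y₀ + 1 = 0 ∧ y₁ ^ 3 = 1 ∧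
      (y₁ : Matrix ι ι F) * y₁ + y₁ + 1 ≠ 0 ∧ y₁ ≠ 1 ∧
      (∀ σ : F →+* F, (∀ x ∈ R, adj σ (x : Matrix ι ι F) * (x : Matrix ι ι F) = 1) →
        adj σ (y₀ : Matrix ι ι F) * y₀ = 1 ∧ adj σ (y₁ : Matrix ι ι F) * y₁ = 1) := by
  obtain ⟨x, y, a, b, q, hx, hy, ha, hb⟩ := h.exists_quad_neg hz
  obtain ⟨w, hw, hww, hwx, hwa, hwb, hwn⟩ := h.exists_rot q hx hy
  obtain ⟨v, hv, hvv, hva, hvx, hvy, hvn⟩ := h.exists_rot q.swap ha hb
  have hwv : Commute (w : Matrix ι ι F) (v : Matrix ι ι F) := by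
    rw [hv]
    have e1 : Commute (w : Matrix ι ι F) (a : Matrix ι ι F) := congrArg Units.val hwa.eq
    have e2 : Commute (w : Matrix ι ι F) (b : Matrix ι ι F) := congrArg Units.val hwb.eq
    exact ((Commute.one_right _).add_right ((e1.add_right e2).add_right (e1.mul_right e2))).smul_right _
  have cube : ∀ {M : Matrix ι ι F}, M * M = M - 1 → M * M * M = -1 := fun {M} e => by
    rw [e, Matrix.sub_mul, Matrix.one_mul, e]; abel
  have hw3 : w * w * w = -1 := Units.ext (by
    rw [Units.val_mul, Units.val_mul, cube hww, Units.val_neg, Units.val_one])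
  have hv3 : v * v * v = -1 := Units.ext (by
    rw [Units.val_mul, Units.val_mul, cube hvv, Units.val_neg, Units.val_one])
  have hwvu : Commute w v := Units.ext hwv.eq
  have hneg : (-1 : GL ι F) ∈ Cfsg.Geo.subgroupNormalizer R := Subgroup.le_normalizer h.neg
  refine ⟨-w, w * v, by rw [← neg_one_mul]; exact mul_mem hneg hwn, mul_mem hwn hvn, ?_, ?_, ?_, ?_, ?_⟩
  · rw [Units.val_neg, neg_mul_neg, hww]; abel
  · rw [hwvu.mul_pow, pow_succ, pow_two, hw3, pow_succ, pow_two, hv3, neg_mul_neg, one_mul]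
  · intro e
    set W : Matrix ι ι F := (w : Matrix ι ι F)
    set V : Matrix ι ι F := (v : Matrix ι ι F)
    have e' : (2 : F) • (W * V) - W - V + (2 : F) • 1 = 0 := by
      rw [Units.val_mul, hwv.symm.mul_mul_mul_comm, hww, hvv] at e
      rw [show (2 : F) = 1 + 1 by norm_num, add_smul, add_smul, one_smul, one_smul, ← e, Matrix.sub_mul,
        Matrix.mul_sub, Matrix.one_mul, Matrix.mul_one]
      abel
    -- the two roots would coincide
    have hA : ((2 : F) • W - 1) * ((2 : F) • W - 1) = (-3 : F) • 1 := by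
      simp only [Matrix.sub_mul, Matrix.mul_sub, Matrix.one_mul, Matrix.mul_one, smul_mul_smul_comm, hww]
      module
    have hAB : ((2 : F) • W - 1) * ((2 : F) • V - 1) = (-3 : F) • 1 := by
      simp only [Matrix.sub_mul, Matrix.mul_sub, Matrix.one_mul, Matrix.mul_one, smul_mul_smul_comm]
      linear_combination (norm := module) (2 : F) • e'
    have hWV : W = V := by
      have e2 := congrArg (((2 : F) • W - 1) * ·) (hA.trans hAB.symm)
      simp only [← Matrix.mul_assoc, hA, Matrix.smul_mul, Matrix.one_mul, Matrix.mul_smul, Matrix.mul_one] at e2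
      have e3 := smul_right_injective _ (neg_ne_zero.2 h3) e2
      exact smul_right_injective _ h.two (sub_left_injective e3)
    have hwv' : w = v := Units.ext hWV
    rw [hwv'] at hwx
    rw [hvx.eq] at hwx
    have hxy : x = y := mul_right_cancel hwx
    exact h.not_comm_of_anti q.xy (by rw [hxy])
  · intro e
    have e1 : v = w⁻¹ := eq_inv_of_mul_eq_one_right e
    have e2 : w * a = a * w := hwa.eq
    have e3 : v * a = a * v := by rw [e1]; exact ((show Commute w a from e2).inv_left).eq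
    rw [e3] at hva
    have hab : a = b := mul_right_cancel hva
    exact h.not_comm_of_anti q.ab (by rw [hab])
  · intro σ hσ
    have key : ∀ {u r : GL ι F} {M : Matrix ι ι F}, u ∈ R → r ∈ R → u * u = -1 → r * r = -1 →
        u * r = -(r * u) → M = (2 : F)⁻¹ • (1 + ((u : Matrix ι ι F) + r + (u : Matrix ι ι F) * r)) →
        M * M = M - 1 → adj σ M * M = 1 := by
      intro u r M hu hr hu2 hr2 hur hM hMM
      have eu := (adj_self_of_sq σ (hσ u hu)).2 hu2
      have er := (adj_self_of_sq σ (hσ r hr)).2 hr2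
      have hur' : (r : Matrix ι ι F) * u = -((u : Matrix ι ι F) * r) := by
        rw [← Units.val_mul, show r * u = -(u * r) by rw [hur, neg_neg], Units.val_neg, Units.val_mul]
      have hstar : adj σ M = 1 - M := by
        rw [hM, adj_smul, adj_add, adj_one, adj_add, adj_add, adj_mul, eu, er, neg_mul_neg, hur', map_inv₀,
          map_ofNat]
        ext i j
        have h2 := h.two
        simp only [Matrix.add_apply, Matrix.sub_apply, Matrix.smul_apply, Matrix.neg_apply, smul_eq_mul]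
        field_simp
        ring
      rw [hstar, Matrix.sub_mul, Matrix.one_mul, hMM]
      abel
    have k1 := key q.hx q.hy hx hy q.xy hw hww
    have k2 := key q.ha q.hb ha hb q.ab hv hvv
    refine ⟨by rw [Units.val_neg, adj_neg, neg_mul_neg, k1], ?_⟩
    rw [Units.val_mul, adj_mul, Matrix.mul_assoc, ← Matrix.mul_assoc _ (w : Matrix ι ι F), k1, Matrix.one_mul, k2]

theorem five_core {U : Subgroup (GL ι F)} {k : GL ι F} (hkU : k ∈ U)
    (hkn : k ∈ Cfsg.Geo.subgroupNormalizer R) (hk5 : ∀ x ∈ R, k ^ 5 * x = x * k ^ 5)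
    (hnc : ¬ ∀ z, k * z = z * k)
    (hsU : ∀ t : GL ι F, (t : Matrix ι ι F) = (k : Matrix ι ι F).det⁻¹ • 1 → t ∈ U) :
    ∃ y, y ∈ U ∧ y ∈ Cfsg.Geo.subgroupNormalizer R ∧ (y : Matrix ι ι F).det = 1 ∧ y ^ 5 = 1 ∧ y ≠ 1 := by
  haveI := h.finite
  set d := (k : Matrix ι ι F).det with hd
  have hd0 : d ≠ 0 := (Matrix.GeneralLinearGroup.det k).ne_zero
  let t : GL ι F := ⟨d⁻¹ • 1, d • 1, by rw [smul_mul_smul_comm, inv_mul_cancel₀ hd0, one_smul, one_mul],
    by rw [smul_mul_smul_comm, mul_inv_cancel₀ hd0, one_smul, one_mul]⟩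
  have htc : ∀ z, t * z = z * t := Setting.comm_scalar (c := d⁻¹) rfl
  obtain ⟨m, hm⟩ : ∃ m, m = t * k ^ 4 := ⟨_, rfl⟩
  have htn : t ∈ Cfsg.Geo.subgroupNormalizer R := mem_normalizer_of_le (fun z hz => by
    show t * z * t⁻¹ ∈ R
    rw [htc, mul_inv_cancel_right]
    exact hz)
  have hmdet : (m : Matrix ι ι F).det = 1 := by
    rw [hm, Units.val_mul, Units.val_pow_eq_pow_val, Matrix.det_mul, Matrix.det_pow, ← hd]
    show (d⁻¹ • (1 : Matrix ι ι F)).det * d ^ 4 = 1
    rw [Matrix.det_smul, h.dim, Matrix.det_one, mul_one, ← mul_pow, inv_mul_cancel₀ hd0, one_pow]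
  have hm5 : ∀ z : GL ι F, m ^ 5 * z = z * m ^ 5 := by
    intro z
    rw [hm, (show Commute t (k ^ 4) from htc _).mul_pow, ← pow_mul, show 4 * 5 = 5 * 4 from rfl, pow_mul]
    exact ((Commute.pow_left (htc z) 5).mul_left (Commute.pow_left (h.central_comm hk5 z) 4)).eq
  obtain ⟨c, hc⟩ := h.scalar (x := m ^ 5) (fun z _ => hm5 z)
  have hc4 : c ^ 4 = 1 := by
    have e := congrArg Matrix.det hc
    rw [Units.val_pow_eq_pow_val, Matrix.det_pow, hmdet, one_pow, Matrix.det_smul, h.dim, Matrix.det_one,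
      mul_one] at e
    exact e.symm
  have hy5 : (m ^ 4) ^ 5 = 1 := by
    rw [← pow_mul, show 4 * 5 = 5 * 4 from rfl, pow_mul]
    refine Units.ext ?_
    rw [Units.val_pow_eq_pow_val, hc, _root_.smul_pow, one_pow, hc4, one_smul, Units.val_one]
  refine ⟨m ^ 4, pow_mem (hm ▸ mul_mem (hsU t rfl) (pow_mem hkU 4)) 4,
    pow_mem (hm ▸ mul_mem htn (pow_mem hkn 4)) 4, by
      rw [Units.val_pow_eq_pow_val, Matrix.det_pow, hmdet, one_pow], hy5, fun e => hnc fun z => ?_⟩
  rw [hm, (show Commute t (k ^ 4) from htc _).mul_pow, ← pow_mul] at e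
  have e1 : k ^ 16 = (t ^ 4)⁻¹ := eq_inv_of_mul_eq_one_right e
  have c1 : Commute (k ^ 16) z := e1 ▸ ((Commute.pow_left (htc z) 4).inv_left)
  have c2 : Commute (k ^ 15) z := by
    rw [show 15 = 5 * 3 from rfl, pow_mul]
    exact Commute.pow_left (h.central_comm hk5 z) 3
  have e2 : k = (k ^ 15)⁻¹ * k ^ 16 := by rw [pow_succ k 15, inv_mul_cancel_left]
  rw [e2]
  exact (c2.inv_left.mul_left c1).eq

end Setting

end Cfsg.Agent.Symp4
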