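import Cfsg.Agent.Symp4.Idem
import Cfsg.Agent.Classical.HermGroup

/-!
# Involutions of the general linear and unitary groups of dimension four
-/

set_option autoImplicit false
set_option linter.unusedSectionVars false
set_option linter.style.haveILetI false

namespace Cfsg.Agent.Symp4

open Matrix Cfsg.Agent.Classical Cfsg.Agent.Classical.Herm

variable {F : Type*} [Field F]

local notation "M4" => Matrix (Fin 4) (Fin 4) F
local notation "G4" => GL (Fin 4) F

/-- The sign matrices. -/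
def sgnM (e : Fin 4 → Bool) : M4 := Matrix.diagonal fun i => if e i then (-1 : F) else 1

theorem exists_eigbasis (h2 : (2 : F) ≠ 0) {x : G4} (hx : x * x = 1) :
    ∃ (P : G4) (e : Fin 4 → Bool), (x : M4) * (P : M4) = (P : M4) * sgnM e := by
  classical
  set A := (x : M4)
  have hAA : ∀ u, A *ᵥ (A *ᵥ u) = u := fun u => by
    rw [Matrix.mulVec_mulVec, ← Units.val_mul, hx, Units.val_one, Matrix.one_mulVec]
  let S : Set (Fin 4 → F) := {v | ∃ b : Bool, A *ᵥ v = (if b then (-1 : F) else 1) • v}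
  have hS : ⊤ ≤ Submodule.span F S := by
    intro u _
    have hu : u = (2 : F)⁻¹ • ((u + A *ᵥ u) + (u - A *ᵥ u)) := by
      funext i
      simp only [Pi.smul_apply, Pi.add_apply, Pi.sub_apply, smul_eq_mul]
      field_simp
      ring
    rw [hu]
    exact Submodule.smul_mem _ _ (Submodule.add_mem _
      (Submodule.subset_span ⟨false, by simp [Matrix.mulVec_add, hAA, add_comm]⟩)
      (Submodule.subset_span ⟨true, by simp [Matrix.mulVec_sub, hAA]⟩))
  obtain ⟨T, hTS, hTspan, hTli⟩ := exists_linearIndependent F S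
  let bas := Module.Basis.mk hTli (by rw [Subtype.range_coe, hTspan]; exact hS)
  haveI : Fintype T := hTli.setFinite.fintype
  have hcard : Fintype.card T = 4 := by
    rw [← Module.finrank_eq_card_basis bas, Module.finrank_fintype_fun_eq_card, Fintype.card_fin]
  let ε : Fin 4 ≃ T := (Fintype.equivFinOfCardEq hcard).symm
  let g : Fin 4 → (Fin 4 → F) := fun i => (ε i : Fin 4 → F)
  choose e he using fun i => hTS (ε i).2
  have hu : IsUnit ((Matrix.of g)ᵀ) := by
    rw [← Matrix.linearIndependent_cols_iff_isUnit]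
    exact hTli.comp ε ε.injective
  refine ⟨hu.unit, e, ?_⟩
  ext i j
  rw [sgnM, Matrix.mul_diagonal, hu.unit_spec]
  show (A *ᵥ g j) i = g j i * _
  rw [he j, Pi.smul_apply, smul_eq_mul, mul_comm]

theorem exists_eigbasis_unitary [Fintype F] {σ : F →+* F} (hσ : IsInvol σ) {q : ℕ}
    (hσq : ∀ x, σ x = x ^ q) (h2 : (2 : F) ≠ 0) {x : G4} (hxU : x ∈ Cfsg.GU 4 F q) (hx : x * x = 1) :
    ∃ (P : G4) (e : Fin 4 → Bool), P ∈ Cfsg.GU 4 F q ∧ (x : M4) * (P : M4) = (P : M4) * sgnM e := by
  classical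
  set A := (x : M4)
  have hB := hermB_isHerm hσ 4
  have hAA : ∀ u, A *ᵥ (A *ᵥ u) = u := fun u => by
    rw [Matrix.mulVec_mulVec, ← Units.val_mul, hx, Units.val_one, Matrix.one_mulVec]
  have hpres := (mem_GU_iff hσq x).1 hxU
  have hsymA : ∀ u v, hermB 4 σ (A *ᵥ u) v = hermB 4 σ u (A *ᵥ v) := fun u v => by
    rw [← hpres u (A *ᵥ v), hAA]
  have frame : ∀ k ≤ 4, ∃ a : Fin k → Fin 4 → F,
      Herm.IsON (hermB 4 σ) a ∧ ∀ i, ∃ b : Bool, A *ᵥ a i = (if b then (-1 : F) else 1) • a i := by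
    intro k
    induction k with
    | zero => exact fun _ => ⟨Fin.elim0, fun i => i.elim0, fun i => i.elim0⟩
    | succ k ih =>
      intro hk
      obtain ⟨a, ha, he⟩ := ih (by omega)
      obtain ⟨v0, hv0⟩ := exists_snoc hB ha (by rw [Module.finrank_fin_fun]; omega)
      have hperp : ∀ i, hermB 4 σ (a i) v0 = 0 := fun i => by
        have h := hv0 i.castSucc (Fin.last k)
        rwa [Fin.snoc_castSucc, Fin.snoc_last, if_neg (Fin.castSucc_lt_last i).ne] at h
      have hperp' : ∀ i, hermB 4 σ (a i) (A *ᵥ v0) = 0 := fun i => by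
        obtain ⟨b, hb⟩ := he i
        rw [← hsymA, hb, map_smulₛₗ, LinearMap.smul_apply, hperp i, smul_zero]
      have hv1 : hermB 4 σ v0 v0 = 1 := by simpa using hv0 (Fin.last k) (Fin.last k)
      obtain ⟨b, v, hvA, hvp, hvn⟩ : ∃ (b : Bool) (v : Fin 4 → F),
          A *ᵥ v = (if b then (-1 : F) else 1) • v ∧ (∀ i, hermB 4 σ (a i) v = 0) ∧ hermB 4 σ v v ≠ 0 := by
        by_contra hcon
        push Not at hcon
        have e1 := hcon false (v0 + A *ᵥ v0) (by simp [Matrix.mulVec_add, hAA, add_comm])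
          (fun i => by rw [map_add, hperp, hperp', add_zero])
        have e2 := hcon true (v0 - A *ᵥ v0) (by simp [Matrix.mulVec_sub, hAA])
          (fun i => by rw [map_sub, hperp, hperp', sub_zero])
        simp only [map_add, map_sub, LinearMap.add_apply, LinearMap.sub_apply, hpres, hsymA, hAA, hv1] at e1 e2
        exact mul_ne_zero h2 h2 (by linear_combination e1 + e2)
      obtain ⟨c, hc⟩ := exists_unit_of_ne_zero hB hvn
      have hcp : ∀ i, hermB 4 σ (a i) (c • v) = 0 := fun i => by rw [map_smul, hvp i, smul_zero]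
      refine ⟨Fin.snoc a (c • v), fun i j => ?_, fun i => ?_⟩
      · refine Fin.lastCases ?_ (fun i => ?_) i <;> refine Fin.lastCases ?_ (fun j => ?_) j
        · simpa using hc
        · rw [Fin.snoc_castSucc, Fin.snoc_last, if_neg (Fin.castSucc_lt_last j).ne',
            (eq_zero_comm hB).1 (hcp j)]
        · rw [Fin.snoc_castSucc, Fin.snoc_last, if_neg (Fin.castSucc_lt_last i).ne, hcp i]
        · simpa using ha i j
      · refine Fin.lastCases ?_ (fun i => ?_) i
        · exact ⟨b, by rw [Fin.snoc_last, Matrix.mulVec_smul, hvA, smul_comm]⟩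
        · simpa using he i
  obtain ⟨a, ha, he⟩ := frame 4 le_rfl
  choose e he using he
  have hu : IsUnit ((Matrix.of a)ᵀ) := by
    rw [← Matrix.linearIndependent_cols_iff_isUnit]
    exact ha.linearIndependent hB
  refine ⟨hu.unit, e, (mem_GU_iff hσq _).2 ((preserves_iff_cols _).2 fun i j => ?_), ?_⟩
  · rw [hu.unit_spec]
    simpa [Matrix.mulVec_single] using ha i j
  · ext i j
    rw [sgnM, Matrix.mul_diagonal, hu.unit_spec]
    show (A *ᵥ a j) i = a j i * _
    rw [he j, Pi.smul_apply, smul_eq_mul, mul_comm]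

theorem exists_perm_four (π : Equiv.Perm (Fin 4)) : ∃ P : G4,
    (P : M4) = (1 : M4).submatrix id π ∧
      ∀ d : Fin 4 → F, Matrix.diagonal d * (P : M4) = (P : M4) * Matrix.diagonal (fun i => d (π i)) := by
  have hne : ((1 : M4).submatrix id π).det ≠ 0 := by
    rw [Matrix.det_permute', Matrix.det_one, mul_one]
    rcases Int.units_eq_one_or (Equiv.Perm.sign π) with h | h <;> simp [h]
  obtain ⟨P, hP⟩ : ∃ P : G4, (P : M4) = (1 : M4).submatrix id π :=
    ⟨Matrix.GeneralLinearGroup.mkOfDetNeZero _ hne, rfl⟩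
  refine ⟨P, hP, fun d => ?_⟩
  rw [hP]
  ext i j
  rw [Matrix.diagonal_mul, Matrix.mul_diagonal, Matrix.submatrix_apply, id_eq, Matrix.one_apply]
  by_cases h : i = π j
  · rw [if_pos h, h, one_mul, mul_one]
  · rw [if_neg h, mul_zero, zero_mul]

theorem perm_mem_GU {σ : F →+* F} {q : ℕ} (hσq : ∀ x, σ x = x ^ q) {P : G4} (π : Equiv.Perm (Fin 4))
    (hP : (P : M4) = (1 : M4).submatrix id π) : P ∈ Cfsg.GU 4 F q := by
  refine (mem_GU_iff hσq P).2 ((preserves_iff_cols _).2 fun i j => ?_)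
  have e : ∀ k, (P : M4) *ᵥ Pi.single k 1 = Pi.single (π k) 1 := fun k => by
    rw [hP, Matrix.mulVec_single_one]
    ext l
    simp [Matrix.one_apply, Pi.single_apply]
  dsimp only
  rw [e, e, isON_single 4 (π i) (π j)]
  simp [π.injective.eq_iff]

theorem sign_normal : ∀ e : Fin 4 → Bool, (¬ ∀ i, e i = e 0) → ∃ π : Equiv.Perm (Fin 4),
    (∀ i, e (π i) = ![true, false, false, false] i) ∨ (∀ i, e (π i) = ![false, true, true, true] i) ∨
      ∀ i, e (π i) = ![true, true, false, false] i := by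
  decide

/-- Every non-scalar involution is conjugate to one of three diagonal matrices. -/
theorem invol_normal (h2 : (2 : F) ≠ 0) (U : Subgroup (GL (Fin 4) F))
    (hperm : ∀ (π : Equiv.Perm (Fin 4)) (P : G4), (P : M4) = (1 : M4).submatrix id π → P ∈ U)
    (heig : ∀ x ∈ U, x * x = 1 → ∃ (P : G4) (e : Fin 4 → Bool), P ∈ U ∧ (x : M4) * (P : M4) = (P : M4) * sgnM e)
    {x : G4} (hxU : x ∈ U) (hx : x * x = 1) (hns : ∀ z : F, (x : M4) ≠ z • 1) :
    ∃ P ∈ U, (x : M4) * (P : M4) = (P : M4) * sgnM ![true, false, false, false] ∨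
      (x : M4) * (P : M4) = (P : M4) * sgnM ![false, true, true, true] ∨
      (x : M4) * (P : M4) = (P : M4) * sgnM ![true, true, false, false] := by
  obtain ⟨P, e, hP, hxP⟩ := heig x hxU hx
  have hne : ¬ ∀ i, e i = e 0 := by
    intro hall
    refine hns (if e 0 then -1 else 1) ?_
    have e1 : sgnM (F := F) e = (if e 0 then (-1 : F) else 1) • (1 : M4) := by
      rw [sgnM, Matrix.smul_one_eq_diagonal]
      congr 1
      funext i
      rw [hall i]
    rw [e1, Matrix.mul_smul, Matrix.mul_one] at hxP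
    have e2 := congrArg (· * ((P⁻¹ : G4) : M4)) hxP
    simp only [Matrix.mul_assoc, ← Units.val_mul, mul_inv_cancel, Units.val_one, Matrix.mul_one,
      Matrix.smul_mul] at e2
    rw [mul_inv_cancel_right] at e2
    exact e2
  obtain ⟨π, hπ⟩ := sign_normal e hne
  obtain ⟨Q, hQ, hQd⟩ := exists_perm_four (F := F) π
  refine ⟨P * Q, mul_mem hP (hperm π Q hQ), ?_⟩
  have key : (x : M4) * ((P * Q : G4) : M4) = ((P * Q : G4) : M4) * sgnM (fun i => e (π i)) := by
    rw [Units.val_mul, ← Matrix.mul_assoc, hxP, Matrix.mul_assoc, sgnM, hQd, ← Matrix.mul_assoc]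
    rfl
  rcases hπ with h | h | h
  · exact Or.inl (by rw [key, funext h])
  · exact Or.inr (Or.inl (by rw [key, funext h]))
  · exact Or.inr (Or.inr (by rw [key, funext h]))

theorem trace_of_frame {x P : G4} {D : M4} (h : (x : M4) * (P : M4) = (P : M4) * D) : (x : M4).trace = D.trace := by
  rw [show (x : M4) = (P : M4) * D * ((P⁻¹ : G4) : M4) by
    rw [← h, Matrix.mul_assoc, ← Units.val_mul, mul_inv_cancel, Units.val_one, Matrix.mul_one],
    Matrix.trace_mul_cycle, ← Units.val_mul, inv_mul_cancel, Units.val_one, Matrix.one_mul]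

theorem conj_of_frames {x y P Q : G4} {D : M4} (hx : (x : M4) * (P : M4) = (P : M4) * D)
    (hy : (y : M4) * (Q : M4) = (Q : M4) * D) : (P * Q⁻¹)⁻¹ * x * (P * Q⁻¹) = y := by
  have e1 : P⁻¹ * x * P = Q⁻¹ * y * Q := by
    apply Units.ext
    simp only [Units.val_mul, Matrix.mul_assoc, hx, hy]
    rw [← Matrix.mul_assoc, ← Matrix.mul_assoc ((Q⁻¹ : G4) : M4), ← Units.val_mul P⁻¹ P,
      ← Units.val_mul Q⁻¹ Q, inv_mul_cancel, inv_mul_cancel, Units.val_one, Matrix.one_mul]
  calc (P * Q⁻¹)⁻¹ * x * (P * Q⁻¹) = Q * (P⁻¹ * x * P) * Q⁻¹ := by group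
    _ = y := by rw [e1]; group

theorem exists_one_add (h2 : (2 : F) ≠ 0) {e : M4} (hee : e * e = e) (htr : e.trace = 1) (hne : e ≠ 1)
    {δ : F} (hδ : δ ≠ 0) :
    ∃ c : G4, (c : M4) = 1 + (δ - 1) • e ∧ (c : M4).det = δ := by
  obtain ⟨c, hc⟩ := isUnit_one_add hee (c := δ - 1) (by rw [add_sub_cancel]; exact hδ)
  exact ⟨c, hc, by rw [hc, det_one_add (Fintype.card_fin 4) h2 hee htr hne, add_sub_cancel]⟩

/-- Non-scalar involutions are conjugate into the normaliser by elements of determinant one. -/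
theorem two_pos {R : Subgroup (GL (Fin 4) F)} (h : Setting R) (U : Subgroup (GL (Fin 4) F))
    (hperm : ∀ (π : Equiv.Perm (Fin 4)) (P : G4), (P : M4) = (1 : M4).submatrix id π → P ∈ U)
    (heig : ∀ x ∈ U, x * x = 1 → ∃ (P : G4) (e : Fin 4 → Bool), P ∈ U ∧ (x : M4) * (P : M4) = (P : M4) * sgnM e)
    (Fr : Frame R) (e : M4) (y : G4) (hee : e * e = e) (htr : e.trace = 1) (hne : e ≠ 1)
    (hcv : Commute e (Fr.v 0 : M4)) (hy : (y : M4) = 1 + (-2 : F) • e) (hy2 : y * y = 1)
    (hyn : y ∈ Cfsg.Geo.subgroupNormalizer R) (hvU : Fr.v 0 ∈ U) (hyU : y ∈ U) (hnU : (-1 : G4) ∈ U)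
    (hc : ∀ g ∈ U, ∀ c : G4, (c : M4) = 1 + (((g : M4).det)⁻¹ - 1) • e → c ∈ U)
    {x : G4} (hxU : x ∈ U) (hx : x * x = 1) (hns : ∀ z : F, (x : M4) ≠ z • 1) :
    ∃ g ∈ U, (g : M4).det = 1 ∧ g⁻¹ * x * g ∈ Cfsg.Geo.subgroupNormalizer R := by
  have h2 := h.two
  have hvs : ∀ z : F, (Fr.v 0 : M4) ≠ z • 1 := fun z hz =>
    h.not_comm_of_anti (Fr.anti 0 1 (by decide)) (Setting.comm_scalar hz _)
  have hys : ∀ z : F, (y : M4) ≠ z • 1 := by
    intro z hz
    rw [hy] at hz
    have hez : (-2 : F) • e = (z - 1) • (1 : M4) := by rw [sub_smul, one_smul, ← hz]; abel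
    have he' : e = ((-2 : F)⁻¹ * (z - 1)) • (1 : M4) := by
      rw [← smul_smul, ← hez, smul_smul, inv_mul_cancel₀ (neg_ne_zero.2 h2), one_smul]
    set w := (-2 : F)⁻¹ * (z - 1)
    have hw : w * w = w := by
      have e1 := congrFun (congrFun hee 0) 0
      rw [he'] at e1
      simpa using e1
    rw [he', Matrix.trace_smul, h.trace_one, smul_eq_mul] at htr
    have hw1 : w = 1 := by
      refine mul_left_cancel₀ (show w ≠ 0 from fun e0 => ?_) (by rw [hw, mul_one])
      rw [e0, zero_mul] at htr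
      exact zero_ne_one htr
    exact hne (by rw [he', hw1, one_smul])
  have tD : ∀ f : Fin 4 → Bool, (sgnM (F := F) f).trace = ∑ i, if f i then (-1 : F) else 1 := fun f => by
    rw [sgnM, Matrix.trace_diagonal]
  have hv0 : ∃ P ∈ U, (Fr.v 0 : M4) * (P : M4) = (P : M4) * sgnM ![true, true, false, false] := by
    obtain ⟨P, hP, hc'⟩ := invol_normal h2 U hperm heig hvU (Fr.sq 0) hvs
    have t0 := h.trace_zero (Fr.mem 0) (h.not_central_of_anti (Fr.mem 1) (Fr.anti 0 1 (by decide)))
    rcases hc' with e1 | e1 | e1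
    · have e2 := trace_of_frame e1
      rw [t0, tD] at e2
      simp [Fin.sum_univ_four] at e2
      exact absurd e2.symm (by
        intro e3; exact h2 (by linear_combination e3))
    · have e2 := trace_of_frame e1
      rw [t0, tD] at e2
      simp [Fin.sum_univ_four] at e2
      exact absurd e2.symm (by
        intro e3; exact h2 (by linear_combination -e3))
    · exact ⟨P, hP, e1⟩
  have hflip : ∀ {a P : G4} {f : Fin 4 → Bool}, (a : M4) * (P : M4) = (P : M4) * sgnM f →
      ((-a : G4) : M4) * (P : M4) = (P : M4) * sgnM (fun i => !f i) := by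
    intro a P f e1
    rw [Units.val_neg, Matrix.neg_mul, e1, ← Matrix.mul_neg]
    congr 1
    rw [sgnM, sgnM, Matrix.diagonal_neg]
    congr 1
    funext i
    cases f i <;> simp
  have hy0 : ∃ y' ∈ U, y' ∈ Cfsg.Geo.subgroupNormalizer R ∧ Commute e (y' : M4) ∧
      ∃ P ∈ U, (y' : M4) * (P : M4) = (P : M4) * sgnM ![true, false, false, false] ∧
        ((-y' : G4) : M4) * (P : M4) = (P : M4) * sgnM ![false, true, true, true] := by
    have hey : Commute e (y : M4) := by
      rw [hy]; exact (Commute.one_right e).add_right ((Commute.refl e).smul_right _)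
    obtain ⟨P, hP, hc'⟩ := invol_normal h2 U hperm heig hyU hy2 hys
    rcases hc' with e1 | e1 | e1
    · exact ⟨y, hyU, hyn, hey, P, hP, e1, (hflip e1).trans (by
        congr 2; funext i; fin_cases i <;> rfl)⟩
    · refine ⟨-y, by rw [← neg_one_mul]; exact mul_mem hnU hyU,
        by rw [← neg_one_mul]; exact mul_mem (Subgroup.le_normalizer h.neg) hyn,
        by rw [Units.val_neg]; exact hey.neg_right, P, hP, (hflip e1).trans (by
          congr 2; funext i; fin_cases i <;> rfl), by rw [neg_neg]; exact e1⟩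
    · exfalso
      have e2 := trace_of_frame e1
      rw [tD, hy, Matrix.trace_add, h.trace_one, Matrix.trace_smul, htr] at e2
      simp [Fin.sum_univ_four] at e2
      exact h2 (by linear_combination e2)
  -- correction of the determinant
  have fix_det : ∀ {g n : G4}, g ∈ U → g⁻¹ * x * g = n → n ∈ Cfsg.Geo.subgroupNormalizer R →
      Commute e (n : M4) → ∃ g ∈ U, (g : M4).det = 1 ∧ g⁻¹ * x * g ∈ Cfsg.Geo.subgroupNormalizer R := by
    intro g n hg hgn hn hen
    have hd0 : (g : M4).det ≠ 0 := (Matrix.GeneralLinearGroup.det g).ne_zero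
    obtain ⟨c, hc1, hc2⟩ := exists_one_add h2 hee htr hne (inv_ne_zero hd0)
    refine ⟨g * c, mul_mem hg (hc g hg c hc1), by rw [Units.val_mul, Matrix.det_mul, hc2, mul_inv_cancel₀ hd0], ?_⟩
    have hcn : n * c = c * n := Units.ext (by
      rw [Units.val_mul, Units.val_mul, hc1]
      exact (((Commute.one_left (n : M4)).add_left (hen.smul_left _))).eq.symm)
    rw [show (g * c)⁻¹ * x * (g * c) = c⁻¹ * (g⁻¹ * x * g) * c by group, hgn, mul_assoc, hcn,
      inv_mul_cancel_left]
    exact hn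
  obtain ⟨P, hP, hc'⟩ := invol_normal h2 U hperm heig hxU hx hns
  obtain ⟨y', hy'U, hy'n, hey', Q, hQ, hQ1, hQ2⟩ := hy0
  rcases hc' with e1 | e1 | e1
  · exact fix_det (mul_mem hP (inv_mem hQ)) (conj_of_frames e1 hQ1) hy'n hey'
  · exact fix_det (mul_mem hP (inv_mem hQ)) (conj_of_frames e1 hQ2)
      (by rw [← neg_one_mul]; exact mul_mem (Subgroup.le_normalizer h.neg) hy'n)
      (by rw [Units.val_neg]; exact hey'.neg_right)
  · obtain ⟨Q', hQ', hQ'e⟩ := hv0
    exact fix_det (mul_mem hP (inv_mem hQ')) (conj_of_frames e1 hQ'e) (Subgroup.le_normalizer (Fr.mem 0)) hcv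

end Cfsg.Agent.Symp4
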