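import Cfsg.Agent.Symp4.Idem
import Cfsg.Agent.Symp4.SpCriterion

/-!
# The cases in which some element of prime order fixes no point
-/

set_option autoImplicit false
set_option linter.unusedSectionVars false
set_option linter.style.haveILetI false

namespace Cfsg.Agent.Symp4

open Matrix

variable {F : Type*} [Field F]

local notation "M4" => Matrix (Fin 4) (Fin 4) F
local notation "G4" => GL (Fin 4) F

/-- A two-by-two block completed by the identity. -/
def blk (a b c d : F) : M4 := !![a, b, 0, 0; c, d, 0, 0; 0, 0, 1, 0; 0, 0, 0, 1]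

theorem blk_mul (a b c d a' b' c' d' : F) :
    blk a b c d * blk a' b' c' d' =
      blk (a * a' + b * c') (a * b' + b * d') (c * a' + d * c') (c * b' + d * d') := by
  ext i j
  fin_cases i <;> fin_cases j <;> simp [blk, Matrix.mul_apply, Fin.sum_univ_four]

theorem blk_one : blk (1 : F) 0 0 1 = 1 := by
  ext i j
  fin_cases i <;> fin_cases j <;> simp [blk]

theorem blk_trace (a b c d : F) : (blk a b c d).trace = a + d + 2 := by
  simp [blk, Matrix.trace, Fin.sum_univ_four]
  ring

theorem blk_det (a b c d : F) : (blk a b c d).det = a * d - b * c := by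
  simp [blk, Matrix.det_succ_row_zero, Fin.sum_univ_succ, Fin.succAbove]
  ring

theorem exists_blk {a b c d : F} (h : a * d - b * c = 1) :
    ∃ g : G4, (g : M4) = blk a b c d ∧ ((g⁻¹ : G4) : M4) = blk d (-b) (-c) a ∧ (g : M4).det = 1 := by
  have h1 : blk a b c d * blk d (-b) (-c) a = 1 := by
    rw [blk_mul, ← blk_one]
    congr 1 <;> first | ring1 | linear_combination h
  have h2 : blk d (-b) (-c) a * blk a b c d = 1 := by
    rw [blk_mul, ← blk_one]
    congr 1 <;> first | ring1 | linear_combination h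
  exact ⟨⟨_, _, h1, h2⟩, rfl, rfl, by rw [blk_det, h]⟩

theorem blk_pow {a b c d : F} (h : a * d - b * c = 1) (t : F) (ht : a + d = t) :
    (blk a b c d - 1) * (blk a b c d * blk a b c d - t • blk a b c d + 1) = 0 := by
  rw [blk_mul]
  ext i j
  fin_cases i <;> fin_cases j <;>
    simp [blk, Matrix.mul_apply, Fin.sum_univ_four, Matrix.one_apply, ← ht] <;>
    first
      | ring1
      | linear_combination (a - 1) * h
      | linear_combination b * h
      | linear_combination c * h
      | linear_combination (d - 1) * h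
      | linear_combination -(a - 1) * h
      | linear_combination -b * h
      | linear_combination -c * h
      | linear_combination -(d - 1) * h

theorem pow_three_of {ι : Type} [Fintype ι] [DecidableEq ι] {X : Matrix ι ι F}
    (h : (X - 1) * (X * X - (-1 : F) • X + 1) = 0) : X ^ 3 = 1 := by
  rw [neg_one_smul, sub_neg_eq_add] at h
  rw [show X ^ 3 = (X - 1) * (X * X + X + 1) + 1 by noncomm_ring, h, zero_add]

theorem pow_five_of {ι : Type} [Fintype ι] [DecidableEq ι] {X : Matrix ι ι F} {t : F}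
    (ht : t * t + t - 1 = 0) (h : (X - 1) * (X * X - t • X + 1) = 0) : X ^ 5 = 1 := by
  have h' : (X - 1) * (X * X - t • X + 1) * (X * X + (1 + t) • X + 1) = 0 := by rw [h, Matrix.zero_mul]
  have e : (X * X - t • X + 1) * (X * X + (1 + t) • X + 1) = X ^ 4 + X ^ 3 + X ^ 2 + X + 1 := by
    simp only [Matrix.add_mul, Matrix.sub_mul, Matrix.mul_add, Matrix.one_mul, Matrix.mul_one, Matrix.smul_mul,
      Matrix.mul_smul, pow_succ, pow_zero, ← Matrix.mul_assoc]
    match_scalars <;> first | ring1 | linear_combination -ht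
  rw [Matrix.mul_assoc, e] at h'
  rw [show X ^ 5 = (X - 1) * (X ^ 4 + X ^ 3 + X ^ 2 + X + 1) + 1 by noncomm_ring, h', zero_add]

/-- The block is not scalar unless its trace is two. -/
theorem blk_not_scalar {a b c d : F} (hne : a + d ≠ 2 ∨ b ≠ 0 ∨ c ≠ 0) (z : F) : blk a b c d ≠ z • (1 : M4) := by
  intro h
  have e0 := congrFun (congrFun h 0) 0
  have e1 := congrFun (congrFun h 1) 1
  have e2 := congrFun (congrFun h 2) 2
  have e3 := congrFun (congrFun h 0) 1
  have e4 := congrFun (congrFun h 1) 0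
  simp [blk] at e0 e1 e2 e3 e4
  rcases hne with h1 | h1 | h1
  · exact h1 (by rw [e0, e1, ← e2]; norm_num)
  · exact h1 e3
  · exact h1 e4

theorem trace_conj (g a : G4) : ((g⁻¹ * a * g : G4) : M4).trace = (a : M4).trace := by
  rw [Units.val_mul, Units.val_mul, Matrix.trace_mul_cycle, ← Units.val_mul, mul_inv_cancel, Units.val_one,
    Matrix.one_mul]

theorem scalar_of_conj {g x : G4} {z : F} (h : ((g⁻¹ * x * g : G4) : M4) = z • 1) : (x : M4) = z • 1 := by
  rw [show x = g * (g⁻¹ * x * g) * g⁻¹ by group, Units.val_mul, Units.val_mul, h, Matrix.mul_smul,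
    Matrix.smul_mul, Matrix.mul_one, ← Units.val_mul, mul_inv_cancel, Units.val_one]

/-- The negative direction, given the witnesses. -/
theorem negative [Fintype F] {R : Subgroup (GL (Fin 4) F)} (h : Setting R) {p : ℕ} [Fact p.Prime] [CharP F p]
    (hp2 : p ≠ 2) (U : Subgroup (GL (Fin 4) F)) (hdet : ∀ x ∈ U, (x : M4).det = 1)
    (good3 : Prop) (r : ℕ) [Fact r.Prime]
    (hΩ : r ∣ (Cfsg.Geo.subgroupNormalizer R).relIndex U)
    (H : ∀ x ∈ U, (∃ z : F, ((x ^ r : G4) : M4) = z • (1 : M4)) → (∀ z : F, (x : M4) ≠ z • (1 : M4)) →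
      ∃ g ∈ U, g⁻¹ * x * g ∈ Cfsg.Geo.subgroupNormalizer R)
    (w1 : (r = p ∨ (r = 3 ∧ ¬ good3)) → ∃ x ∈ U, x ^ r = 1 ∧ (∀ z : F, ((x * x : G4) : M4) ≠ z • 1) ∧
      ∃ l : F, ((x : M4) - l • 1).rank ≤ 1)
    (w5 : ∀ t : ZMod p, t * t + t - 1 = 0 → p ≠ 5 →
      ∃ a b c d : F, a * d - b * c = 1 ∧ a + d = ZMod.castHom (dvd_refl p) F t ∧
        ∀ x : G4, (x : M4) = blk a b c d → x ∈ U) :
    r = 2 ∨ (r = 3 ∧ good3) ∨ (r = 5 ∧ orderOf (p : ZMod 5) = 4) := by
  classical
  have hr := (Fact.out : r.Prime)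
  have hp := (Fact.out : p.Prime)
  by_contra hcon
  push Not at hcon
  obtain ⟨hr2, hr3, hr5⟩ := hcon
  -- elements close to scalars
  have near : (r = p ∨ (r = 3 ∧ ¬ good3)) → False := by
    intro hw
    obtain ⟨x, hx, hxr, hxx, l, hl⟩ := w1 hw
    obtain ⟨g, hg, hgy⟩ := H x hx ⟨1, by rw [hxr, one_smul]; rfl⟩ (fun z hz => hxx (z * z) (by
      rw [Units.val_mul, hz, smul_mul_smul_comm, Matrix.one_mul]))
    have hrk : (((g⁻¹ * x * g : G4) : M4) - l • 1).rank ≤ 1 := by
      have e : ((g⁻¹ * x * g : G4) : M4) - l • 1 = ((g⁻¹ : G4) : M4) * ((x : M4) - l • 1) * (g : M4) := by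
        rw [Matrix.mul_sub, Matrix.sub_mul, Matrix.mul_smul, Matrix.smul_mul, Matrix.mul_one, ← Units.val_mul,
          ← Units.val_mul, ← Units.val_mul g⁻¹ g, inv_mul_cancel, Units.val_one]
      rw [e]
      exact ((Matrix.rank_mul_le_left _ _).trans (Matrix.rank_mul_le_right _ _)).trans hl
    obtain ⟨c, hc⟩ := h.rank_one hgy hrk
    refine hxx c (scalar_of_conj (g := g) ?_)
    rw [show g⁻¹ * (x * x) * g = g⁻¹ * x * g * (g⁻¹ * x * g) by group]
    exact hc
  rcases Nat.lt_or_ge r 7 with h7 | h7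
  · have : r = 3 ∨ r = 5 := by
      have := hr.two_le
      have h4 : r ≠ 4 := by rintro rfl; norm_num at hr
      have h6 : r ≠ 6 := by rintro rfl; norm_num at hr
      omega
    rcases this with rfl | rfl
    · exact near (Or.inr ⟨rfl, hr3 rfl⟩)
    · by_cases hp5 : p = 5
      · exact near (Or.inl hp5.symm)
      haveI : NeZero p := ⟨hp.ne_zero⟩
      have h2 : (2 : ZMod p) ≠ 0 := fun e => hp2 ((Nat.prime_dvd_prime_iff_eq hp Nat.prime_two).1
        ((ZMod.natCast_eq_zero_iff 2 p).1 (by exact_mod_cast e)))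
      obtain ⟨t₀, ht₀⟩ := exists_golden (K := ZMod p) (ZMod.card p) h2 hp5 (hr5 rfl)
      obtain ⟨a, b, c, d, hdet1, htr, hU⟩ := w5 t₀ ht₀ hp5
      obtain ⟨t, htdef⟩ : ∃ t, t = ZMod.castHom (dvd_refl p) F t₀ := ⟨_, rfl⟩
      have ht : t * t + t - 1 = 0 := by
        have e := congrArg (ZMod.castHom (dvd_refl p) F) ht₀
        rw [map_sub, map_add, map_mul, map_one, map_zero] at e
        rw [htdef]
        exact e
      rw [← htdef] at htr
      have h5 : (5 : F) ≠ 0 := fun e => hp5 ((Nat.prime_dvd_prime_iff_eq hp (by norm_num)).1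
        ((CharP.cast_eq_zero_iff F p 5).1 (by exact_mod_cast e)))
      obtain ⟨x, hxv, hxi, -⟩ := exists_blk hdet1
      have hns : ∀ z : F, (x : M4) ≠ z • 1 := fun z => hxv ▸ blk_not_scalar (Or.inl fun e => h5 (by
        rw [htr] at e
        rw [e] at ht
        linear_combination ht)) z
      have hxr : x ^ 5 = 1 := Units.ext (by
        rw [Units.val_pow_eq_pow_val, hxv, pow_five_of ht (blk_pow hdet1 t htr)]; rfl)
      obtain ⟨g, hg, hgy⟩ := H x (hU x hxv) ⟨1, by rw [hxr, one_smul]; rfl⟩ hns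
      have hyr : ∀ z ∈ R, (g⁻¹ * x * g) ^ 5 * z = z * (g⁻¹ * x * g) ^ 5 := fun z _ => by
        rw [show (g⁻¹ * x * g) ^ 5 = g⁻¹ * x ^ 5 * g by
          rw [show g⁻¹ * x * g = g⁻¹ * x * g⁻¹⁻¹ by rw [inv_inv], conj_pow, inv_inv],
          hxr, mul_one, inv_mul_cancel, one_mul, mul_one]
      obtain ⟨k, -, hkd, hkm, hkT, htop⟩ := h.index_cases hgy (by decide) hyr
      have htr' : ((x⁻¹ : G4) : M4).trace = t + 2 := by rw [hxi, blk_trace]; linear_combination htr
      rw [trace_conj, show (g⁻¹ * x * g)⁻¹ = g⁻¹ * x⁻¹ * g by group, trace_conj, htr', hxv, blk_trace, htr] at hkT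
      obtain ⟨j, hj, rfl⟩ := (Nat.dvd_prime_pow Nat.prime_two).1 (show k ∣ 2 ^ 4 by norm_num; exact hkd)
      have hj' : j = 0 ∨ j = 4 := by
        interval_cases j <;> simp_all [Nat.ModEq]
      rcases hj' with rfl | rfl
      · push_cast at hkT
        rcases mul_self_eq_one_iff.1 (show (t + 2) * (t + 2) = 1 by linear_combination -hkT) with e | e
        · rw [show t = -1 by linear_combination e] at ht
          exact one_ne_zero (show (1 : F) = 0 by linear_combination -ht)
        · rw [show t = -3 by linear_combination e] at ht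
          exact h5 (by linear_combination ht)
      · obtain ⟨z, hz⟩ := htop rfl
        exact hns z (scalar_of_conj hz)
  · obtain ⟨x, hx⟩ := exists_prime_orderOf_dvd_card' r (hΩ.trans (Subgroup.index_dvd_card _))
    have hxr : (x : G4) ^ r = 1 := by rw [← Subgroup.coe_pow, ← hx, pow_orderOf_eq_one, Subgroup.coe_one]
    obtain ⟨g, -, hgy⟩ := H x x.2 ⟨1, by rw [hxr, one_smul]; rfl⟩ (fun z hz => by
      have hz4 : z ^ 4 = 1 := by
        have e := hdet x x.2
        rw [hz, Matrix.det_smul, Matrix.det_one, mul_one, Fintype.card_fin] at e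
        exact e
      have h4 : orderOf x ∣ 4 := orderOf_dvd_of_pow_eq_one (Subtype.ext (Units.ext (by
        rw [Subgroup.coe_pow, Units.val_pow_eq_pow_val, hz, _root_.smul_pow, one_pow, hz4, one_smul]
        rfl)))
      have := Nat.le_of_dvd (by norm_num) (hx ▸ h4)
      omega)
    obtain ⟨c, hc⟩ := h.scalar_of_seven_le hgy h7 (fun z _ => by
      rw [show (g⁻¹ * (x : G4) * g) ^ r = g⁻¹ * (x : G4) ^ r * g by
        rw [show g⁻¹ * (x : G4) * g = g⁻¹ * (x : G4) * g⁻¹⁻¹ by rw [inv_inv], conj_pow, inv_inv],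
        hxr, mul_one, inv_mul_cancel, one_mul, mul_one])
    have e := scalar_of_conj hc
    have hc4 : c ^ 4 = 1 := by
      have e' := hdet x x.2
      rw [e, Matrix.det_smul, Matrix.det_one, mul_one, Fintype.card_fin] at e'
      exact e'
    have h4 : orderOf x ∣ 4 := orderOf_dvd_of_pow_eq_one (Subtype.ext (Units.ext (by
      rw [Subgroup.coe_pow, Units.val_pow_eq_pow_val, e, _root_.smul_pow, one_pow, hc4, one_smul]
      rfl)))
    have := Nat.le_of_dvd (by norm_num) (hx ▸ h4)
    omega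

end Cfsg.Agent.Symp4
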