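import Cfsg.Agent.Symp4.Fixed

/-!
# Normalising elements that differ from a scalar by a matrix of rank one
-/

set_option autoImplicit false
set_option linter.unusedSectionVars false
set_option linter.style.haveILetI false

namespace Cfsg.Agent.Symp4

open Matrix

variable {ι : Type} [Fintype ι] [DecidableEq ι] {F : Type*} [Field F] {R : Subgroup (GL ι F)}

theorem rank_sub_le (A B : Matrix ι ι F) : (A - B).rank ≤ A.rank + B.rank := by
  rw [Matrix.rank, Matrix.rank, Matrix.rank]
  refine (Submodule.finrank_mono ?_).trans (Submodule.finrank_add_le_finrank_add_finrank _ _)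
  rintro _ ⟨v, rfl⟩
  rw [Matrix.mulVecLin_apply, Matrix.sub_mulVec]
  exact sub_mem (Submodule.mem_sup_left ⟨v, rfl⟩) (Submodule.mem_sup_right ⟨v, rfl⟩)

theorem rank_scalar {c : F} (hc : c ≠ 0) : (c • (1 : Matrix ι ι F)).rank = Fintype.card ι :=
  Matrix.rank_of_isUnit _ (IsUnit.of_mul_eq_one (c⁻¹ • (1 : Matrix ι ι F)) (by
    rw [smul_mul_smul_comm, mul_inv_cancel₀ hc, one_smul, mul_one]))

/-- The squared relation passes to the square. -/
theorem rank_sq_le {y : GL ι F} {l : F} (hr : ((y : Matrix ι ι F) - l • 1).rank ≤ 1) :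
    (((y * y : GL ι F) : Matrix ι ι F) - (l * l) • 1).rank ≤ 1 := by
  rw [show (((y * y : GL ι F) : Matrix ι ι F) - (l * l) • 1) =
      ((y : Matrix ι ι F) - l • 1) * ((y : Matrix ι ι F) + l • 1) by
    rw [Units.val_mul, Matrix.sub_mul, Matrix.mul_add, Matrix.mul_add, Matrix.smul_mul, Matrix.smul_mul,
      Matrix.one_mul, Matrix.one_mul, Matrix.mul_smul, Matrix.mul_one, smul_smul]
    abel]
  exact (Matrix.rank_mul_le_left _ _).trans hr

namespace Setting

variable (h : Setting R)
include h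

theorem comm_or_anti_mul {a b c : GL ι F} (ha : a ∈ R) (hb : b ∈ R) (hc : c ∈ R) :
    a * (b * c) = (b * c) * a ↔ (a * b = b * a ↔ a * c = c * a) := by
  have ne_neg : ∀ z : GL ι F, z ≠ -z := fun z e => by
    obtain ⟨i⟩ := h.nonempty
    have e' := congrArg (fun w : GL ι F => (w : Matrix ι ι F) * ((z⁻¹ : GL ι F) : Matrix ι ι F)) e
    simp only [Units.val_neg, Matrix.neg_mul, ← Units.val_mul, mul_inv_cancel, Units.val_one] at e'
    have e2 := congrFun (congrFun e' i) i
    simp only [Matrix.neg_apply, Matrix.one_apply_eq] at e2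
    exact h.two (by linear_combination e2)
  rcases h.comm a ha b hb with e1 | e1 <;> rcases h.comm a ha c hc with e2 | e2
  · refine ⟨fun _ => iff_of_true e1 e2, fun _ => ?_⟩
    rw [← mul_assoc, e1, mul_assoc, e2, mul_assoc]
  · have e3 : a * (b * c) = -(b * c * a) := by
      rw [← mul_assoc, e1, mul_assoc, e2, mul_neg, mul_assoc]
    refine ⟨fun e => absurd (e.symm.trans e3) (ne_neg _), fun hiff => ?_⟩
    exact absurd ((hiff.1 e1).symm.trans e2) (ne_neg _)
  · have e3 : a * (b * c) = -(b * c * a) := by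
      rw [← mul_assoc, e1, neg_mul, mul_assoc, e2, mul_assoc]
    refine ⟨fun e => absurd (e.symm.trans e3) (ne_neg _), fun hiff => ?_⟩
    exact absurd ((hiff.2 e2).symm.trans e1) (ne_neg _)
  · refine ⟨fun _ => iff_of_false ?_ ?_, fun _ => ?_⟩
    · exact fun e => ne_neg _ (e.symm.trans e1)
    · exact fun e => ne_neg _ (e.symm.trans e2)
    · rw [← mul_assoc, e1, neg_mul, mul_assoc, e2, mul_neg, neg_neg, mul_assoc]

/-- An element of the group close to the identity is an involution, trivial if central. -/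
theorem near_one {u : GL ι F} (hu : u ∈ R) (hr : ((u : Matrix ι ι F) - 1).rank ≤ 2) :
    u * u = 1 ∧ ((∀ g ∈ R, u * g = g * u) → u = 1) := by
  have full : ∀ z : GL ι F, (z : Matrix ι ι F).rank = 4 := fun z => by
    rw [Matrix.rank_of_isUnit _ ⟨z, rfl⟩, h.dim]
  have hsq : u * u = 1 := by
    refine (h.sq u hu).resolve_right fun e => ?_
    have e' : ((u : Matrix ι ι F) - 1) * ((u : Matrix ι ι F) + 1) = (-2 : F) • 1 := by
      rw [Matrix.sub_mul, Matrix.mul_add, Matrix.one_mul, Matrix.mul_one, ← Units.val_mul, e,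
        Units.val_neg, Units.val_one, show ((-2 : F) • (1 : Matrix ι ι F)) = -1 - 1 by
          rw [neg_smul, show (2 : F) = 1 + 1 by norm_num, add_smul, one_smul]; abel]
      abel
    have h1 : (((-2 : F) • (1 : Matrix ι ι F))).rank = 4 := by
      rw [rank_scalar (neg_ne_zero.2 h.two), h.dim]
    rw [← e'] at h1
    have h2 := Matrix.rank_mul_le_left ((u : Matrix ι ι F) - 1) ((u : Matrix ι ι F) + 1)
    omega
  refine ⟨hsq, fun hc => ?_⟩
  obtain ⟨c, hcu⟩ := h.scalar hc
  obtain ⟨i⟩ := h.nonempty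
  have hc2 : c * c = 1 := by
    have e := congrArg (fun z : GL ι F => (z : Matrix ι ι F) i i) hsq
    simpa [hcu] using e
  rcases mul_self_eq_one_iff.1 hc2 with rfl | rfl
  · exact Units.ext (by rw [hcu, one_smul]; rfl)
  · exfalso
    rw [hcu, show ((-1 : F) • (1 : Matrix ι ι F)) - 1 = (-2 : F) • 1 by
      rw [show (-2 : F) = -1 + -1 by norm_num, add_smul, neg_one_smul]; abel,
      rank_scalar (neg_ne_zero.2 h.two), h.dim] at hr
    omega

omit h in
theorem rank_conj_le {y : GL ι F} {l : F} (hr : ((y : Matrix ι ι F) - l • 1).rank ≤ 1) (g : GL ι F) :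
    (((y * g * y⁻¹ * g⁻¹ : GL ι F) : Matrix ι ι F) - 1).rank ≤ 2 := by
  set N := (y : Matrix ι ι F) - l • 1 with hN
  have e : ((y * g * y⁻¹ * g⁻¹ : GL ι F) : Matrix ι ι F) - 1 =
      (N * (g : Matrix ι ι F) - (g : Matrix ι ι F) * N) * ((y⁻¹ * g⁻¹ : GL ι F) : Matrix ι ι F) := by
    rw [hN, show ((y : Matrix ι ι F) - l • 1) * (g : Matrix ι ι F) - (g : Matrix ι ι F) * ((y : Matrix ι ι F) - l • 1) =
        (y : Matrix ι ι F) * g - (g : Matrix ι ι F) * y by
      rw [Matrix.sub_mul, Matrix.mul_sub, Matrix.smul_mul, Matrix.mul_smul, Matrix.one_mul, Matrix.mul_one,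
        sub_sub_sub_cancel_right],
      Matrix.sub_mul, ← Units.val_mul, ← Units.val_mul, ← Units.val_mul,
      ← Units.val_mul]
    congr 1
    · congr 1; group
    · rw [show g * y * (y⁻¹ * g⁻¹) = 1 by group, Units.val_one]
  rw [e]
  refine (Matrix.rank_mul_le_left _ _).trans ((rank_sub_le _ _).trans ?_)
  have h1 := Matrix.rank_mul_le_left N (g : Matrix ι ι F)
  have h2 := Matrix.rank_mul_le_right (g : Matrix ι ι F) N
  omega

/-- A normalising element differing from a scalar by a matrix of rank one has scalar square. -/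
theorem rank_one {y : GL ι F} (hy : y ∈ Cfsg.Geo.subgroupNormalizer R) {l : F}
    (hr : ((y : Matrix ι ι F) - l • 1).rank ≤ 1) :
    ∃ c : F, ((y * y : GL ι F) : Matrix ι ι F) = c • 1 := by
  set K : GL ι F → GL ι F := fun g => y * g * y⁻¹ with hK
  have hKR : ∀ g ∈ R, K g ∈ R := fun g hg => conj_mem hy hg
  have hKmul : ∀ a b : GL ι F, K (a * b) = K a * K b := fun a b => by simp only [hK]; group
  -- each element commutes with its conjugate
  have hcomm : ∀ g ∈ R, g * K g = K g * g := by
    intro g hg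
    refine (h.comm g hg _ (hKR g hg)).resolve_right fun e => ?_
    obtain ⟨hu, -⟩ := h.near_one (mul_mem (hKR g hg) (inv_mem hg)) (rank_conj_le hr g)
    have hinv : g⁻¹ = g ∨ g⁻¹ = -g := by
      rcases h.sq g hg with e1 | e1
      · exact Or.inl (inv_eq_of_mul_eq_one_right e1)
      · exact Or.inr (inv_eq_of_mul_eq_one_right (by rw [mul_neg, e1, neg_neg]))
    have hne : (-1 : GL ι F) ≠ 1 := by
      intro e2
      obtain ⟨i⟩ := h.nonempty
      have e3 := congrArg (fun z : GL ι F => (z : Matrix ι ι F) i i) e2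
      simp only [Units.val_neg, Units.val_one, Matrix.neg_apply, Matrix.one_apply_eq] at e3
      exact h.two (by linear_combination -e3)
    have e1 : K g * g * (K g * g) = 1 := by
      rcases hinv with e2 | e2 <;> rw [e2] at hu
      · exact hu
      · rwa [mul_neg, neg_mul_neg] at hu
    have hgg : ∀ {a : GL ι F}, a * g * (a * g) = a * (g * a) * g := fun {a} => by group
    rw [hgg, e, mul_neg, neg_mul] at e1
    have e2 : K g * (K g * g) * g = (y * (g * g) * y⁻¹) * (g * g) := by simp only [hK]; group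
    rw [e2] at e1
    rcases h.sq g hg with e3 | e3 <;> rw [e3] at e1
    · simp only [mul_one, mul_inv_cancel] at e1
      exact hne e1
    · simp only [mul_neg, mul_one, neg_mul, mul_inv_cancel, neg_neg] at e1
      exact hne e1
  have hiter : ∀ a b, a * b = b * a ↔ K a * K b = K b * K a := by
    intro a b
    rw [← hKmul, ← hKmul]
    exact ⟨fun e => by rw [e], fun e => mul_left_cancel (mul_right_cancel e)⟩
  -- the pairing with the conjugate is symmetric
  have hsymm : ∀ g ∈ R, ∀ a ∈ R, (g * K a = K a * g ↔ a * K g = K g * a) := by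
    intro g hg a ha
    have e := hcomm (g * a) (mul_mem hg ha)
    rw [hKmul] at e
    have e1 := (h.comm_or_anti_mul (mul_mem hg ha) (hKR g hg) (hKR a ha)).1 e
    have f1 : (g * a) * K g = K g * (g * a) ↔ (K g * g = g * K g ↔ K g * a = a * K g) :=
      eq_comm.trans (h.comm_or_anti_mul (hKR g hg) hg ha)
    have f2 : (g * a) * K a = K a * (g * a) ↔ (K a * g = g * K a ↔ K a * a = a * K a) :=
      eq_comm.trans (h.comm_or_anti_mul (hKR a ha) hg ha)
    rw [f1, f2] at e1
    have c1 := hcomm g hg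
    have c2 := hcomm a ha
    constructor <;> intro e3
    · exact ((e1.2 (iff_of_true e3.symm c2.symm)).1 c1.symm).symm
    · exact ((e1.1 (iff_of_true c1.symm e3.symm)).2 c2.symm).symm
  refine h.scalar fun g hg => ?_
  have hcent : ∀ a ∈ R, (g⁻¹ * K (K g)) * a = a * (g⁻¹ * K (K g)) := by
    intro a ha
    have ha' : y⁻¹ * a * y ∈ R := by
      have := conj_mem (inv_mem hy) ha
      rwa [inv_inv] at this
    have hKa : K (y⁻¹ * a * y) = a := by simp only [hK]; group
    have e1 := hsymm g hg _ ha'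
    rw [hKa, hiter (y⁻¹ * a * y) (K g), hKa] at e1
    refine ((h.comm_or_anti_mul ha (inv_mem hg) (hKR _ (hKR g hg))).2 ⟨fun e2 => ?_, fun e2 => ?_⟩).symm
    · exact e1.1 (by simpa using ((show Commute a g⁻¹ from e2).inv_right).eq.symm)
    · exact ((show Commute a g from (e1.2 e2).symm).inv_right).eq
  have hcent' : ∀ a ∈ R, (K (K g) * g⁻¹) * a = a * (K (K g) * g⁻¹) := by
    intro a ha
    have e1 := h.central_comm hcent
    have e2 : K (K g) * g⁻¹ = g⁻¹ * K (K g) := by
      calc K (K g) * g⁻¹ = g * (g⁻¹ * K (K g)) * g⁻¹ := by group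
        _ = g⁻¹ * K (K g) := by rw [← e1 g, mul_inv_cancel_right]
    rw [e2]; exact hcent a ha
  have e2 : K (K g) * g⁻¹ = y * y * g * (y * y)⁻¹ * g⁻¹ := by simp only [hK]; group
  rw [e2] at hcent'
  have e3 := (h.near_one (mul_mem (conj_mem (mul_mem hy hy) hg) (inv_mem hg))
    (rank_conj_le (rank_sq_le hr) g)).2 hcent'
  rw [mul_inv_eq_one, mul_inv_eq_iff_eq_mul] at e3
  exact e3

end Setting

end Cfsg.Agent.Symp4
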