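import Cfsg.Agent.Symp4.ThreeLinear

/-!
# Scalars: normalising powers to one
-/

set_option autoImplicit false
set_option linter.unusedSectionVars false
set_option linter.style.haveILetI false

namespace Cfsg.Agent.Symp4

open Matrix

variable {F : Type*} [Field F]

local notation "M4" => Matrix (Fin 4) (Fin 4) F
local notation "G4" => GL (Fin 4) F

/-- A scalar element. -/
noncomputable def sc (c : Fˣ) : GL (Fin 4) F :=
  ⟨(c : F) • 1, ((c⁻¹ : Fˣ) : F) • 1, by rw [smul_mul_smul_comm, Units.mul_inv, one_smul, one_mul],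
    by rw [smul_mul_smul_comm, Units.inv_mul, one_smul, one_mul]⟩

theorem sc_val (c : Fˣ) : (sc c : M4) = (c : F) • 1 := rfl

theorem sc_det (c : Fˣ) : (sc c : M4).det = (c : F) ^ 4 := by
  rw [sc_val, Matrix.det_smul, Fintype.card_fin, Matrix.det_one, mul_one]

theorem sc_comm (c : Fˣ) (g : G4) : sc c * g = g * sc c := Setting.comm_scalar (sc_val c) g

theorem sc_mem_normalizer (R : Subgroup (GL (Fin 4) F)) (c : Fˣ) : sc c ∈ Cfsg.Geo.subgroupNormalizer R := by
  show sc c ∈ Subgroup.normalizer (R : Set (GL (Fin 4) F))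
  rw [Subgroup.mem_normalizer_iff]
  intro z
  rw [sc_comm, mul_inv_cancel_right]

theorem sc_mul_pow (c : Fˣ) (x : G4) (n : ℕ) :
    ((sc c * x) ^ n : G4) = ((sc c) ^ n * x ^ n : G4) :=
  (show Commute (sc c) x from sc_comm c x).mul_pow n

theorem sc_pow_val (c : Fˣ) (n : ℕ) : (((sc c) ^ n : G4) : M4) = ((c : F) ^ n) • 1 := by
  rw [Units.val_pow_eq_pow_val, sc_val, _root_.smul_pow, one_pow]

theorem scalar_pow_four {x : G4} (hx : (x : M4).det = 1) {r : ℕ} {z : F}
    (hz : ((x ^ r : G4) : M4) = z • 1) : z ^ 4 = 1 := by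
  have e := congrArg Matrix.det hz
  rw [Units.val_pow_eq_pow_val, Matrix.det_pow, hx, one_pow, Matrix.det_smul, Fintype.card_fin,
    Matrix.det_one, mul_one] at e
  exact e.symm

/-- A scalar fourth root of unity normalising an odd power to one. -/
theorem exists_sc {x : G4} (hx : (x : M4).det = 1) {r : ℕ} (hr : r = 3 ∨ r = 5) {z : F}
    (hz : ((x ^ r : G4) : M4) = z • 1) :
    ∃ s : Fˣ, (s : F) ^ 4 = 1 ∧ (sc s * x) ^ r = 1 ∧ ((s : F) = z ∨ (s : F) = z ^ 3) := by
  have h4 := scalar_pow_four hx hz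
  have hz0 : z ≠ 0 := fun e => by rw [e] at h4; simp at h4
  rcases hr with rfl | rfl
  · refine ⟨Units.mk0 z hz0, h4, Units.ext ?_, Or.inl rfl⟩
    rw [sc_mul_pow, Units.val_mul, sc_pow_val, hz, smul_mul_smul_comm, Matrix.mul_one, Units.val_one,
      Units.val_mk0, show z ^ 3 * z = 1 by rw [← h4]; ring, one_smul]
  · refine ⟨Units.mk0 (z ^ 3) (pow_ne_zero _ hz0), by rw [Units.val_mk0, ← pow_mul, show 3 * 4 = 4 * 3 from rfl,
      pow_mul, h4, one_pow], Units.ext ?_, Or.inr rfl⟩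
    rw [sc_mul_pow, Units.val_mul, sc_pow_val, hz, smul_mul_smul_comm, Matrix.mul_one, Units.val_one,
      Units.val_mk0, show (z ^ 3) ^ 5 * z = (z ^ 4) ^ 4 by ring, h4, one_pow, one_smul]

theorem not_scalar_sc {x : G4} (hns : ∀ z : F, (x : M4) ≠ z • 1) (s : Fˣ) (z : F) :
    ((sc s * x : G4) : M4) ≠ z • 1 := by
  intro e
  refine hns ((s : F)⁻¹ * z) ?_
  rw [Units.val_mul, sc_val, Matrix.smul_mul, Matrix.one_mul] at e
  rw [← smul_smul, ← e, smul_smul, inv_mul_cancel₀ s.ne_zero, one_smul]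

/-- Transferring a conjugation from a scalar multiple. -/
theorem conj_sc {R : Subgroup (GL (Fin 4) F)} {x g : G4} (s : Fˣ)
    (h : g⁻¹ * (sc s * x) * g ∈ Cfsg.Geo.subgroupNormalizer R) :
    g⁻¹ * x * g ∈ Cfsg.Geo.subgroupNormalizer R := by
  have e : g⁻¹ * x * g = (sc s)⁻¹ * (g⁻¹ * (sc s * x) * g) := by
    rw [← mul_assoc g⁻¹ (sc s) x, ← sc_comm]
    group
  rw [e]
  exact mul_mem (inv_mem (sc_mem_normalizer R s)) h

/-- The determinant of a matrix whose square is a non-square scalar. -/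
theorem det_of_nonsquare {A : M4} {z : F} (hA : A * A = z • 1) (hz : ∀ l : F, l * l ≠ z) : A.det = z * z := by
  classical
  have hAA : ∀ v, A *ᵥ (A *ᵥ v) = z • v := fun v => by
    rw [Matrix.mulVec_mulVec, hA, Matrix.smul_mulVec, Matrix.one_mulVec]
  have notMem : ∀ (W : Submodule F (Fin 4 → F)), (∀ u ∈ W, A *ᵥ u ∈ W) → ∀ u, u ∉ W →
      ∀ a b : F, a • u + b • (A *ᵥ u) ∈ W → a = 0 ∧ b = 0 := by
    intro W hW u huW a b hab
    by_contra hne
    have hn : a * a - b * b * z ≠ 0 := by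
      intro h0
      by_cases hb : b = 0
      · subst hb
        exact hne ⟨mul_self_eq_zero.1 (by linear_combination h0), rfl⟩
      · refine hz (a / b) ?_
        field_simp
        linear_combination h0
    apply huW
    have e : (a * a - b * b * z) • u = a • (a • u + b • (A *ᵥ u)) - b • (A *ᵥ (a • u + b • (A *ᵥ u))) := by
      rw [Matrix.mulVec_add, Matrix.mulVec_smul, Matrix.mulVec_smul, hAA]
      module
    have h1 : (a * a - b * b * z) • u ∈ W :=
      e ▸ W.sub_mem (W.smul_mem _ hab) (W.smul_mem _ (hW _ hab))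
    have h2 := W.smul_mem (a * a - b * b * z)⁻¹ h1
    rwa [smul_smul, inv_mul_cancel₀ hn, one_smul] at h2
  set u : Fin 4 → F := Pi.single 0 1
  have hu : u ≠ 0 := fun e => by simpa [u] using congrFun e 0
  set W := Submodule.span F ({u, A *ᵥ u} : Set (Fin 4 → F)) with hW
  have hinv : ∀ m ∈ W, A *ᵥ m ∈ W := by
    intro m hm
    obtain ⟨a, b, rfl⟩ := Submodule.mem_span_pair.1 hm
    rw [Matrix.mulVec_add, Matrix.mulVec_smul, Matrix.mulVec_smul, hAA]
    exact Submodule.mem_span_pair.2 ⟨b * z, a, by module⟩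
  obtain ⟨v, hv⟩ : ∃ v, v ∉ W := by
    by_contra hcon
    push Not at hcon
    have h4 := Submodule.finrank_mono (show (⊤ : Submodule F (Fin 4 → F)) ≤ W from fun v _ => hcon v)
    rw [finrank_top, Module.finrank_pi, Fintype.card_fin] at h4
    have hle2 := finrank_span_finset_le_card (R := F) ({u, A *ᵥ u} : Finset (Fin 4 → F))
    rw [Finset.coe_pair, Set.finrank, ← hW] at hle2
    have h2' := Finset.card_le_two (a := u) (b := A *ᵥ u)
    omega
  have hli : LinearIndependent F ![u, A *ᵥ u, v, A *ᵥ v] := by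
    rw [Fintype.linearIndependent_iff]
    intro g hg
    simp [Fin.sum_univ_four] at hg
    obtain ⟨h2, h3⟩ := notMem W hinv v hv (g 2) (g 3)
      (Submodule.mem_span_pair.2 ⟨-g 0, -g 1, by rw [← sub_eq_zero, ← neg_eq_zero, ← hg]; module⟩)
    rw [h2, h3, zero_smul, zero_smul, add_zero, add_zero] at hg
    obtain ⟨h0, h1⟩ := notMem ⊥ (fun m hm => by
      rw [(Submodule.mem_bot F).1 hm, Matrix.mulVec_zero]; exact Submodule.zero_mem _) u
      (fun e => hu ((Submodule.mem_bot F).1 e)) (g 0) (g 1) ((Submodule.mem_bot F).2 hg)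
    intro i
    fin_cases i <;> assumption
  obtain ⟨P, hP⟩ := unit_of_indep hli
  have hxP : A * (P : M4) = (P : M4) * !![0, z, 0, 0; 1, 0, 0, 0; 0, 0, 0, z; 0, 0, 1, 0] := by
    ext i j
    have e : (A * (P : M4)) i j = (A *ᵥ (P : M4).col j) i := rfl
    have e' : ∀ k, (P : M4) i k = (P : M4).col k i := fun k => rfl
    rw [e, Matrix.mul_apply, hP]
    simp only [e', hP, Fin.sum_univ_four]
    fin_cases j <;> simp [hAA] <;> ring
  have e := congrArg Matrix.det hxP
  rw [Matrix.det_mul, Matrix.det_mul, mul_comm] at e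
  rw [mul_left_cancel₀ (Matrix.GeneralLinearGroup.det P).ne_zero e]
  simp [Matrix.det_succ_row_zero, Fin.sum_univ_succ, Fin.succAbove]

end Cfsg.Agent.Symp4
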