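import Cfsg.Agent.Symp4.Frame

/-!
# The element of order five of the normaliser
-/

set_option autoImplicit false
set_option linter.unusedSectionVars false
set_option linter.style.haveILetI false

namespace Cfsg.Agent.Symp4

open Matrix

variable {ι : Type} [Fintype ι] [DecidableEq ι] {F : Type*} [Field F] {R : Subgroup (GL ι F)}

/-- The difference of two members of a frame, as a matrix. -/
def Frame.diff (Fr : Frame R) (i j : Fin 5) : Matrix ι ι F :=
  (Fr.v i : Matrix ι ι F) - (Fr.v j : Matrix ι ι F)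

theorem Frame.sq_mat (Fr : Frame R) (i : Fin 5) : (Fr.v i : Matrix ι ι F) * (Fr.v i : Matrix ι ι F) = 1 := by
  rw [← Units.val_mul, Fr.sq, Units.val_one]

theorem Frame.anti_mat (Fr : Frame R) {i j : Fin 5} (h : i ≠ j) :
    (Fr.v i : Matrix ι ι F) * (Fr.v j : Matrix ι ι F) = -((Fr.v j : Matrix ι ι F) * (Fr.v i : Matrix ι ι F)) := by
  rw [← Units.val_mul, Fr.anti i j h, Units.val_neg, Units.val_mul]

theorem Frame.diff_sq (Fr : Frame R) {i j : Fin 5} (h : i ≠ j) :
    Fr.diff i j * Fr.diff i j = (2 : F) • (1 : Matrix ι ι F) := by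
  rw [Frame.diff, Matrix.sub_mul, Matrix.mul_sub, Matrix.mul_sub, Fr.sq_mat, Fr.sq_mat, Fr.anti_mat h,
    show (2 : F) = 1 + 1 by norm_num, add_smul, one_smul]
  abel

theorem Frame.diff_left (Fr : Frame R) {i j : Fin 5} (h : i ≠ j) :
    Fr.diff i j * (Fr.v i : Matrix ι ι F) = -((Fr.v j : Matrix ι ι F) * Fr.diff i j) := by
  rw [Frame.diff, Matrix.sub_mul, Matrix.mul_sub, Fr.sq_mat, Fr.sq_mat]
  abel

theorem Frame.diff_right (Fr : Frame R) {i j : Fin 5} (h : i ≠ j) :
    Fr.diff i j * (Fr.v j : Matrix ι ι F) = -((Fr.v i : Matrix ι ι F) * Fr.diff i j) := by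
  rw [Frame.diff, Matrix.sub_mul, Matrix.mul_sub, Fr.sq_mat, Fr.sq_mat]
  abel

theorem Frame.diff_other (Fr : Frame R) {i j k : Fin 5} (hi : k ≠ i) (hj : k ≠ j) :
    Fr.diff i j * (Fr.v k : Matrix ι ι F) = -((Fr.v k : Matrix ι ι F) * Fr.diff i j) := by
  rw [Frame.diff, Matrix.sub_mul, Matrix.mul_sub, Fr.anti_mat hi.symm, Fr.anti_mat hj.symm]
  abel

/-- The product of four differences. -/
def Frame.cyc (Fr : Frame R) : Matrix ι ι F :=
  Fr.diff 0 1 * Fr.diff 1 2 * Fr.diff 2 3 * Fr.diff 3 4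

theorem Frame.cyc_mul (Fr : Frame R) (k : Fin 5) :
    Fr.cyc * (Fr.v k : Matrix ι ι F) = (Fr.v (k + 1) : Matrix ι ι F) * Fr.cyc := by
  have a1 := Fr.diff_left (i := 0) (j := 1) (by decide)
  have b1 := Fr.diff_right (i := 0) (j := 1) (by decide)
  have a2 := Fr.diff_left (i := 1) (j := 2) (by decide)
  have b2 := Fr.diff_right (i := 1) (j := 2) (by decide)
  have a3 := Fr.diff_left (i := 2) (j := 3) (by decide)
  have b3 := Fr.diff_right (i := 2) (j := 3) (by decide)
  have a4 := Fr.diff_left (i := 3) (j := 4) (by decide)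
  have b4 := Fr.diff_right (i := 3) (j := 4) (by decide)
  have o : ∀ i j k : Fin 5, k ≠ i → k ≠ j →
      Fr.diff i j * (Fr.v k : Matrix ι ι F) = -((Fr.v k : Matrix ι ι F) * Fr.diff i j) :=
    fun i j k h h' => Fr.diff_other h h'
  have push1 : ∀ {A B C : Matrix ι ι F}, A * B = -(C * A) → ∀ T, A * (B * T) = -(C * (A * T)) :=
    fun {A B C} h T => by rw [← Matrix.mul_assoc, h, Matrix.neg_mul, Matrix.mul_assoc]
  unfold Frame.cyc
  fin_cases k
  · show _ * (Fr.v 0 : Matrix ι ι F) = (Fr.v 1 : Matrix ι ι F) * _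
    simp only [Matrix.mul_assoc, o 3 4 0 (by decide) (by decide), Matrix.mul_neg,
      push1 (o 2 3 0 (by decide) (by decide)), push1 (o 1 2 0 (by decide) (by decide)), push1 a1, neg_neg]
  · show _ * (Fr.v 1 : Matrix ι ι F) = (Fr.v 2 : Matrix ι ι F) * _
    simp only [Matrix.mul_assoc, o 3 4 1 (by decide) (by decide), Matrix.mul_neg,
      push1 (o 2 3 1 (by decide) (by decide)), push1 a2, push1 (o 0 1 2 (by decide) (by decide)), neg_neg]
  · show _ * (Fr.v 2 : Matrix ι ι F) = (Fr.v 3 : Matrix ι ι F) * _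
    simp only [Matrix.mul_assoc, o 3 4 2 (by decide) (by decide), Matrix.mul_neg,
      push1 a3, push1 (o 1 2 3 (by decide) (by decide)), push1 (o 0 1 3 (by decide) (by decide)), neg_neg]
  · show _ * (Fr.v 3 : Matrix ι ι F) = (Fr.v 4 : Matrix ι ι F) * _
    simp only [Matrix.mul_assoc, a4, Matrix.mul_neg, push1 (o 2 3 4 (by decide) (by decide)),
      push1 (o 1 2 4 (by decide) (by decide)), push1 (o 0 1 4 (by decide) (by decide)), neg_neg]
  · show _ * (Fr.v 4 : Matrix ι ι F) = (Fr.v 0 : Matrix ι ι F) * _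
    simp only [Matrix.mul_assoc, b4, Matrix.mul_neg, push1 b3, push1 b2, push1 b1, neg_neg]

namespace Setting

variable (h : Setting R)
include h

omit h in
theorem mem_normalizer_of_frame [Finite R] (Fr : Frame R) {g : GL ι F}
    (hg : ∀ i, g * Fr.v i * g⁻¹ ∈ R) (hz : ∀ z ∈ R, (∀ x ∈ R, z * x = x * z) → g * z * g⁻¹ ∈ R) :
    g ∈ Cfsg.Geo.subgroupNormalizer R := by
  have hle : R ≤ R.comap (MulAut.conj g).toMonoidHom := Fr.gen _ hg hz
  have hle' : R.map (MulAut.conj g).toMonoidHom ≤ R := Subgroup.map_le_iff_le_comap.2 hle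
  have heq : R.map (MulAut.conj g).toMonoidHom = R :=
    Subgroup.eq_of_le_of_card_ge hle' (le_of_eq
      (Nat.card_congr (R.equivMapOfInjective _ (MulAut.conj g).injective).toEquiv))
  show g ∈ Subgroup.normalizer (R : Set (GL ι F))
  rw [Subgroup.mem_normalizer_iff]
  refine fun x => ⟨fun hx => hle hx, fun hx => ?_⟩
  have hx' : (MulAut.conj g).toMonoidHom x ∈ R.map (MulAut.conj g).toMonoidHom := by rw [heq]; exact hx
  obtain ⟨z, hz', hzx⟩ := Subgroup.mem_map.1 hx'
  rwa [← (MulAut.conj g).injective hzx]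

theorem normalizer_of_frame (Fr : Frame R) {g : GL ι F} (hg : ∀ i, g * Fr.v i * g⁻¹ ∈ R) :
    g ∈ Cfsg.Geo.subgroupNormalizer R := by
  haveI := h.finite
  refine mem_normalizer_of_frame Fr hg fun z hz hc => ?_
  rw [← h.central_comm hc g, mul_inv_cancel_right]
  exact hz

/-- The normalising element permuting the frame cyclically. -/
theorem exists_cyc (Fr : Frame R) :
    ∃ g : GL ι F, (g : Matrix ι ι F) = Fr.cyc ∧ g ∈ Cfsg.Geo.subgroupNormalizer R ∧
      (∀ i, g * Fr.v i = Fr.v (i + 1) * g) ∧ (∀ x ∈ R, g ^ 5 * x = x * g ^ 5) := by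
  have hu : IsUnit Fr.cyc := by
    have hd : ∀ i j : Fin 5, i ≠ j → IsUnit (Fr.diff i j) := fun i j hij =>
      IsUnit.of_mul_eq_one ((2 : F)⁻¹ • Fr.diff i j) (by
        rw [Matrix.mul_smul, Fr.diff_sq hij, smul_smul, inv_mul_cancel₀ h.two, one_smul])
    exact (((hd 0 1 (by decide)).mul (hd 1 2 (by decide))).mul (hd 2 3 (by decide))).mul (hd 3 4 (by decide))
  obtain ⟨g, hg⟩ := hu
  have hgv : ∀ i, g * Fr.v i = Fr.v (i + 1) * g := fun i => Units.ext (by
    rw [Units.val_mul, Units.val_mul, hg, Fr.cyc_mul])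
  have hgn : g ∈ Cfsg.Geo.subgroupNormalizer R := h.normalizer_of_frame Fr fun i => by
    rw [hgv, mul_inv_cancel_right]; exact Fr.mem _
  refine ⟨g, hg, hgn, hgv, ?_⟩
  have hit : ∀ (n : ℕ) (i : Fin 5), g ^ n * Fr.v i = Fr.v ((fun j => j + 1)^[n] i) * g ^ n := by
    intro n
    induction n with
    | zero => intro i; simp
    | succ n ih =>
      intro i
      rw [pow_succ, mul_assoc, hgv, ← mul_assoc, ih, mul_assoc, Function.iterate_succ_apply]
  have hle : R ≤ Subgroup.centralizer {g ^ 5} := Fr.gen _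
    (fun i => Subgroup.mem_centralizer_singleton_iff.2 (by
      rw [hit 5 i, show (fun j : Fin 5 => j + 1)^[5] i = i by revert i; decide]))
    (fun z _ hc => Subgroup.mem_centralizer_singleton_iff.2 (h.central_comm hc _))
  exact fun x hx => (Subgroup.mem_centralizer_singleton_iff.1 (hle hx)).symm

theorem cyc_sq_not_central (Fr : Frame R) {g : GL ι F} (hgv : ∀ i, g * Fr.v i = Fr.v (i + 1) * g) :
    ¬ ∀ x, g * g * x = x * (g * g) := by
  intro hc
  have h1 : g * g * Fr.v 0 = Fr.v 2 * (g * g) := by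
    rw [mul_assoc, hgv, ← mul_assoc, hgv, mul_assoc]; rfl
  rw [hc] at h1
  have h2 : Fr.v 0 = Fr.v 2 := mul_right_cancel h1
  have h3 := Fr.anti 0 2 (by decide)
  rw [← h2] at h3
  exact h.not_comm_of_anti h3 rfl

end Setting

/-- A frame of self-adjoint matrices gives a cyclic product of multiplier sixteen. -/
theorem Frame.cyc_adj (Fr : Frame R) (φ : Matrix ι ι F → Matrix ι ι F) (J : Matrix ι ι F)
    (hmul : ∀ A B, φ (A * B) = φ B * φ A) (hsub : ∀ A B, φ (A - B) = φ A - φ B)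
    (hJ : ∀ i, φ (Fr.v i : Matrix ι ι F) * J * (Fr.v i : Matrix ι ι F) = J) :
    φ Fr.cyc * J * Fr.cyc = (16 : F) • J := by
  have hself : ∀ i, φ (Fr.v i : Matrix ι ι F) * J = J * (Fr.v i : Matrix ι ι F) := by
    intro i
    have e := congrArg (· * (Fr.v i : Matrix ι ι F)) (hJ i)
    simp only [Matrix.mul_assoc, Fr.sq_mat, Matrix.mul_one] at e
    exact e
  have hd : ∀ i j : Fin 5, i ≠ j → φ (Fr.diff i j) * J * Fr.diff i j = (2 : F) • J := by
    intro i j hij
    have e : φ (Fr.diff i j) * J = J * Fr.diff i j := by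
      rw [Frame.diff, hsub, Matrix.sub_mul, Matrix.mul_sub, hself, hself]
    rw [e, Matrix.mul_assoc, Fr.diff_sq hij, Matrix.mul_smul, Matrix.mul_one]
  have e1 := hd 0 1 (by decide)
  have e2 := hd 1 2 (by decide)
  have e3 := hd 2 3 (by decide)
  have e4 := hd 3 4 (by decide)
  simp only [Matrix.mul_assoc] at e1 e2 e3 e4
  have push1 : ∀ {A B : Matrix ι ι F} {c : F}, A * (J * B) = c • J → ∀ T, A * (J * (B * T)) = c • (J * T) :=
    fun {A B c} h T => by rw [← Matrix.mul_assoc J, ← Matrix.mul_assoc A, h, Matrix.smul_mul]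
  rw [Frame.cyc, hmul, hmul, hmul]
  simp only [Matrix.mul_assoc, push1 e1, Matrix.mul_smul, push1 e2, push1 e3, e4, smul_smul]
  norm_num

end Cfsg.Agent.Symp4
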