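import Cfsg.Agent.Symp4.Shift
import Cfsg.Agent.Symp4.Five
import Cfsg.Agent.Classical.SympGroup

/-!
# The four-dimensional symplectic group: standard elements and conjugacy of involutions
-/

set_option autoImplicit false
set_option linter.unusedSectionVars false
set_option linter.style.haveILetI false

namespace Cfsg.Agent.Symp4

open Matrix Cfsg.Agent.Classical

variable {F : Type*} [Field F]

theorem mem_sp_iff (g : GL (Fin 2 ⊕ Fin 2) F) :
    g ∈ Cfsg.spGL 2 F ↔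
      (g : Matrix (Fin 2 ⊕ Fin 2) (Fin 2 ⊕ Fin 2) F)ᵀ * Matrix.J (Fin 2) F * g = Matrix.J (Fin 2) F := by
  rw [← SymplecticGroup.mem_iff', mem_symplectic_iff]
  constructor
  · intro h u v
    rw [sympB_apply, sympB_apply]
    exact h u v
  · intro h u v
    show Cfsg.sympForm 2 F (g.1 *ᵥ u) (g.1 *ᵥ v) = Cfsg.sympForm 2 F u v
    rw [← sympB_apply, ← sympB_apply]
    exact h u v

theorem sympB_val (u v : Fin 2 ⊕ Fin 2 → F) :
    sympB 2 F u v = u (Sum.inr 0) * v (Sum.inl 0) - u (Sum.inl 0) * v (Sum.inr 0) +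
      (u (Sum.inr 1) * v (Sum.inl 1) - u (Sum.inl 1) * v (Sum.inr 1)) := by
  rw [sympB_eq_sum, Fin.sum_univ_two]

/-- The embedding of a two-by-two matrix on the first hyperbolic pair. -/
def emb (a b c d : F) : Matrix (Fin 2 ⊕ Fin 2) (Fin 2 ⊕ Fin 2) F :=
  Matrix.fromBlocks (Matrix.diagonal ![a, 1]) (Matrix.diagonal ![b, 0]) (Matrix.diagonal ![c, 0])
    (Matrix.diagonal ![d, 1])

theorem emb_mul (a b c d a' b' c' d' : F) :
    emb a b c d * emb a' b' c' d' =
      emb (a * a' + b * c') (a * b' + b * d') (c * a' + d * c') (c * b' + d * d') := by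
  simp only [emb, Matrix.fromBlocks_multiply, Matrix.diagonal_mul_diagonal, Matrix.diagonal_add]
  congr <;> first
    | (funext i; fin_cases i <;> simp; done)
    | (ext i j; fin_cases i <;> fin_cases j <;> simp)

theorem emb_one : emb (1 : F) 0 0 1 = 1 := by
  rw [emb, ← Matrix.fromBlocks_one]
  congr <;> first
    | (funext i; fin_cases i <;> simp; done)
    | (ext i j; fin_cases i <;> fin_cases j <;> simp)

theorem emb_trace (a b c d : F) : (emb a b c d).trace = a + d + 2 := by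
  simp [emb, Matrix.trace, Fintype.sum_sum_type, Fin.sum_univ_two, Matrix.diagonal]
  ring

theorem emb_not_scalar {a b c d : F} (hb : b ≠ 0) (z : F) : emb a b c d ≠ z • 1 := fun h => by
  have := congrFun (congrFun h (Sum.inl 0)) (Sum.inr 0)
  simp [emb] at this
  exact hb this

theorem exists_emb {a b c d : F} (h : a * d - b * c = 1) :
    ∃ g : GL (Fin 2 ⊕ Fin 2) F, g ∈ Cfsg.spGL 2 F ∧
      (g : Matrix (Fin 2 ⊕ Fin 2) (Fin 2 ⊕ Fin 2) F) = emb a b c d ∧
      ((g⁻¹ : GL (Fin 2 ⊕ Fin 2) F) : Matrix (Fin 2 ⊕ Fin 2) (Fin 2 ⊕ Fin 2) F) = emb d (-b) (-c) a := by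
  have h1 : emb a b c d * emb d (-b) (-c) a = 1 := by
    rw [emb_mul, ← emb_one]
    congr 1 <;> first | ring1 | linear_combination h
  have h2 : emb d (-b) (-c) a * emb a b c d = 1 := by
    rw [emb_mul, ← emb_one]
    congr 1 <;> first | ring1 | linear_combination h
  refine ⟨⟨_, _, h1, h2⟩, (mem_sp_iff _).2 ?_, rfl, rfl⟩
  show (emb a b c d)ᵀ * Matrix.J (Fin 2) F * emb a b c d = Matrix.J (Fin 2) F
  rw [emb, Matrix.J, Matrix.fromBlocks_transpose, Matrix.diagonal_transpose, Matrix.diagonal_transpose,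
    Matrix.diagonal_transpose, Matrix.diagonal_transpose, Matrix.fromBlocks_multiply,
    Matrix.fromBlocks_multiply]
  simp only [Matrix.mul_zero, Matrix.mul_one, Matrix.mul_neg, add_zero, zero_add, Matrix.neg_mul,
    Matrix.diagonal_mul_diagonal]
  congr 1 <;>
    (ext i j; fin_cases i <;> fin_cases j <;> simp [Matrix.diagonal, Matrix.one_apply] <;>
      first | ring1 | linear_combination h | linear_combination -h)

/-- A transvection: rank one above the identity, of additive powers. -/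
theorem emb_transvection_rank : (emb (1 : F) 1 0 1 - (1 : F) • 1).rank ≤ 1 := by
  rw [one_smul, show emb (1 : F) 1 0 1 - 1 =
      Matrix.vecMulVec (Pi.single (Sum.inl 0) 1) (Pi.single (Sum.inr 0) 1) from by
    ext i j
    rcases i with i | i <;> rcases j with j | j <;> fin_cases i <;> fin_cases j <;>
      simp [emb, Matrix.vecMulVec_apply, Matrix.one_apply]]
  exact Matrix.rank_vecMulVec_le _ _

theorem emb_transvection_pow (n : ℕ) : emb (1 : F) 1 0 1 ^ n = emb 1 (n : F) 0 1 := by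
  induction n with
  | zero => rw [pow_zero, Nat.cast_zero, emb_one]
  | succ n ih =>
    rw [pow_succ, ih, emb_mul]
    congr 1 <;> push_cast <;> ring

theorem emb_pow_three : emb (0 : F) (-1) 1 (-1) ^ 3 = 1 := by
  rw [show 3 = 2 + 1 from rfl, pow_succ, pow_two, emb_mul, emb_mul, ← emb_one]
  congr 1 <;> ring

theorem emb_pow_five {t : F} (ht : t * t + t - 1 = 0) : emb (0 : F) (-1) 1 t ^ 5 = 1 := by
  rw [show 5 = 4 + 1 from rfl, pow_succ, show 4 = 2 + 2 from rfl, pow_add, pow_two, emb_mul, emb_mul,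
    emb_mul, ← emb_one]
  congr 1
  · linear_combination -(t - 1) * ht
  · linear_combination -(t * t - t - 1) * ht
  · linear_combination (t * t - t - 1) * ht
  · linear_combination (t * t * t - t * t - 2 * t + 1) * ht

/-- A matrix whose columns are two hyperbolic pairs is symplectic. -/
theorem exists_frame_matrix {u w : Fin 2 → (Fin 2 ⊕ Fin 2 → F)}
    (huu : sympB 2 F (u 0) (u 1) = 0) (hww : sympB 2 F (w 0) (w 1) = 0)
    (huw : ∀ i j, sympB 2 F (u i) (w j) = if i = j then 1 else 0) :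
    ∃ P : GL (Fin 2 ⊕ Fin 2) F, P ∈ Cfsg.spGL 2 F ∧
      ∀ k, (P : Matrix (Fin 2 ⊕ Fin 2) (Fin 2 ⊕ Fin 2) F).col k = Sum.elim w u k := by
  set M : Matrix (Fin 2 ⊕ Fin 2) (Fin 2 ⊕ Fin 2) F := Matrix.of fun i j => Sum.elim w u j i with hM
  have hB : ∀ x y : Fin 2 ⊕ Fin 2 → F, sympB 2 F x y = x ⬝ᵥ (Matrix.J (Fin 2) F *ᵥ y) := fun x y => by
    rw [sympB_apply]; rfl
  have hskew : ∀ x y, sympB 2 F x y = -sympB 2 F y x := fun x y => by
    rw [sympB_val, sympB_val]; ring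
  have hself : ∀ x, sympB 2 F x x = 0 := fun x => sympB_isAlt x
  have hmem : Mᵀ * Matrix.J (Fin 2) F * M = Matrix.J (Fin 2) F := by
    ext i j
    have e : (Mᵀ * Matrix.J (Fin 2) F * M) i j = sympB 2 F (Sum.elim w u i) (Sum.elim w u j) := by
      rw [hB, Matrix.mul_assoc]
      rfl
    rw [e]
    have h01 : (0 : Fin 2) ≠ 1 := by decide
    rcases i with i | i <;> rcases j with j | j <;> fin_cases i <;> fin_cases j <;>
      simp [Matrix.J, hself, huu, hww, huw, hskew (u 1) (u 0), hskew (w 1) (w 0), hskew (w _) (u _),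
        Matrix.one_apply, h01, h01.symm]
  have hu : IsUnit M := (Matrix.isUnit_iff_isUnit_det _).2
    (SymplecticGroup.symplectic_det (SymplecticGroup.mem_iff'.2 hmem))
  obtain ⟨P, hP⟩ := hu
  exact ⟨P, (mem_sp_iff P).2 (hP.symm ▸ hmem), fun k => by rw [hP]; rfl⟩

/-- Involutions of the symplectic group are conjugate to one another. -/
theorem sq_one_conj (h2 : (2 : F) ≠ 0) {x y : GL (Fin 2 ⊕ Fin 2) F} (hx : x ∈ Cfsg.spGL 2 F)
    (hy : y ∈ Cfsg.spGL 2 F) (hx2 : x * x = 1) (hy2 : y * y = 1)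
    (hxs : ∀ z : F, (x : Matrix (Fin 2 ⊕ Fin 2) (Fin 2 ⊕ Fin 2) F) ≠ z • 1)
    (hys : ∀ z : F, (y : Matrix (Fin 2 ⊕ Fin 2) (Fin 2 ⊕ Fin 2) F) ≠ z • 1) :
    ∃ g ∈ Cfsg.spGL 2 F, g⁻¹ * x * g = y := by
  let D : Matrix (Fin 2 ⊕ Fin 2) (Fin 2 ⊕ Fin 2) F := Matrix.diagonal (Sum.elim ![1, -1] ![1, -1])
  have key : ∀ z : GL (Fin 2 ⊕ Fin 2) F, z ∈ Cfsg.spGL 2 F → z * z = 1 →
      (∀ c : F, (z : Matrix (Fin 2 ⊕ Fin 2) (Fin 2 ⊕ Fin 2) F) ≠ c • 1) →
      ∃ P ∈ Cfsg.spGL 2 F, (z : Matrix (Fin 2 ⊕ Fin 2) (Fin 2 ⊕ Fin 2) F) * P =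
        (P : Matrix (Fin 2 ⊕ Fin 2) (Fin 2 ⊕ Fin 2) F) * D := by
    intro z hz hz2 hzs
    set A := (z : Matrix (Fin 2 ⊕ Fin 2) (Fin 2 ⊕ Fin 2) F) with hA
    have hAA : ∀ v, A *ᵥ (A *ᵥ v) = v := fun v => by
      rw [Matrix.mulVec_mulVec, hA, ← Units.val_mul, hz2, Units.val_one, Matrix.one_mulVec]
    have hpres : ∀ a b, sympB 2 F (A *ᵥ a) (A *ᵥ b) = sympB 2 F a b := fun a b => by
      rw [sympB_apply, sympB_apply]; exact hz a b
    have pair : ∀ s : F, s = 1 ∨ s = -1 → ∃ a b, A *ᵥ a = s • a ∧ A *ᵥ b = s • b ∧ sympB 2 F a b = 1 := by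
      intro s hs
      have hss : s * s = 1 := by rcases hs with rfl | rfl <;> norm_num
      obtain ⟨v, hv⟩ : ∃ v, v + s • (A *ᵥ v) ≠ 0 := by
        by_contra hcon
        push Not at hcon
        refine hzs (-s) (Matrix.ext_iff_mulVec.2 fun v => ?_)
        rw [Matrix.smul_mulVec, Matrix.one_mulVec]
        have := congrArg (s • ·) (hcon v)
        simp only [smul_add, smul_smul, hss, one_smul, smul_zero] at this
        rw [neg_smul]
        exact eq_neg_of_add_eq_zero_right this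
      set a := v + s • (A *ᵥ v) with ha
      have hAa : A *ᵥ a = s • a := by
        rw [ha, Matrix.mulVec_add, Matrix.mulVec_smul, hAA, smul_add, smul_smul, hss, one_smul, add_comm]
      obtain ⟨q, hq⟩ : ∃ q, sympB 2 F a q ≠ 0 := by
        by_contra hcon
        push Not at hcon
        exact hv (sympB_nondeg.1 a hcon)
      set b₀ := q + s • (A *ᵥ q) with hb
      have hAb : A *ᵥ b₀ = s • b₀ := by
        rw [hb, Matrix.mulVec_add, Matrix.mulVec_smul, hAA, smul_add, smul_smul, hss, one_smul, add_comm]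
      have hab : sympB 2 F a b₀ = 2 * sympB 2 F a q := by
        have e := hpres a q
        rw [hAa, map_smul, LinearMap.smul_apply, smul_eq_mul] at e
        rw [hb, map_add, map_smul, smul_eq_mul, e]
        ring
      refine ⟨a, (sympB 2 F a b₀)⁻¹ • b₀, hAa, by rw [Matrix.mulVec_smul, hAb, smul_comm], ?_⟩
      rw [map_smul, smul_eq_mul, inv_mul_cancel₀ (by rw [hab]; exact mul_ne_zero h2 hq)]
    obtain ⟨a, b, hAa, hAb, hab⟩ := pair 1 (Or.inl rfl)
    obtain ⟨c, d, hAc, hAd, hcd⟩ := pair (-1) (Or.inr rfl)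
    have horth : ∀ p q, A *ᵥ p = (1 : F) • p → A *ᵥ q = (-1 : F) • q →
        sympB 2 F p q = 0 ∧ sympB 2 F q p = 0 := by
      intro p q hp hq
      have e := hpres p q
      have e' := hpres q p
      rw [hp, hq, one_smul, neg_one_smul, map_neg] at e
      rw [hp, hq, one_smul, neg_one_smul, map_neg, LinearMap.neg_apply] at e'
      exact ⟨(mul_eq_zero.1 (show (2 : F) * sympB 2 F p q = 0 by linear_combination -e)).resolve_left h2,
        (mul_eq_zero.1 (show (2 : F) * sympB 2 F q p = 0 by linear_combination -e')).resolve_left h2⟩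
    obtain ⟨P, hP, hcol⟩ := exists_frame_matrix (u := ![a, c]) (w := ![b, d])
      (by simpa using (horth a c hAa hAc).1) (by simpa using (horth b d hAb hAd).1)
      (fun i j => by
        fin_cases i <;> fin_cases j <;>
          simp [hab, hcd, (horth a d hAa hAd).1, (horth b c hAb hAc).2])
    refine ⟨P, hP, ?_⟩
    ext i j
    have e : (A * (P : Matrix (Fin 2 ⊕ Fin 2) (Fin 2 ⊕ Fin 2) F)) i j =
        (A *ᵥ (P : Matrix (Fin 2 ⊕ Fin 2) (Fin 2 ⊕ Fin 2) F).col j) i := rfl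
    have e' : (P : Matrix (Fin 2 ⊕ Fin 2) (Fin 2 ⊕ Fin 2) F) i j =
        (P : Matrix (Fin 2 ⊕ Fin 2) (Fin 2 ⊕ Fin 2) F).col j i := rfl
    rw [e, Matrix.mul_diagonal, e', hcol]
    rcases j with j | j <;> fin_cases j <;> simp [hAa, hAb, hAc, hAd]
  obtain ⟨P, hP, hPx⟩ := key x hx hx2 hxs
  obtain ⟨Q, hQ, hQy⟩ := key y hy hy2 hys
  refine ⟨P * Q⁻¹, mul_mem hP (inv_mem hQ), ?_⟩
  have e : x * (P * Q⁻¹) = P * Q⁻¹ * y := by
    have e1 : P⁻¹ * x * P = Q⁻¹ * y * Q := by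
      apply Units.ext
      simp only [Units.val_mul, Matrix.mul_assoc, hPx, hQy]
      rw [← Matrix.mul_assoc, ← Matrix.mul_assoc ((Q⁻¹ : GL (Fin 2 ⊕ Fin 2) F) : Matrix (Fin 2 ⊕ Fin 2) (Fin 2 ⊕ Fin 2) F),
        ← Units.val_mul P⁻¹ P, ← Units.val_mul Q⁻¹ Q, inv_mul_cancel, inv_mul_cancel, Units.val_one,
        Matrix.one_mul]
    calc x * (P * Q⁻¹) = P * (P⁻¹ * x * P) * Q⁻¹ := by group
      _ = P * Q⁻¹ * y := by rw [e1]; group
  rw [mul_assoc, e, ← mul_assoc, inv_mul_cancel, one_mul]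

theorem exists_sq_add_sq [Fintype F] (h2 : (2 : F) ≠ 0) (c : F) : ∃ a b : F, a ^ 2 + b ^ 2 = c := by
  have hodd : Fintype.card F % 2 = 1 :=
    FiniteField.odd_card_of_char_ne_two fun h => by
      haveI := ringChar.charP F
      exact h2 (by
        have := CharP.cast_eq_zero F (ringChar F)
        rw [h] at this
        exact_mod_cast this)
  obtain ⟨a, b, hab⟩ := FiniteField.exists_root_sum_quadratic (f := (Polynomial.X : Polynomial F) ^ 2)
    (g := Polynomial.X ^ 2 - Polynomial.C c) (Polynomial.degree_X_pow 2)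
    (Polynomial.degree_X_pow_sub_C two_pos _) hodd
  refine ⟨a, b, ?_⟩
  simp at hab
  linear_combination hab

/-- Elements of square minus one of the symplectic group are conjugate to one another. -/
theorem sq_neg_one_conj [Fintype F] (h2 : (2 : F) ≠ 0) {x y : GL (Fin 2 ⊕ Fin 2) F}
    (hx : x ∈ Cfsg.spGL 2 F) (hy : y ∈ Cfsg.spGL 2 F) (hx2 : x * x = -1) (hy2 : y * y = -1) :
    ∃ g ∈ Cfsg.spGL 2 F, g⁻¹ * x * g = y := by
  have key : ∀ z : GL (Fin 2 ⊕ Fin 2) F, z ∈ Cfsg.spGL 2 F → z * z = -1 →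
      ∃ P ∈ Cfsg.spGL 2 F, (z : Matrix (Fin 2 ⊕ Fin 2) (Fin 2 ⊕ Fin 2) F) *
          ((P : GL (Fin 2 ⊕ Fin 2) F) : Matrix (Fin 2 ⊕ Fin 2) (Fin 2 ⊕ Fin 2) F) =
        (P : Matrix (Fin 2 ⊕ Fin 2) (Fin 2 ⊕ Fin 2) F) * Matrix.fromBlocks 0 1 (-1) 0 := by
    intro z hz hz2
    set A := (z : Matrix (Fin 2 ⊕ Fin 2) (Fin 2 ⊕ Fin 2) F) with hA
    have hAA : ∀ v, A *ᵥ (A *ᵥ v) = -v := fun v => by
      rw [Matrix.mulVec_mulVec, hA, ← Units.val_mul, hz2, Units.val_neg, Units.val_one, Matrix.neg_mulVec,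
        Matrix.one_mulVec]
    have hpres : ∀ a b, sympB 2 F (A *ᵥ a) (A *ᵥ b) = sympB 2 F a b := fun a b => by
      rw [sympB_apply, sympB_apply]; exact hz a b
    have hskew : ∀ a b, sympB 2 F a b = -sympB 2 F b a := fun a b => by rw [sympB_val, sympB_val]; ring
    have hsym : ∀ a b, sympB 2 F a (A *ᵥ b) = sympB 2 F b (A *ᵥ a) := fun a b => by
      rw [← hpres a, hAA, map_neg, hskew (A *ᵥ a), neg_neg]
    let C : (Fin 2 ⊕ Fin 2 → F) → (Fin 2 ⊕ Fin 2 → F) → F := fun a b => sympB 2 F a (A *ᵥ b)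
    have hCval : ∀ a, C a a = sympB 2 F a (A *ᵥ a) := fun a => rfl
    -- a vector of norm one in an invariant set
    have unit : ∀ S : Submodule F (Fin 2 ⊕ Fin 2 → F), (∀ v ∈ S, A *ᵥ v ∈ S) →
        (∃ v ∈ S, ∃ q ∈ S, sympB 2 F v q ≠ 0) → ∃ a ∈ S, sympB 2 F a (A *ᵥ a) = 1 := by
      intro S hS ⟨v, hv, q, hq, hvq⟩
      obtain ⟨a, ha, hane⟩ : ∃ a ∈ S, sympB 2 F a (A *ᵥ a) ≠ 0 := by
        by_contra hcon
        push Not at hcon
        have h1 := hcon (v + A *ᵥ q) (S.add_mem hv (hS q hq))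
        have e1 := hcon v hv
        have e2 := hcon (A *ᵥ q) (hS q hq)
        rw [hAA, map_neg] at e2
        simp only [Matrix.mulVec_add, hAA, map_add, map_neg, LinearMap.add_apply, e1] at h1
        rw [hpres q v, hskew q v] at h1
        apply hvq
        refine (mul_eq_zero.1 (show (2 : F) * sympB 2 F v q = 0 by linear_combination -h1 + e2)).resolve_left h2
      set c := sympB 2 F a (A *ᵥ a) with hc
      obtain ⟨α, β, hαβ⟩ := exists_sq_add_sq h2 c⁻¹
      refine ⟨α • a + β • (A *ᵥ a), S.add_mem (S.smul_mem _ ha) (S.smul_mem _ (hS a ha)), ?_⟩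
      simp only [Matrix.mulVec_add, Matrix.mulVec_smul, hAA, map_add, map_smul, map_neg,
        LinearMap.add_apply, LinearMap.smul_apply, smul_eq_mul,
        show sympB 2 F a a = 0 from sympB_isAlt a, show sympB 2 F (A *ᵥ a) (A *ᵥ a) = 0 from sympB_isAlt _,
        hskew (A *ᵥ a) a, ← hc]
      linear_combination c * hαβ + mul_inv_cancel₀ hane
    obtain ⟨a, -, ha⟩ := unit ⊤ (fun _ _ => Submodule.mem_top) (by
      obtain ⟨q, hq⟩ : ∃ q, sympB 2 F (Pi.single (Sum.inl 0) 1) q ≠ 0 :=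
        ⟨Pi.single (Sum.inr 0) 1, by simp [sympB_val]⟩
      exact ⟨_, Submodule.mem_top, q, Submodule.mem_top, hq⟩)
    let S : Submodule F (Fin 2 ⊕ Fin 2 → F) :=
      LinearMap.ker (sympB 2 F a) ⊓ LinearMap.ker (sympB 2 F (A *ᵥ a))
    have hS : ∀ v, v ∈ S ↔ sympB 2 F a v = 0 ∧ sympB 2 F (A *ᵥ a) v = 0 := fun v => Iff.rfl
    let proj : (Fin 2 ⊕ Fin 2 → F) → (Fin 2 ⊕ Fin 2 → F) := fun v =>
      v - sympB 2 F a v • (A *ᵥ a) + sympB 2 F (A *ᵥ a) v • a
    have hproj : ∀ v, proj v ∈ S := fun v => by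
      rw [hS]
      simp only [proj, map_add, map_sub, map_smul, smul_eq_mul, ha, hskew (A *ᵥ a) a,
        show sympB 2 F a a = 0 from sympB_isAlt a,
        show sympB 2 F (A *ᵥ a) (A *ᵥ a) = 0 from sympB_isAlt _]
      exact ⟨by ring, by ring⟩
    obtain ⟨b, hb, hb1⟩ := unit S (fun v hv => by
        rw [hS] at hv ⊢
        refine ⟨?_, by rw [hpres]; exact hv.1⟩
        rw [← hpres a, hAA, map_neg, hv.2, neg_zero]) (by
      by_contra hcon
      push Not at hcon
      have hzero : ∀ v ∈ S, v = 0 := fun v hv => sympB_nondeg.1 v fun q => by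
        have hv' := (hS v).1 hv
        have e := hcon v hv (proj q) (hproj q)
        simp only [proj, map_add, map_sub, map_smul, smul_eq_mul, hskew v a, hv'.1, hskew v (A *ᵥ a),
          hv'.2] at e
        linear_combination e
      have hle : (⊤ : Submodule F (Fin 2 ⊕ Fin 2 → F)) ≤ Submodule.span F ({a, A *ᵥ a} : Set _) := fun v _ => by
        have e := hzero _ (hproj v)
        simp only [proj] at e
        rw [show v = sympB 2 F a v • (A *ᵥ a) - sympB 2 F (A *ᵥ a) v • a by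
          rw [← sub_eq_zero]; rw [← e]; abel]
        exact Submodule.sub_mem _ (Submodule.smul_mem _ _ (Submodule.subset_span (by simp)))
          (Submodule.smul_mem _ _ (Submodule.subset_span (by simp)))
      have h4 := Submodule.finrank_mono hle
      rw [finrank_top, Module.finrank_pi] at h4
      classical
      have hle2 := finrank_span_finset_le_card (R := F) ({a, A *ᵥ a} : Finset (Fin 2 ⊕ Fin 2 → F))
      rw [Finset.coe_pair, Set.finrank] at hle2
      have h2' := Finset.card_le_two (a := a) (b := A *ᵥ a)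
      simp only [Fintype.card_sum, Fintype.card_fin] at h4
      omega)
    rw [hS] at hb
    obtain ⟨P, hP, hcol⟩ := exists_frame_matrix (u := ![a, b]) (w := ![A *ᵥ a, A *ᵥ b])
      (by simpa using hb.1) (by simp [hpres, hb.1]) (fun i j => by
        fin_cases i <;> fin_cases j
        · simpa using ha
        · simpa [hsym a b, hskew b] using hb.2
        · simpa [hskew b] using hb.2
        · simpa using hb1)
    refine ⟨P, hP, ?_⟩
    ext i j
    have e : (A * (P : Matrix (Fin 2 ⊕ Fin 2) (Fin 2 ⊕ Fin 2) F)) i j =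
        (A *ᵥ (P : Matrix (Fin 2 ⊕ Fin 2) (Fin 2 ⊕ Fin 2) F).col j) i := rfl
    have e' : ∀ k, (P : Matrix (Fin 2 ⊕ Fin 2) (Fin 2 ⊕ Fin 2) F) i k =
        (P : Matrix (Fin 2 ⊕ Fin 2) (Fin 2 ⊕ Fin 2) F).col k i := fun k => rfl
    rw [e, Matrix.mul_apply, hcol]
    simp only [e', hcol, Fintype.sum_sum_type, Fin.sum_univ_two]
    rcases j with j | j <;> fin_cases j <;> simp [hAA, Matrix.one_apply]
  obtain ⟨P, hP, hPx⟩ := key x hx hx2
  obtain ⟨Q, hQ, hQy⟩ := key y hy hy2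
  refine ⟨P * Q⁻¹, mul_mem hP (inv_mem hQ), ?_⟩
  have e : x * (P * Q⁻¹) = P * Q⁻¹ * y := by
    have e1 : P⁻¹ * x * P = Q⁻¹ * y * Q := by
      apply Units.ext
      simp only [Units.val_mul, Matrix.mul_assoc, hPx, hQy]
      rw [← Matrix.mul_assoc, ← Matrix.mul_assoc ((Q⁻¹ : GL (Fin 2 ⊕ Fin 2) F) : Matrix (Fin 2 ⊕ Fin 2) (Fin 2 ⊕ Fin 2) F),
        ← Units.val_mul P⁻¹ P, ← Units.val_mul Q⁻¹ Q, inv_mul_cancel, inv_mul_cancel, Units.val_one,
        Matrix.one_mul]
    calc x * (P * Q⁻¹) = P * (P⁻¹ * x * P) * Q⁻¹ := by group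
      _ = P * Q⁻¹ * y := by rw [e1]; group
  rw [mul_assoc, e, ← mul_assoc, inv_mul_cancel, one_mul]

end Cfsg.Agent.Symp4
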