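import Cfsg.Agent.Symp4.Negative
import Cfsg.Agent.Symp4.Involution

/-!
# Elements of order three of the linear group when there are no cube roots of unity
-/

set_option autoImplicit false
set_option linter.unusedSectionVars false
set_option linter.style.haveILetI false

namespace Cfsg.Agent.Symp4

open Matrix

variable {F : Type*} [Field F]

local notation "M4" => Matrix (Fin 4) (Fin 4) F
local notation "G4" => GL (Fin 4) F

/-- The normal form without fixed vectors. -/
def threeA : M4 := !![0, -1, 0, 0; 1, -1, 0, 0; 0, 0, 0, -1; 0, 0, 1, -1]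

/-- A vector and its image are independent of an invariant span not containing it. -/
theorem pair_notMem (hno : ∀ w : F, w * w + w + 1 ≠ 0) {A : M4} (W : Submodule F (Fin 4 → F))
    (hW : ∀ u ∈ W, A *ᵥ u ∈ W) {u : Fin 4 → F} (hu : A *ᵥ (A *ᵥ u) + A *ᵥ u + u = 0) (huW : u ∉ W)
    {a b : F} (hab : a • u + b • (A *ᵥ u) ∈ W) : a = 0 ∧ b = 0 := by
  by_contra hne
  have hn : a * a - a * b + b * b ≠ 0 := by
    intro h0
    by_cases hb : b = 0
    · subst hb
      exact hne ⟨mul_self_eq_zero.1 (by linear_combination h0), rfl⟩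
    · refine hno (-a / b) ?_
      field_simp
      linear_combination h0
  apply huW
  have e : (a * a - a * b + b * b) • u =
      (a - b) • (a • u + b • (A *ᵥ u)) - b • (A *ᵥ (a • u + b • (A *ᵥ u))) := by
    rw [Matrix.mulVec_add, Matrix.mulVec_smul, Matrix.mulVec_smul,
      show A *ᵥ (A *ᵥ u) = -(A *ᵥ u) - u by rw [← sub_eq_zero, ← hu]; abel]
    module
  have h1 : (a * a - a * b + b * b) • u ∈ W :=
    e ▸ W.sub_mem (W.smul_mem _ hab) (W.smul_mem _ (hW _ hab))
  have h2 := W.smul_mem (a * a - a * b + b * b)⁻¹ h1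
  rwa [smul_smul, inv_mul_cancel₀ hn, one_smul] at h2

theorem pair_independent (hno : ∀ w : F, w * w + w + 1 ≠ 0) {A : M4} {u v : Fin 4 → F}
    (hu : A *ᵥ (A *ᵥ u) + A *ᵥ u + u = 0) (hu0 : u ≠ 0) (hv : A *ᵥ (A *ᵥ v) + A *ᵥ v + v = 0)
    (hvu : v ∉ Submodule.span F ({u, A *ᵥ u} : Set (Fin 4 → F))) :
    LinearIndependent F ![u, A *ᵥ u, v, A *ᵥ v] := by
  have hinv : ∀ z ∈ Submodule.span F ({u, A *ᵥ u} : Set (Fin 4 → F)),
      A *ᵥ z ∈ Submodule.span F ({u, A *ᵥ u} : Set (Fin 4 → F)) := by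
    intro z hz
    obtain ⟨a, b, rfl⟩ := Submodule.mem_span_pair.1 hz
    rw [Matrix.mulVec_add, Matrix.mulVec_smul, Matrix.mulVec_smul,
      show A *ᵥ (A *ᵥ u) = -(A *ᵥ u) - u by rw [← sub_eq_zero, ← hu]; abel]
    exact Submodule.mem_span_pair.2 ⟨-b, a - b, by module⟩
  rw [Fintype.linearIndependent_iff]
  intro g hg
  simp [Fin.sum_univ_four] at hg
  obtain ⟨h2, h3⟩ := pair_notMem hno _ hinv hv hvu (a := g 2) (b := g 3)
    (Submodule.mem_span_pair.2 ⟨-g 0, -g 1, by
      rw [← sub_eq_zero, ← neg_eq_zero, ← hg]; module⟩)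
  rw [h2, h3, zero_smul, zero_smul, add_zero, add_zero] at hg
  obtain ⟨h0, h1⟩ := pair_notMem hno (⊥ : Submodule F (Fin 4 → F))
    (fun z hz => by rw [(Submodule.mem_bot F).1 hz, Matrix.mulVec_zero]; exact Submodule.zero_mem _) hu
    (fun h => hu0 ((Submodule.mem_bot F).1 h)) (a := g 0) (b := g 1) ((Submodule.mem_bot F).2 hg)
  intro i
  fin_cases i <;> assumption

theorem unit_of_indep {a : Fin 4 → Fin 4 → F} (h : LinearIndependent F a) :
    ∃ P : G4, ∀ j, (P : M4).col j = a j := by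
  have hu : IsUnit ((Matrix.of a)ᵀ) := by
    rw [← Matrix.linearIndependent_cols_iff_isUnit]
    exact h
  exact ⟨hu.unit, fun j => by rw [hu.unit_spec]; rfl⟩

theorem exists_norm_form [Fintype F] (h2 : (2 : F) ≠ 0) (h3 : (3 : F) ≠ 0) (c : F) :
    ∃ a b : F, a * a - a * b + b * b = c := by
  have hodd : Fintype.card F % 2 = 1 :=
    FiniteField.odd_card_of_char_ne_two fun h => by
      haveI := ringChar.charP F
      exact h2 (by
        have := CharP.cast_eq_zero F (ringChar F)
        rw [h] at this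
        exact_mod_cast this)
  obtain ⟨r, s, hrs⟩ := FiniteField.exists_root_sum_quadratic (f := (Polynomial.X : Polynomial F) ^ 2)
    (g := Polynomial.C 3 * Polynomial.X ^ 2 - Polynomial.C (4 * c)) (Polynomial.degree_X_pow 2)
    (by
      rw [Polynomial.degree_sub_C (by rw [Polynomial.degree_C_mul_X_pow 2 h3]; decide)]
      exact Polynomial.degree_C_mul_X_pow 2 h3) hodd
  simp at hrs
  refine ⟨(r + s) / 2, s, ?_⟩
  field_simp
  linear_combination hrs

theorem frame_mul {x P M : G4} {D : M4} (hx : (x : M4) * (P : M4) = (P : M4) * D)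
    (hM : (M : M4) * D = D * (M : M4)) : (x : M4) * ((P * M : G4) : M4) = ((P * M : G4) : M4) * D := by
  rw [Units.val_mul, ← Matrix.mul_assoc, hx, Matrix.mul_assoc, ← hM, Matrix.mul_assoc]

/-- The normal forms of elements of order three. -/
theorem three_normal [Fintype F] (h2 : (2 : F) ≠ 0) (h3 : (3 : F) ≠ 0) (hno : ∀ w : F, w * w + w + 1 ≠ 0) {x : G4}
    (hx : x ^ 3 = 1) (hx1 : x ≠ 1) :
    ∃ P : G4, (P : M4).det = 1 ∧
      (((x : M4) * x + x + 1 = 0 ∧ (x : M4) * (P : M4) = (P : M4) * threeA) ∨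
        ((x : M4) * x + x + 1 ≠ 0 ∧ (x : M4) * (P : M4) = (P : M4) * blk 0 (-1) 1 (-1))) := by
  classical
  set A := (x : M4) with hA
  have hA3 : A * A * A = 1 := by
    rw [hA, ← Units.val_mul, ← Units.val_mul, ← Units.val_one, ← hx, pow_succ, pow_two]
  have h3v : ∀ v, A *ᵥ (A *ᵥ (A *ᵥ v)) = v := fun v => by
    rw [Matrix.mulVec_mulVec, Matrix.mulVec_mulVec, hA3, Matrix.one_mulVec]
  have hmov : ∀ v, A *ᵥ (A *ᵥ (A *ᵥ v - v)) + A *ᵥ (A *ᵥ v - v) + (A *ᵥ v - v) = 0 := fun v => by
    simp only [Matrix.mulVec_sub, h3v]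
    abel
  obtain ⟨v0, hv0⟩ : ∃ v, A *ᵥ v - v ≠ 0 := by
    by_contra hcon
    push Not at hcon
    exact hx1 (Units.ext (Matrix.ext_iff_mulVec.2 fun v => by
      rw [Units.val_one, Matrix.one_mulVec]; exact sub_eq_zero.1 (hcon v)))
  obtain ⟨u, hu, hu0⟩ : ∃ u, A *ᵥ (A *ᵥ u) + A *ᵥ u + u = 0 ∧ u ≠ 0 := ⟨_, hmov v0, hv0⟩
  have hdet : ∀ {P : G4}, (P : M4).det ≠ 0 := fun {P} => (Matrix.GeneralLinearGroup.det P).ne_zero
  have hAu : A *ᵥ (A *ᵥ u) = -(A *ᵥ u) - u := by rw [← sub_eq_zero, ← hu]; abel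
  set W := Submodule.span F ({u, A *ᵥ u} : Set (Fin 4 → F)) with hW
  by_cases h0 : A * A + A + 1 = 0
  · have hall : ∀ v, A *ᵥ (A *ᵥ v) + A *ᵥ v + v = 0 := fun v => by
      have e := congrArg (· *ᵥ v) h0
      simpa [Matrix.add_mulVec, Matrix.mulVec_mulVec] using e
    obtain ⟨v, hv⟩ : ∃ v, v ∉ W := by
      by_contra hcon
      push Not at hcon
      have h4 := Submodule.finrank_mono (show (⊤ : Submodule F (Fin 4 → F)) ≤ W from fun v _ => hcon v)
      rw [finrank_top, Module.finrank_pi, Fintype.card_fin] at h4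
      have hle2 := finrank_span_finset_le_card (R := F) ({u, A *ᵥ u} : Finset (Fin 4 → F))
      rw [Finset.coe_pair, Set.finrank, ← hW] at hle2
      have h2' := Finset.card_le_two (a := u) (b := A *ᵥ u)
      omega
    obtain ⟨P, hP⟩ := unit_of_indep (pair_independent hno hu hu0 (hall v) hv)
    obtain ⟨a, b, hab⟩ := exists_norm_form h2 h3 ((P : M4).det)⁻¹
    have hM0 : (blk a (-b) b (a - b)).det ≠ 0 := by
      rw [blk_det, show a * (a - b) - -b * b = a * a - a * b + b * b by ring, hab]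
      exact inv_ne_zero hdet
    let M : G4 := Matrix.GeneralLinearGroup.mkOfDetNeZero _ hM0
    have hxP : A * (P : M4) = (P : M4) * threeA := by
      ext i j
      have e : (A * (P : M4)) i j = (A *ᵥ (P : M4).col j) i := rfl
      have e' : ∀ k, (P : M4) i k = (P : M4).col k i := fun k => rfl
      rw [e, Matrix.mul_apply, hP]
      simp only [e', hP, Fin.sum_univ_four]
      fin_cases j <;> simp [threeA, show A *ᵥ (A *ᵥ v) = -(A *ᵥ v) - v by rw [← sub_eq_zero, ← hall v]; abel,
        hAu] <;> ring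
    refine ⟨P * M, ?_, Or.inl ⟨h0, frame_mul hxP ?_⟩⟩
    · rw [Units.val_mul, Matrix.det_mul]
      show _ * (blk a (-b) b (a - b)).det = 1
      rw [blk_det, show a * (a - b) - -b * b = a * a - a * b + b * b by ring, hab, mul_inv_cancel₀ hdet]
    · show blk a (-b) b (a - b) * threeA = threeA * blk a (-b) b (a - b)
      ext i j
      fin_cases i <;> fin_cases j <;> simp [threeA, blk, Matrix.mul_apply, Fin.sum_univ_four] <;> ring
  · set E : Submodule F (Fin 4 → F) := LinearMap.ker (Matrix.toLin' (A - 1)) with hE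
    have hEmem : ∀ v, v ∈ E ↔ A *ᵥ v = v := fun v => by
      rw [hE, LinearMap.mem_ker, Matrix.toLin'_apply, Matrix.sub_mulVec, Matrix.one_mulVec, sub_eq_zero]
    have hmovW : ∀ m, A *ᵥ (A *ᵥ m) + A *ᵥ m + m = 0 → m ∈ W := by
      intro m hm
      by_contra hmW
      obtain ⟨P, hP⟩ := unit_of_indep (pair_independent hno hu hu0 hm hmW)
      apply h0
      have e : (A * A + A + 1) * (P : M4) = 0 := by
        ext i j
        have e1 : ((A * A + A + 1) * (P : M4)) i j = ((A * A + A + 1) *ᵥ (P : M4).col j) i := rfl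
        rw [e1, hP, Matrix.add_mulVec, Matrix.add_mulVec, Matrix.one_mulVec, ← Matrix.mulVec_mulVec]
        fin_cases j
        · show (A *ᵥ (A *ᵥ u) + A *ᵥ u + u) i = 0
          rw [hu]
          rfl
        · show (A *ᵥ (A *ᵥ (A *ᵥ u)) + A *ᵥ (A *ᵥ u) + A *ᵥ u) i = 0
          rw [← Matrix.mulVec_add, ← Matrix.mulVec_add, hu, Matrix.mulVec_zero]
          rfl
        · show (A *ᵥ (A *ᵥ m) + A *ᵥ m + m) i = 0
          rw [hm]
          rfl
        · show (A *ᵥ (A *ᵥ (A *ᵥ m)) + A *ᵥ (A *ᵥ m) + A *ᵥ m) i = 0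
          rw [← Matrix.mulVec_add, ← Matrix.mulVec_add, hm, Matrix.mulVec_zero]
          rfl
      have e2 := congrArg (· * ((P⁻¹ : G4) : M4)) e
      simpa only [Matrix.mul_assoc, ← Units.val_mul, mul_inv_cancel, Units.val_one, Matrix.mul_one,
        Matrix.zero_mul] using e2
    have hsup : W ⊔ E = ⊤ := by
      rw [eq_top_iff]
      intro v _
      set f := (3 : F)⁻¹ • (v + A *ᵥ v + A *ᵥ (A *ᵥ v)) with hf
      have hfE : f ∈ E := (hEmem f).2 (by
        rw [hf, Matrix.mulVec_smul, Matrix.mulVec_add, Matrix.mulVec_add, h3v]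
        congr 1
        abel)
      have hm : v - f ∈ W := hmovW _ (by
        have e1 := (hEmem f).1 hfE
        rw [Matrix.mulVec_sub, Matrix.mulVec_sub, e1, e1]
        have e3 : f + f + f = v + A *ᵥ v + A *ᵥ (A *ᵥ v) := by
          rw [hf, ← add_smul, ← add_smul, show (3 : F)⁻¹ + 3⁻¹ + 3⁻¹ = 3 * 3⁻¹ by ring, mul_inv_cancel₀ h3,
            one_smul]
        linear_combination (norm := module) (-1 : F) • e3)
      rw [show v = (v - f) + f by abel]
      exact Submodule.add_mem_sup hm hfE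
    have hdisj : W ⊓ E = ⊥ := by
      rw [eq_bot_iff]
      intro m hm
      obtain ⟨hmW, hmE⟩ := Submodule.mem_inf.1 hm
      obtain ⟨a, b, rfl⟩ := Submodule.mem_span_pair.1 hmW
      have e := (hEmem _).1 hmE
      rw [Matrix.mulVec_add, Matrix.mulVec_smul, Matrix.mulVec_smul, hAu] at e
      obtain ⟨e1, e2⟩ := pair_notMem hno (⊥ : Submodule F (Fin 4 → F))
        (fun z hz => by rw [(Submodule.mem_bot F).1 hz, Matrix.mulVec_zero]; exact Submodule.zero_mem _) hu
        (fun hb => hu0 ((Submodule.mem_bot F).1 hb)) (a := -a - b) (b := a - 2 * b)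
        ((Submodule.mem_bot F).2 (by linear_combination (norm := module) e))
      have hb : b = 0 := (mul_eq_zero.1 (show (3 : F) * b = 0 by linear_combination -e1 - e2)).resolve_left h3
      have ha : a = 0 := by linear_combination -e1 - hb
      simp [ha, hb]
    have hWd : Module.finrank F W = 2 := by
      have hli : LinearIndependent F ![u, A *ᵥ u] := by
        rw [LinearIndependent.pair_iff]
        intro a b hab
        exact pair_notMem hno (⊥ : Submodule F (Fin 4 → F))
          (fun z hz => by rw [(Submodule.mem_bot F).1 hz, Matrix.mulVec_zero]; exact Submodule.zero_mem _) hu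
          (fun hb => hu0 ((Submodule.mem_bot F).1 hb)) ((Submodule.mem_bot F).2 hab)
      have e := finrank_span_eq_card hli
      rw [Matrix.range_cons, Matrix.range_cons, Matrix.range_empty, Set.union_empty,
        Set.singleton_union] at e
      rw [hW, e, Fintype.card_fin]
    have hEd : Module.finrank F E = 2 := by
      have e := Submodule.finrank_sup_add_finrank_inf_eq W E
      rw [hsup, hdisj, finrank_top, finrank_bot, Module.finrank_pi, Fintype.card_fin, hWd] at e
      omega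
    let bE := Module.finBasisOfFinrankEq F E hEd
    have hspan : ⊤ ≤ Submodule.span F (Set.range ![u, A *ᵥ u, (bE 0 : Fin 4 → F), (bE 1 : Fin 4 → F)]) := by
      rw [← hsup]
      refine sup_le (Submodule.span_le.2 ?_) fun f hf => ?_
      · rintro z (rfl | rfl)
        · exact Submodule.subset_span ⟨0, rfl⟩
        · exact Submodule.subset_span ⟨1, rfl⟩
      · have e := congrArg Subtype.val (bE.sum_repr ⟨f, hf⟩)
        simp only [Fin.sum_univ_two, Submodule.coe_add, Submodule.coe_smul] at e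
        rw [← e]
        exact Submodule.add_mem _ (Submodule.smul_mem _ _ (Submodule.subset_span ⟨2, rfl⟩))
          (Submodule.smul_mem _ _ (Submodule.subset_span ⟨3, rfl⟩))
    obtain ⟨P, hP⟩ := unit_of_indep (linearIndependent_of_top_le_span_of_card_eq_finrank hspan
      (by rw [Module.finrank_pi]))
    have hD0 : (Matrix.diagonal ![(1 : F), 1, ((P : M4).det)⁻¹, 1]).det ≠ 0 := by
      rw [Matrix.det_diagonal]
      simp [Fin.prod_univ_four, hdet]
    let M : G4 := Matrix.GeneralLinearGroup.mkOfDetNeZero _ hD0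
    have hxP : A * (P : M4) = (P : M4) * blk 0 (-1) 1 (-1) := by
      ext i j
      have e : (A * (P : M4)) i j = (A *ᵥ (P : M4).col j) i := rfl
      have e' : ∀ k, (P : M4) i k = (P : M4).col k i := fun k => rfl
      rw [e, Matrix.mul_apply, hP]
      simp only [e', hP, Fin.sum_univ_four]
      fin_cases j <;> simp [blk, hAu, (hEmem _).1 (bE 0).2, (hEmem _).1 (bE 1).2] <;> ring
    refine ⟨P * M, ?_, Or.inr ⟨h0, frame_mul hxP ?_⟩⟩
    · rw [Units.val_mul, Matrix.det_mul]
      show _ * (Matrix.diagonal ![(1 : F), 1, ((P : M4).det)⁻¹, 1]).det = 1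
      rw [Matrix.det_diagonal]
      simp [Fin.prod_univ_four, mul_inv_cancel₀ hdet]
    · show Matrix.diagonal ![(1 : F), 1, ((P : M4).det)⁻¹, 1] * blk 0 (-1) 1 (-1) =
        blk 0 (-1) 1 (-1) * Matrix.diagonal ![(1 : F), 1, ((P : M4).det)⁻¹, 1]
      ext i j
      simp only [Matrix.diagonal_mul, Matrix.mul_diagonal]
      fin_cases i <;> fin_cases j <;> simp [blk]

/-- Elements of order three are conjugate to the representatives by determinant one. -/
theorem three_conj [Fintype F] (h2 : (2 : F) ≠ 0) (h3 : (3 : F) ≠ 0) (hno : ∀ w : F, w * w + w + 1 ≠ 0)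
    {x y : G4} (hx : x ^ 3 = 1) (hx1 : x ≠ 1) (hy : y ^ 3 = 1) (hy1 : y ≠ 1)
    (htype : (x : M4) * x + x + 1 = 0 ↔ (y : M4) * y + y + 1 = 0) :
    ∃ g : G4, (g : M4).det = 1 ∧ g⁻¹ * x * g = y := by
  obtain ⟨P, hP, hPx⟩ := three_normal h2 h3 hno hx hx1
  obtain ⟨Q, hQ, hQy⟩ := three_normal h2 h3 hno hy hy1
  refine ⟨P * Q⁻¹, ?_, ?_⟩
  · have e : ((Q⁻¹ : G4) : M4).det = 1 := by
      have := congrArg Matrix.det (show ((Q⁻¹ : G4) : M4) * (Q : M4) = 1 by
        rw [← Units.val_mul, inv_mul_cancel, Units.val_one])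
      rwa [Matrix.det_mul, hQ, mul_one, Matrix.det_one] at this
    rw [Units.val_mul, Matrix.det_mul, hP, e, one_mul]
  · rcases hPx with ⟨a, e1⟩ | ⟨a, e1⟩ <;> rcases hQy with ⟨b, e2⟩ | ⟨b, e2⟩
    · exact conj_of_frames e1 e2
    · exact absurd (htype.1 a) b
    · exact absurd (htype.2 b) a
    · exact conj_of_frames e1 e2

end Cfsg.Agent.Symp4
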