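import Cfsg.Agent.Symp4.Scalars

/-!
# Elements of order three of the unitary group when the cube roots of unity are fixed by the involution
-/

set_option autoImplicit false
set_option linter.unusedSectionVars false
set_option linter.style.haveILetI false

namespace Cfsg.Agent.Symp4

open Matrix Cfsg.Agent.Classical Cfsg.Agent.Classical.Herm

variable {F : Type*} [Field F] {σ : F →+* F}

local notation "M4" => Matrix (Fin 4) (Fin 4) F
local notation "G4" => GL (Fin 4) F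

theorem adj_mul_apply {n : ℕ} (A B : Matrix (Fin n) (Fin n) F) (i j : Fin n) :
    (adj σ A * B) i j = hermB n σ (A.col i) (B.col j) := by
  simp [adj, Matrix.mul_apply, hermB_apply]

theorem mem_GU_adj {n q : ℕ} (hσq : ∀ x, σ x = x ^ q) (g : GL (Fin n) F) :
    g ∈ Cfsg.GU n F q ↔ adj σ (g : Matrix (Fin n) (Fin n) F) * (g : Matrix (Fin n) (Fin n) F) = 1 := by
  rw [mem_GU_iff hσq, preserves_iff_cols, ← Matrix.ext_iff]
  simp only [adj_mul_apply, Matrix.one_apply, Herm.IsON, Matrix.mulVec_single_one]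

/-- An invariant subspace on which the form is non-degenerate. -/
structure Part (σ : F →+* F) (A : M4) (P : Submodule F (Fin 4 → F)) : Prop where
  inv : ∀ v ∈ P, A *ᵥ v ∈ P
  nd : ∀ v ∈ P, v ≠ 0 → ∃ q ∈ P, hermB 4 σ v q ≠ 0

/-- The setting of an element of order three with fixed cube roots of unity. -/
structure ThreeData (σ : F →+* F) (w : F) (A : M4) : Prop where
  invol : IsInvol σ
  hw : w * w + w + 1 = 0
  fix : σ w = w
  three : (3 : F) ≠ 0
  cube : A * A * A = 1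
  pres : adj σ A * A = 1

namespace ThreeData

variable {w : F} {A : Matrix (Fin 4) (Fin 4) F} (D : ThreeData σ w A)
include D

theorem w3 : w * w * w = 1 := by linear_combination (w - 1) * D.hw

theorem w_ne_one : w ≠ 1 := fun e => by
  have h := D.hw
  rw [e] at h
  exact D.three (by linear_combination h)

theorem ww_ne_one : w * w ≠ 1 := fun e => D.w_ne_one (by
  have h := D.w3
  rwa [e, one_mul] at h)

theorem w_ne_zero : w ≠ 0 := fun e => by
  have h := D.hw
  rw [e] at h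
  simp at h

theorem cube_vec (v : Fin 4 → F) : A *ᵥ (A *ᵥ (A *ᵥ v)) = v := by
  rw [Matrix.mulVec_mulVec, Matrix.mulVec_mulVec, D.cube, Matrix.one_mulVec]

theorem pres_vec (u v : Fin 4 → F) : hermB 4 σ (A *ᵥ u) (A *ᵥ v) = hermB 4 σ u v := by
  have h : ((hermB 4 σ).compl₂ A.mulVecLin).comp A.mulVecLin = hermB 4 σ := by
    refine (Pi.basisFun F (Fin 4)).ext fun i => (Pi.basisFun F (Fin 4)).ext fun j => ?_
    simp only [Pi.basisFun_apply, LinearMap.comp_apply, LinearMap.compl₂_apply, Matrix.mulVecLin_apply,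
      Matrix.mulVec_single_one]
    rw [← adj_mul_apply, D.pres, isON_single 4 i j, Matrix.one_apply]
  exact LinearMap.congr_fun (LinearMap.congr_fun h u) v

theorem eig_orth {a b : F} {u v : Fin 4 → F} (hu : A *ᵥ u = a • u) (hv : A *ᵥ v = b • v)
    (hab : σ a * b ≠ 1) : hermB 4 σ u v = 0 := by
  have h := D.pres_vec u v
  rw [hu, hv] at h
  simp only [map_smulₛₗ, LinearMap.smul_apply, smul_eq_mul, RingHom.id_apply] at h
  exact (mul_eq_zero.1 (show (σ a * b - 1) * hermB 4 σ u v = 0 by linear_combination h)).resolve_left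
    (sub_ne_zero.2 hab)

theorem sigma_ww : σ (w * w) = w * w := by rw [map_mul, D.fix]

/-- The components of a vector in the three eigenspaces. -/
theorem comps (P : Submodule F (Fin 4 → F)) (hP : ∀ v ∈ P, A *ᵥ v ∈ P) {v : Fin 4 → F} (hv : v ∈ P) :
    ∃ a b c, a ∈ P ∧ b ∈ P ∧ c ∈ P ∧ A *ᵥ a = w • a ∧ A *ᵥ b = (w * w) • b ∧ A *ᵥ c = c ∧ v = a + b + c := by
  refine ⟨(3 : F)⁻¹ • (v + (w * w) • (A *ᵥ v) + w • (A *ᵥ (A *ᵥ v))),
    (3 : F)⁻¹ • (v + w • (A *ᵥ v) + (w * w) • (A *ᵥ (A *ᵥ v))),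
    (3 : F)⁻¹ • (v + A *ᵥ v + A *ᵥ (A *ᵥ v)),
    P.smul_mem _ (P.add_mem (P.add_mem hv (P.smul_mem _ (hP v hv))) (P.smul_mem _ (hP _ (hP v hv)))),
    P.smul_mem _ (P.add_mem (P.add_mem hv (P.smul_mem _ (hP v hv))) (P.smul_mem _ (hP _ (hP v hv)))),
    P.smul_mem _ (P.add_mem (P.add_mem hv (hP v hv)) (hP _ (hP v hv))), ?_, ?_, ?_, ?_⟩
  · simp only [Matrix.mulVec_smul, Matrix.mulVec_add, D.cube_vec]
    match_scalars <;> first | ring1 | linear_combination -(3 : F)⁻¹ * D.w3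
  · simp only [Matrix.mulVec_smul, Matrix.mulVec_add, D.cube_vec]
    match_scalars <;> first | ring1 | linear_combination -(3 : F)⁻¹ * D.w3 | linear_combination -(w * (3 : F)⁻¹) * D.w3
  · simp only [Matrix.mulVec_smul, Matrix.mulVec_add, D.cube_vec]
    module
  · match_scalars
    · linear_combination -mul_inv_cancel₀ D.three
    · linear_combination -(3 : F)⁻¹ * D.hw
    · linear_combination -(3 : F)⁻¹ * D.hw

/-- Either a hyperbolic pair of eigenvectors or everything is fixed. -/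
theorem pair_or_fixed {P : Submodule F (Fin 4 → F)} (hP : Part σ A P) :
    (∃ u ∈ P, ∃ t ∈ P, A *ᵥ u = w • u ∧ A *ᵥ t = (w * w) • t ∧ hermB 4 σ u t = 1) ∨ ∀ v ∈ P, A *ᵥ v = v := by
  have hw1 := D.w_ne_one
  have hww1 := D.ww_ne_one
  have hB := hermB_isHerm D.invol 4
  have scale : ∀ {u t : Fin 4 → F}, u ∈ P → t ∈ P → A *ᵥ u = w • u → A *ᵥ t = (w * w) • t →
      hermB 4 σ u t ≠ 0 →
      ∃ u ∈ P, ∃ t ∈ P, A *ᵥ u = w • u ∧ A *ᵥ t = (w * w) • t ∧ hermB 4 σ u t = 1 := by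
    intro u t hu ht hAu hAt hne
    exact ⟨u, hu, (hermB 4 σ u t)⁻¹ • t, P.smul_mem _ ht, hAu, by rw [Matrix.mulVec_smul, hAt, smul_comm],
      by rw [map_smul, smul_eq_mul, inv_mul_cancel₀ hne]⟩
  refine or_iff_not_imp_left.2 fun hno v hv => ?_
  obtain ⟨a, b, c, ha, hb, hc, hAa, hAb, hAc, rfl⟩ := D.comps P hP.inv hv
  have hc1 : A *ᵥ c = (1 : F) • c := by rw [one_smul]; exact hAc
  have ha0 : a = 0 := by
    by_contra ha0
    obtain ⟨q, hq, hne⟩ := hP.nd a ha ha0
    obtain ⟨a', b', c', ha', hb', hc', hAa', hAb', hAc', rfl⟩ := D.comps P hP.inv hq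
    rw [map_add, map_add, D.eig_orth hAa hAa' (by rw [D.fix]; exact hww1),
      D.eig_orth hAa (show A *ᵥ c' = (1 : F) • c' by rw [one_smul]; exact hAc') (by rw [D.fix, mul_one]; exact hw1),
      zero_add, add_zero] at hne
    exact hno (scale ha hb' hAa hAb' hne)
  have hb0 : b = 0 := by
    by_contra hb0
    obtain ⟨q, hq, hne⟩ := hP.nd b hb hb0
    obtain ⟨a', b', c', ha', hb', hc', hAa', hAb', hAc', rfl⟩ := D.comps P hP.inv hq
    rw [map_add, map_add, D.eig_orth hAb hAb' (by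
        rw [D.sigma_ww, show w * w * (w * w) = w by linear_combination w * D.w3]; exact hw1),
      D.eig_orth hAb (show A *ᵥ c' = (1 : F) • c' by rw [one_smul]; exact hAc') (by
        rw [D.sigma_ww, mul_one]; exact hww1), add_zero, add_zero] at hne
    exact hno (scale ha' hb hAa' hAb fun e => hne ((eq_zero_comm hB).1 e))
  rw [ha0, hb0, zero_add, zero_add]
  exact hAc

theorem top_part : Part σ A ⊤ :=
  ⟨fun _ _ => Submodule.mem_top, fun v _ hv => by
    by_contra hcon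
    push Not at hcon
    exact hv ((hermB_isHerm D.invol 4).nondeg v fun q => hcon q Submodule.mem_top)⟩

/-- Removing a hyperbolic pair of eigenvectors. -/
theorem remove_pair {P : Submodule F (Fin 4 → F)} (hP : Part σ A P) {u t : Fin 4 → F} (hu : u ∈ P) (ht : t ∈ P)
    (hAu : A *ᵥ u = w • u) (hAt : A *ᵥ t = (w * w) • t) (hut : hermB 4 σ u t = 1) :
    ∃ P' : Submodule F (Fin 4 → F), P' ≤ P ∧ Part σ A P' ∧
      (∀ v ∈ P', hermB 4 σ u v = 0 ∧ hermB 4 σ t v = 0) ∧ P ≤ Submodule.span F ({u, t} : Set _) ⊔ P' := by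
  have hB := hermB_isHerm D.invol 4
  have huu : hermB 4 σ u u = 0 := D.eig_orth hAu hAu (by rw [D.fix]; exact D.ww_ne_one)
  have htt : hermB 4 σ t t = 0 := D.eig_orth hAt hAt (by
    rw [D.sigma_ww, show w * w * (w * w) = w by linear_combination w * D.w3]; exact D.w_ne_one)
  have htu : hermB 4 σ t u = 1 := by rw [← hB.symm, hut, map_one]
  let P' := P ⊓ (LinearMap.ker (hermB 4 σ u) ⊓ LinearMap.ker (hermB 4 σ t))
  have hmem : ∀ v, v ∈ P' ↔ v ∈ P ∧ hermB 4 σ u v = 0 ∧ hermB 4 σ t v = 0 := fun v => by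
    simp [P', LinearMap.mem_ker]
  let π : (Fin 4 → F) → (Fin 4 → F) := fun v => v - hermB 4 σ t v • u - hermB 4 σ u v • t
  have hπ : ∀ v ∈ P, π v ∈ P' := fun v hv => (hmem _).2
    ⟨P.sub_mem (P.sub_mem hv (P.smul_mem _ hu)) (P.smul_mem _ ht),
      by simp only [π, map_sub, map_smul, smul_eq_mul, huu, hut]; ring,
      by simp only [π, map_sub, map_smul, smul_eq_mul, htt, htu]; ring⟩
  refine ⟨P', inf_le_left, ⟨fun v hv => ?_, fun v hv hv0 => ?_⟩, fun v hv => ((hmem v).1 hv).2, fun v hv => ?_⟩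
  · obtain ⟨hvP, h1, h2⟩ := (hmem v).1 hv
    refine (hmem _).2 ⟨hP.inv v hvP, ?_, ?_⟩
    · have e := D.pres_vec u v
      rw [hAu, map_smulₛₗ, LinearMap.smul_apply, smul_eq_mul, h1, D.fix] at e
      exact (mul_eq_zero.1 e).resolve_left D.w_ne_zero
    · have e := D.pres_vec t v
      rw [hAt, map_smulₛₗ, LinearMap.smul_apply, smul_eq_mul, h2, D.sigma_ww] at e
      exact (mul_eq_zero.1 e).resolve_left (mul_ne_zero D.w_ne_zero D.w_ne_zero)
  · obtain ⟨hvP, h1, h2⟩ := (hmem v).1 hv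
    obtain ⟨q, hq, hne⟩ := hP.nd v hvP hv0
    refine ⟨π q, hπ q hq, ?_⟩
    simp only [π, map_sub, map_smul, (eq_zero_comm hB).1 h1, (eq_zero_comm hB).1 h2, smul_zero, sub_zero]
    exact hne
  · rw [show v = (hermB 4 σ t v • u + hermB 4 σ u v • t) + π v by simp only [π]; abel]
    exact Submodule.add_mem_sup (Submodule.add_mem _ (Submodule.smul_mem _ _ (Submodule.subset_span (by simp)))
      (Submodule.smul_mem _ _ (Submodule.subset_span (by simp)))) (hπ v hv)

/-- Removing a fixed vector of norm one. -/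
theorem remove_one {P : Submodule F (Fin 4 → F)} (hP : Part σ A P) {f : Fin 4 → F} (hf : f ∈ P)
    (hAf : A *ᵥ f = f) (hff : hermB 4 σ f f = 1) :
    ∃ P' : Submodule F (Fin 4 → F), P' ≤ P ∧ Part σ A P' ∧ (∀ v ∈ P', hermB 4 σ f v = 0) ∧
      P ≤ Submodule.span F ({f} : Set _) ⊔ P' := by
  have hB := hermB_isHerm D.invol 4
  let P' := P ⊓ LinearMap.ker (hermB 4 σ f)
  have hmem : ∀ v, v ∈ P' ↔ v ∈ P ∧ hermB 4 σ f v = 0 := fun v => by simp [P', LinearMap.mem_ker]
  let π : (Fin 4 → F) → (Fin 4 → F) := fun v => v - hermB 4 σ f v • f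
  have hπ : ∀ v ∈ P, π v ∈ P' := fun v hv => (hmem _).2
    ⟨P.sub_mem hv (P.smul_mem _ hf), by simp only [π, map_sub, map_smul, smul_eq_mul, hff]; ring⟩
  refine ⟨P', inf_le_left, ⟨fun v hv => ?_, fun v hv hv0 => ?_⟩, fun v hv => ((hmem v).1 hv).2, fun v hv => ?_⟩
  · obtain ⟨hvP, h1⟩ := (hmem v).1 hv
    refine (hmem _).2 ⟨hP.inv v hvP, ?_⟩
    have e := D.pres_vec f v
    rw [hAf, h1] at e
    exact e
  · obtain ⟨hvP, h1⟩ := (hmem v).1 hv
    obtain ⟨q, hq, hne⟩ := hP.nd v hvP hv0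
    refine ⟨π q, hπ q hq, ?_⟩
    simp only [π, map_sub, map_smul, (eq_zero_comm hB).1 h1, smul_zero, sub_zero]
    exact hne
  · rw [show v = hermB 4 σ f v • f + π v by simp only [π]; abel]
    exact Submodule.add_mem_sup (Submodule.smul_mem _ _ (Submodule.subset_span (by simp))) (hπ v hv)

theorem exists_fixed_unit [Fintype F] {P : Submodule F (Fin 4 → F)} (hP : Part σ A P)
    (hfix : ∀ v ∈ P, A *ᵥ v = v) (hne : P ≠ ⊥) : ∃ f ∈ P, A *ᵥ f = f ∧ hermB 4 σ f f = 1 := by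
  have hB := hermB_isHerm D.invol 4
  obtain ⟨v, hv, hv0⟩ := Submodule.exists_mem_ne_zero_of_ne_bot hne
  obtain ⟨q, hq, hvq⟩ := hP.nd v hv hv0
  obtain ⟨g, hg, hgg⟩ := exists_anisotropic hB P ⟨v, hv, q, hq, hvq⟩
  obtain ⟨c, hc⟩ := exists_unit_of_ne_zero hB hgg
  exact ⟨c • g, P.smul_mem _ hg, hfix _ (P.smul_mem _ hg), hc⟩

omit D in
theorem span_lt_top {s : Finset (Fin 4 → F)} (hs : s.card ≤ 3) :
    Submodule.span F (s : Set (Fin 4 → F)) ≠ ⊤ := by
  intro e
  have h := finrank_span_finset_le_card (R := F) s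
  rw [Set.finrank, e, finrank_top, Module.finrank_pi, Fintype.card_fin] at h
  omega

/-- The two normal forms. -/
theorem normal_form [Fintype F] (hA1 : A ≠ 1) :
    ∃ P : G4,
      (A * A + A + 1 = 0 ∧ A * (P : M4) = (P : M4) * Matrix.diagonal ![w, w, w * w, w * w] ∧
        adj σ (P : M4) * (P : M4) = !![0, 0, 1, 0; 0, 0, 0, 1; 1, 0, 0, 0; 0, 1, 0, 0]) ∨
      (A * A + A + 1 ≠ 0 ∧ A * (P : M4) = (P : M4) * Matrix.diagonal ![w, w * w, 1, 1] ∧
        adj σ (P : M4) * (P : M4) = !![0, 1, 0, 0; 1, 0, 0, 0; 0, 0, 1, 0; 0, 0, 0, 1]) := by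
  classical
  have hB := hermB_isHerm D.invol 4
  obtain ⟨u, -, t, -, hAu, hAt, hut⟩ := (D.pair_or_fixed D.top_part).resolve_right fun hall =>
    hA1 (Matrix.ext_iff_mulVec.2 fun v => by rw [Matrix.one_mulVec]; exact hall v Submodule.mem_top)
  obtain ⟨P1, -, hP1, hp1, hs1⟩ := D.remove_pair D.top_part Submodule.mem_top Submodule.mem_top hAu hAt hut
  have mk : ∀ (a : Fin 4 → Fin 4 → F) (d : Fin 4 → F) (G : M4), G.det ≠ 0 → (∀ j, A *ᵥ a j = d j • a j) →
      (∀ i j, hermB 4 σ (a i) (a j) = G i j) →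
      ∃ P : G4, (∀ j, (P : M4).col j = a j) ∧ A * (P : M4) = (P : M4) * Matrix.diagonal d ∧
        adj σ (P : M4) * (P : M4) = G := by
    intro a d G hG hA hGram
    have e : adj σ ((Matrix.of a)ᵀ) * (Matrix.of a)ᵀ = G := by
      ext i j
      rw [adj_mul_apply]
      exact hGram i j
    have hu : IsUnit ((Matrix.of a)ᵀ) := (Matrix.isUnit_iff_isUnit_det _).2 (isUnit_iff_ne_zero.2 fun h0 => hG (by
      rw [← e, Matrix.det_mul, h0, mul_zero]))
    refine ⟨hu.unit, fun j => by rw [hu.unit_spec]; rfl, ?_, by rw [hu.unit_spec]; exact e⟩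
    rw [hu.unit_spec]
    ext i j
    rw [Matrix.mul_diagonal]
    show (A *ᵥ a j) i = a j i * d j
    rw [hA, Pi.smul_apply, smul_eq_mul, mul_comm]
  have hw1 := D.w_ne_one
  have hww1 := D.ww_ne_one
  have huu : hermB 4 σ u u = 0 := D.eig_orth hAu hAu (by rw [D.fix]; exact hww1)
  have htt : hermB 4 σ t t = 0 := D.eig_orth hAt hAt (by
    rw [D.sigma_ww, show w * w * (w * w) = w by linear_combination w * D.w3]; exact hw1)
  have htu : hermB 4 σ t u = 1 := by rw [← hB.symm, hut, map_one]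
  rcases D.pair_or_fixed hP1 with ⟨u', hu', t', ht', hAu', hAt', hut'⟩ | hfix
  · have huu' : hermB 4 σ u' u' = 0 := D.eig_orth hAu' hAu' (by rw [D.fix]; exact hww1)
    have htt' : hermB 4 σ t' t' = 0 := D.eig_orth hAt' hAt' (by
      rw [D.sigma_ww, show w * w * (w * w) = w by linear_combination w * D.w3]; exact hw1)
    have htu' : hermB 4 σ t' u' = 1 := by rw [← hB.symm, hut', map_one]
    obtain ⟨a1, a2⟩ := hp1 u' hu'
    obtain ⟨a3, a4⟩ := hp1 t' ht'
    obtain ⟨P, hcol, hAP, hG⟩ := mk ![u, u', t, t'] ![w, w, w * w, w * w]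
      !![0, 0, 1, 0; 0, 0, 0, 1; 1, 0, 0, 0; 0, 1, 0, 0]
      (by simp [Matrix.det_succ_row_zero, Fin.sum_univ_succ, Fin.succAbove])
      (fun j => by fin_cases j <;> simp [hAu, hAu', hAt, hAt'])
      (fun i j => by
        fin_cases i <;> fin_cases j <;>
          simp [huu, htt, hut, htu, huu', htt', hut', htu', a1, a2, a3, a4, (eq_zero_comm hB).1 a1,
            (eq_zero_comm hB).1 a2, (eq_zero_comm hB).1 a3, (eq_zero_comm hB).1 a4])
    refine ⟨P, Or.inl ⟨?_, hAP, hG⟩⟩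
    have e : (A * A + A + 1) * (P : M4) =
        (P : M4) * (Matrix.diagonal ![w, w, w * w, w * w] * Matrix.diagonal ![w, w, w * w, w * w] +
          Matrix.diagonal ![w, w, w * w, w * w] + 1) := by
      rw [Matrix.add_mul, Matrix.add_mul, Matrix.mul_assoc, hAP, ← Matrix.mul_assoc, hAP, Matrix.mul_add,
        Matrix.mul_add, Matrix.one_mul, Matrix.mul_one, Matrix.mul_assoc]
    rw [show Matrix.diagonal ![w, w, w * w, w * w] * Matrix.diagonal ![w, w, w * w, w * w] +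
        Matrix.diagonal ![w, w, w * w, w * w] + 1 = 0 by
      rw [Matrix.diagonal_mul_diagonal, ← Matrix.diagonal_one, Matrix.diagonal_add, Matrix.diagonal_add,
        ← Matrix.diagonal_zero]
      congr 1
      funext i
      fin_cases i <;> simp <;> first | exact D.hw | linear_combination w * D.w3 + D.hw,
      Matrix.mul_zero] at e
    have e2 := congrArg (· * ((P⁻¹ : G4) : M4)) e
    simpa only [Matrix.mul_assoc, ← Units.val_mul, mul_inv_cancel, Units.val_one, Matrix.mul_one,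
      Matrix.zero_mul] using e2
  · have hne1 : P1 ≠ ⊥ := by
      intro e
      rw [e, sup_bot_eq] at hs1
      exact span_lt_top (s := {u, t}) ((Finset.card_le_two).trans (by norm_num))
        (by rw [Finset.coe_pair]; exact top_le_iff.1 hs1)
    obtain ⟨f, hf, hAf, hff⟩ := D.exists_fixed_unit hP1 hfix hne1
    obtain ⟨P2, hP21, hP2, hp2, hs2⟩ := D.remove_one hP1 hf hAf hff
    have hne2 : P2 ≠ ⊥ := by
      intro e
      rw [e, sup_bot_eq] at hs2
      have h3 : (⊤ : Submodule F (Fin 4 → F)) ≤ Submodule.span F (({u, t, f} : Finset (Fin 4 → F)) : Set _) := by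
        refine hs1.trans (sup_le (Submodule.span_mono ?_) (hs2.trans (Submodule.span_mono ?_))) <;>
          intro z hz <;> simp at hz ⊢ <;> tauto
      exact span_lt_top Finset.card_le_three (top_le_iff.1 h3)
    obtain ⟨g, hg, hAg, hgg⟩ := D.exists_fixed_unit hP2 (fun v hv => hfix v (hP21 hv)) hne2
    obtain ⟨a1, a2⟩ := hp1 f hf
    obtain ⟨a3, a4⟩ := hp1 g (hP21 hg)
    have a5 := hp2 g hg
    obtain ⟨P, hcol, hAP, hG⟩ := mk ![u, t, f, g] ![w, w * w, 1, 1]
      !![0, 1, 0, 0; 1, 0, 0, 0; 0, 0, 1, 0; 0, 0, 0, 1]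
      (by simp [Matrix.det_succ_row_zero, Fin.sum_univ_succ, Fin.succAbove])
      (fun j => by fin_cases j <;> simp [hAu, hAt, hAf, hAg])
      (fun i j => by
        fin_cases i <;> fin_cases j <;>
          simp [huu, htt, hut, htu, hff, hgg, a1, a2, a3, a4, a5, (eq_zero_comm hB).1 a1,
            (eq_zero_comm hB).1 a2, (eq_zero_comm hB).1 a3, (eq_zero_comm hB).1 a4, (eq_zero_comm hB).1 a5])
    refine ⟨P, Or.inr ⟨fun e => ?_, hAP, hG⟩⟩
    have e' := congrArg (· *ᵥ f) e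
    simp only [Matrix.add_mulVec, ← Matrix.mulVec_mulVec, hAf, Matrix.one_mulVec, Matrix.zero_mulVec] at e'
    have e3 : (3 : F) • f = 0 := by rw [← e']; module
    rw [smul_eq_zero] at e3
    rcases e3 with e3 | e3
    · exact D.three e3
    · rw [e3] at hff; simp at hff

end ThreeData

/-- Elements of order three of the same kind are conjugate by unitary matrices of determinant one. -/
theorem three_conj_unitary [Fintype F] {w : F} {q : ℕ} (hσq : ∀ x, σ x = x ^ q) {x y : G4}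
    (hx : ThreeData σ w (x : M4)) (hy : ThreeData σ w (y : M4)) (hx1 : x ≠ 1) (hy1 : y ≠ 1)
    (htype : (x : M4) * x + x + 1 = 0 ↔ (y : M4) * y + y + 1 = 0) :
    ∃ g ∈ Cfsg.GU 4 F q, (g : M4).det = 1 ∧ g⁻¹ * x * g = y := by
  have hσ := hx.invol
  have ne1 : ∀ {a : G4}, a ≠ 1 → (a : M4) ≠ 1 := fun {a} h e => h (Units.ext e)
  obtain ⟨P, hP⟩ := hx.normal_form (ne1 hx1)
  obtain ⟨Q, hQ⟩ := hy.normal_form (ne1 hy1)
  -- the common shape of both cases
  have core : ∀ {d : Fin 4 → F} {G : M4}, (x : M4) * (P : M4) = (P : M4) * Matrix.diagonal d →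
      (y : M4) * (Q : M4) = (Q : M4) * Matrix.diagonal d → adj σ (P : M4) * (P : M4) = G →
      adj σ (Q : M4) * (Q : M4) = G →
      (∀ δ : F, δ * σ δ = 1 → ∃ m : Fin 4 → F, (∏ i, m i) = δ ∧
        adj σ (Matrix.diagonal m) * G * Matrix.diagonal m = G) →
      ∃ g ∈ Cfsg.GU 4 F q, (g : M4).det = 1 ∧ g⁻¹ * x * g = y := by
    intro d G hxP hyQ hPG hQG hfix
    have hQQ : adj σ ((Q⁻¹ : G4) : M4) * adj σ (Q : M4) = 1 := by
      rw [← adj_mul, ← Units.val_mul, mul_inv_cancel, Units.val_one, adj_one]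
    have hg0 : P * Q⁻¹ ∈ Cfsg.GU 4 F q := by
      rw [mem_GU_adj hσq, Units.val_mul, adj_mul, Matrix.mul_assoc, ← Matrix.mul_assoc (adj σ (P : M4)), hPG,
        ← hQG, Matrix.mul_assoc (adj σ (Q : M4)), ← Units.val_mul Q Q⁻¹, mul_inv_cancel, Units.val_one,
        Matrix.mul_one, hQQ]
    have hn := det_norm_GU hσq hg0
    have hd0 : ((P * Q⁻¹ : G4) : M4).det ≠ 0 := (Matrix.GeneralLinearGroup.det (P * Q⁻¹)).ne_zero
    obtain ⟨m, hm, hmG⟩ := hfix (((P * Q⁻¹ : G4) : M4).det)⁻¹ (by rw [map_inv₀, ← mul_inv, hn, inv_one])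
    have hmd : (Matrix.diagonal m).det ≠ 0 := by
      rw [Matrix.det_diagonal, hm]; exact inv_ne_zero hd0
    let M : G4 := Matrix.GeneralLinearGroup.mkOfDetNeZero _ hmd
    have hMd : (M : M4) * Matrix.diagonal d = Matrix.diagonal d * (M : M4) := by
      show Matrix.diagonal m * _ = _ * Matrix.diagonal m
      rw [Matrix.diagonal_mul_diagonal, Matrix.diagonal_mul_diagonal]
      congr 1
      funext i
      ring
    have hPMG : adj σ ((P * M : G4) : M4) * ((P * M : G4) : M4) = G := by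
      rw [Units.val_mul, adj_mul, Matrix.mul_assoc, ← Matrix.mul_assoc (adj σ (P : M4)), hPG, ← Matrix.mul_assoc]
      exact hmG
    refine ⟨P * M * Q⁻¹, ?_, ?_, conj_of_frames (frame_mul hxP hMd) hyQ⟩
    · rw [mem_GU_adj hσq, Units.val_mul, adj_mul, Matrix.mul_assoc, ← Matrix.mul_assoc (adj σ ((P * M : G4) : M4)),
        hPMG, ← hQG, Matrix.mul_assoc (adj σ (Q : M4)), ← Units.val_mul Q Q⁻¹, mul_inv_cancel, Units.val_one,
        Matrix.mul_one, hQQ]
    · rw [Units.val_mul, Matrix.det_mul, Units.val_mul, Matrix.det_mul]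
      show (P : M4).det * (Matrix.diagonal m).det * ((Q⁻¹ : G4) : M4).det = 1
      rw [Matrix.det_diagonal, hm, mul_right_comm, ← Matrix.det_mul, ← Units.val_mul, mul_inv_cancel₀ hd0]
  rcases hP with ⟨a, e1, e2⟩ | ⟨a, e1, e2⟩ <;> rcases hQ with ⟨b, f1, f2⟩ | ⟨b, f1, f2⟩
  · refine core e1 f1 e2 f2 fun δ hδ => ?_
    obtain ⟨z, hz0, hz⟩ := exists_conj_quot hσ hδ
    have hsz : σ z ≠ 0 := fun e => hz0 (by rw [← hσ.invol z, e, map_zero])
    refine ⟨![z, 1, (σ z)⁻¹, 1], by simpa [Fin.prod_univ_four, div_eq_mul_inv] using hz, ?_⟩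
    ext i j
    simp only [adj, Matrix.diagonal_map (map_zero σ), Matrix.diagonal_transpose, Matrix.diagonal_mul,
      Matrix.mul_diagonal]
    fin_cases i <;> fin_cases j <;> simp [hσ.invol, hz0, hsz]
  · exact absurd (htype.1 a) b
  · exact absurd (htype.2 b) a
  · refine core e1 f1 e2 f2 fun δ hδ => ⟨![1, 1, δ, 1], by simp [Fin.prod_univ_four], ?_⟩
    ext i j
    simp only [adj, Matrix.diagonal_map (map_zero σ), Matrix.diagonal_transpose, Matrix.diagonal_mul,
      Matrix.mul_diagonal]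
    fin_cases i <;> fin_cases j <;> simp [mul_comm (σ δ), hδ]

end Cfsg.Agent.Symp4
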